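import Mathlib
import Cfsg.Agent.KFacts.TwF4.Sys
import Cfsg.Agent.OddHalf.DblR.Basic
import Cfsg.Agent.KFacts.TwF4.Torus
import Cfsg.Agent.KFacts.TwF4.Perf
import Cfsg.Agent.KFacts.TwF4.CentR
import Cfsg.Agent.KFacts.TwF4.TorFix
import Cfsg.Agent.KFacts.TwF4.SylU
import Cfsg.Agent.OddHalf.D4.Basic
import Cfsg.Agent.OddHalf.D4.CommConj
import Cfsg.Agent.S0001
import Cfsg.Agent.KFacts.TwF4.Layers
import Cfsg.Agent.OddHalf.D4.Pair3
import Cfsg.Agent.KFacts.TwF4.OutTwo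

-- merged: Cfsg.Agent.OddHalf.D4.TwF.Field
section

/-!
# Weights for `²F₄(q)`

`F` a field of characteristic two with an endomorphism `σ`, `σ σ = Frobenius`. Additive maps `F → F` which are
homogeneous with respect to different powers are zero.
-/

set_option autoImplicit false
set_option linter.unusedSectionVars false

namespace Cfsg.Agent.OddHalf.D4.TwF.Field

variable {F : Type*} [Field F] [CharP F 2] {σ : F →+* F}

theorem add_self (x : F) : x + x = 0 := CharTwo.add_self_eq_zero x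

theorem eq_of_add {x y : F} (h : x + y = 0) : x = y := by
  have h1 : x = x + y + y := by rw [add_assoc, add_self, add_zero]
  rw [h1, h, zero_add]

/-- the fixed points of `σ` -/
theorem fix (hσ : ∀ x, σ (σ x) = x ^ 2) {x : F} (h : σ x = x) : x = 0 ∨ x = 1 := by
  have h1 := hσ x
  rw [h, h] at h1
  have h2 : x * (x - 1) = 0 := by ring_nf; rw [← h1]; ring
  rcases mul_eq_zero.mp h2 with h3 | h3
  · exact Or.inl h3
  · exact Or.inr (sub_eq_zero.mp h3)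

/-- `σ` has an inverse `τ` -/
structure Inv (σ : F →+* F) (τ : F →+* F) : Prop where
  sq : ∀ x, σ (σ x) = x ^ 2
  l : ∀ x, τ (σ x) = x
  r : ∀ x, σ (τ x) = x
  big : ∃ x : F, x ≠ 0 ∧ x ≠ 1

variable {τ : F →+* F}

/-- `τ (x²) = σ x` -/
theorem Inv.τ_sq (I : Inv σ τ) (x : F) : τ (x * x) = σ x := by
  rw [← pow_two, ← I.sq, I.l]

/-- `τ τ` is the inverse of Frobenius -/
theorem Inv.ττ (I : Inv σ τ) (x : F) : τ (τ x) ^ 2 = x := by
  rw [← I.sq, I.r, I.r]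

/-- an additive map with `ψ (c x) = ψ x` for all `c ≠ 0` -/
theorem zero_of_inv (I : Inv σ τ) {ψ : F → F} (hadd : ∀ x y, ψ (x + y) = ψ x + ψ y)
    (h : ∀ x y, x ≠ 0 → y ≠ 0 → ψ x = ψ y) (x : F) : ψ x = 0 := by
  have h0 : ψ 0 = 0 := by
    have := hadd 0 0
    rw [add_zero] at this
    exact left_eq_add.mp this
  by_cases hx : x = 0
  · rw [hx, h0]
  obtain ⟨y, hy0, hy1⟩ := I.big
  have h1 : (1 : F) + y ≠ 0 := fun h => hy1 (eq_of_add h).symm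
  have h2 := hadd 1 y
  rw [h _ _ h1 hx, h _ _ one_ne_zero hx, h _ _ hy0 hx, add_self] at h2
  exact h2

/-- the equation of the end -/
theorem end_eq (I : Inv σ τ) {e0 b : F} (hb : b ≠ 0) {p' : F}
    (h : ∀ p, e0 * τ (b * (1 + e0) * p) = p * σ p' + p' * σ p) : e0 = 0 ∨ e0 = 1 := by
  -- apply `σ`
  have h1 : ∀ p, σ e0 * (b * (1 + e0) * p) = σ p * (p' * p') + σ p' * (p * p) := by
    intro p
    have := congrArg σ (h p)
    rw [map_mul, I.r, map_add, map_mul, map_mul, I.sq, I.sq, pow_two, pow_two] at this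
    rw [this]
  have h2 := h1 1
  rw [map_one, mul_one, one_mul, mul_one, mul_one] at h2
  have h3 : ∀ p, p' * p' * (p + σ p) = σ p' * (p + p * p) := by
    intro p
    have e1 := h1 p
    have e2 : σ e0 * (b * (1 + e0) * p) = (p' * p' + σ p') * p := by rw [← h2]; ring
    rw [e2] at e1
    have e3 : (p' * p' + σ p') * p + (σ p * (p' * p') + σ p' * (p * p)) = 0 := by rw [← e1, add_self]
    have e4 : p' * p' * (p + σ p) + σ p' * (p + p * p) = 0 := by rw [← e3]; ring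
    exact eq_of_add e4
  by_cases hp : p' = 0
  · have h4 : e0 * τ (b * (1 + e0)) = 0 := by
      have := h 1
      rwa [hp, map_zero, zero_mul, mul_zero, add_zero, mul_one] at this
    rcases mul_eq_zero.mp h4 with h5 | h5
    · exact Or.inl h5
    · have h6 : b * (1 + e0) = 0 := by
        have := congrArg σ h5
        rwa [I.r, map_zero] at this
      exact Or.inr (eq_of_add ((mul_eq_zero.mp h6).resolve_left hb)).symm
  · exfalso
    obtain ⟨κ, hκ⟩ : ∃ κ, κ = σ p' / (p' * p') := ⟨_, rfl⟩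
    have hpp : p' * p' ≠ 0 := mul_ne_zero hp hp
    have h4 : ∀ p, σ p = (1 + κ) * p + κ * (p * p) := by
      intro p
      have e1 := h3 p
      have e2 : p + σ p = κ * (p + p * p) := by
        rw [hκ, div_mul_eq_mul_div, eq_div_iff hpp, ← e1]; ring
      have e3 : σ p = (p + σ p) + p := by
        have := add_self p
        calc σ p = σ p + (p + p) := by rw [this, add_zero]
          _ = (p + σ p) + p := by ring
      rw [e3, e2]; ring
    obtain ⟨x, hx0, hx1⟩ := I.big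
    have two : (2 : F) = 0 := CharTwo.two_eq_zero
    have h5 : (κ + κ * κ) * (x * x * ((1 + x) * (1 + x))) = 0 := by
      have e1 := map_mul σ x x
      rw [h4 (x * x), h4 x] at e1
      linear_combination (-1) * e1 + (κ * x ^ 4) * two
    have hx2 : (1 : F) + x ≠ 0 := fun h => hx1 (eq_of_add h).symm
    have h6 : κ * (1 + κ) = 0 := by
      have := (mul_eq_zero.mp h5).resolve_right
        (mul_ne_zero (mul_ne_zero hx0 hx0) (mul_ne_zero hx2 hx2))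
      rw [← this]; ring
    rcases mul_eq_zero.mp h6 with h7 | h7
    · have h8 := h4 x
      rw [h7, add_zero, one_mul, zero_mul, add_zero] at h8
      rcases fix I.sq h8 with h9 | h9
      · exact hx0 h9
      · exact hx1 h9
    · have h8 : ∀ y, σ y = y * y := by
        intro y
        have := h4 y
        have hk : κ = 1 := (eq_of_add h7).symm
        rw [this, hk, add_self, zero_mul, zero_add, one_mul]
      have h9 := I.sq x
      rw [h8, h8] at h9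
      have h10 : x * x * (x * x - 1) = 0 := by
        have : x * x * (x * x) - x ^ 2 = 0 := sub_eq_zero.mpr h9
        rw [← this]; ring
      have h11 := (mul_eq_zero.mp h10).resolve_left (mul_ne_zero hx0 hx0)
      have h12 : (1 + x) * (1 + x) = 0 := by
        linear_combination h11 + (1 + x) * two
      exact (mul_ne_zero hx2 hx2) h12

/-- the conclusion of the end -/
theorem end_mu (I : Inv σ τ) {e0 μ : F} (he : e0 = 0 ∨ e0 = 1) (h : σ μ + e0 * τ μ + μ * (1 + e0) = 0) :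
    μ = 0 ∨ μ = 1 := by
  have two : (2 : F) = 0 := CharTwo.two_eq_zero
  rcases he with rfl | rfl
  · rw [zero_mul, add_zero, add_zero, mul_one] at h
    exact fix I.sq (eq_of_add h)
  · rw [one_mul, add_self, mul_zero, add_zero] at h
    have h1 : σ μ = τ μ := eq_of_add h
    have h2 := congrArg σ h1
    rw [I.sq, I.r] at h2
    have h3 : μ * (μ - 1) = 0 := by
      have := sub_eq_zero.mpr h2
      rw [← this]; ring
    rcases mul_eq_zero.mp h3 with h4 | h4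
    · exact Or.inl h4
    · exact Or.inr (sub_eq_zero.mp h4)

end Cfsg.Agent.OddHalf.D4.TwF.Field

end

-- merged: Cfsg.Agent.OddHalf.D4.TwF.End
section

/-!
# ODD D4, `K = ²F₄(q)`, `q ≥ 8`: the end

`Fam`: elements `n a w` centralising `Q₂(a)` and acting on `A` by `r ↦ r z_a(μ r w)`. They lead to a contradiction if
`|A| ≥ 4`.
-/

set_option autoImplicit false
set_option linter.unusedSectionVars false

namespace Cfsg.Agent.OddHalf.D4.TwF.End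

open Cfsg.Agent.KFacts.TwF4 Cfsg.Agent.OddHalf.D4.TwF.Field

variable {F : Type*} [Field F] [CharP F 2] {σ τ : F →+* F} {G : Type*} [Group G]

/-! ### commutation in `Sys` -/

section sys

variable (S : Sys σ G)

theorem o_zero (a : ZMod 8) : S.o a 0 = 1 := by
  have := S.o_add a 0 0
  rw [add_zero] at this
  exact mul_eq_left.mp this

theorem e_zero (a : ZMod 8) : S.e a 0 0 = 1 := by
  have := S.e_mul a 0 0 0 0
  rw [zero_mul, add_zero, add_zero] at this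
  exact mul_eq_left.mp this

theorem z_mul (a : ZMod 8) (u v : F) : S.e a 0 u * S.e a 0 v = S.e a 0 (u + v) := by
  have := S.e_mul a 0 u 0 v
  rwa [zero_mul, add_zero, add_zero] at this

theorem z_sq (a : ZMod 8) (u : F) : S.e a 0 u * S.e a 0 u = 1 := by
  rw [z_mul, add_self, e_zero]

theorem z_inv (a : ZMod 8) (u : F) : (S.e a 0 u)⁻¹ = S.e a 0 u := inv_eq_of_mul_eq_one_left (z_sq S a u)

theorem o_sq (a : ZMod 8) (u : F) : S.o a u * S.o a u = 1 := by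
  rw [S.o_add, add_self, o_zero]

theorem o_inv (a : ZMod 8) (u : F) : (S.o a u)⁻¹ = S.o a u := inv_eq_of_mul_eq_one_left (o_sq S a u)

theorem z_ee (a : ZMod 8) (u q v : F) : Commute (S.e a 0 u) (S.e a q v) := by
  show S.e a 0 u * S.e a q v = S.e a q v * S.e a 0 u
  rw [S.e_mul, S.e_mul, zero_mul, map_zero, mul_zero]
  congr 1
  · ring
  · ring

/-- `Z_a` and `E_(a+1)` -/
theorem z_e1 (a : ZMod 8) (u q v : F) : Commute (S.e a 0 u) (S.e (a + 1) q v) := by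
  have := S.e_e1 a 0 u q v
  rwa [zero_mul, o_zero, mul_one] at this

theorem e_z1 (a : ZMod 8) (p u v : F) : Commute (S.e a p u) (S.e (a + 1) 0 v) := by
  have := S.e_e1 a p u 0 v
  rwa [mul_zero, o_zero, mul_one] at this

theorem e_e2' (a : ZMod 8) (p u q v : F) : Commute (S.e a p u) (S.e (a + 2) q v) := S.e_e2 a p u q v

theorem e_o0' (a : ZMod 8) (p u s : F) : Commute (S.e a p u) (S.o a s) := S.e_o0 a p u s

theorem o_e1' (a : ZMod 8) (t q v : F) : Commute (S.o a t) (S.e (a + 1) q v) := S.o_e1 a t q v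

theorem o_o1' (a : ZMod 8) (t s : F) : Commute (S.o a t) (S.o (a + 1) s) := S.o_o1 a t s

theorem o_o2' (a : ZMod 8) (t s : F) : Commute (S.o a t) (S.o (a + 2) s) := S.o_o2 a t s

theorem z_o1 (a : ZMod 8) (u s : F) : Commute (S.e a 0 u) (S.o (a + 1) s) := by
  have := S.e_o1 a 0 u s
  rwa [zero_mul, e_zero, mul_one] at this

theorem o_z2 (a : ZMod 8) (t v : F) : Commute (S.o a t) (S.e (a + 2) 0 v) := by
  have := S.o_e2 a t 0 v
  rwa [mul_zero, e_zero, mul_one] at this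

theorem o_o (a : ZMod 8) (t s : F) : Commute (S.o a t) (S.o a s) := by
  show S.o a t * S.o a s = S.o a s * S.o a t
  rw [S.o_add, S.o_add, add_comm]

/-- `z_a(u)` and `z_(a+3)(v)` -/
theorem z_z3 (a : ZMod 8) (u v : F) : S.e a 0 u * S.e (a + 3) 0 v =
    S.e (a + 3) 0 v * S.e a 0 u * (S.e (a + 1) 0 (σ u * v) * S.o (a + 1) (u * v) * S.e (a + 2) 0 (u * σ v)) := by
  have := S.e_e3 a 0 u 0 v
  simp only [map_zero, zero_mul, mul_zero, add_zero, zero_add, o_zero, mul_one] at this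
  rw [this]
  simp only [mul_assoc]

/-- `o_a(t)` and `z_(a+3)(v)` -/
theorem o_z3 (a : ZMod 8) (t v : F) : S.o a t * S.e (a + 3) 0 v =
    S.e (a + 3) 0 v * S.o a t * S.e (a + 2) 0 (t * v) := by
  have := S.o_e3 a t 0 v
  simpa only [map_zero, zero_mul, mul_zero, add_zero, zero_add, o_zero, e_zero, mul_one] using this

end sys

/-- The family `n a w`. -/
structure Fam (S : Sys σ G) (A : Subgroup G) (μ : G → F) (τ : F →+* F) (e0 : F) (n : ZMod 8 → F → G) : Prop where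
  A_o : ∀ r ∈ A, ∀ a t, Commute r (S.o a t)
  A_e : ∀ r ∈ A, ∀ a p u, Commute r (S.e a p u)
  act : ∀ a w, ∀ r ∈ A, r⁻¹ * n a w * r = n a w * S.e a 0 (μ r * w)
  c_z : ∀ a w u, Commute (n a w) (S.e a 0 u)
  c_o : ∀ a w t, Commute (n a w) (S.o a t)
  c_om : ∀ a w t, Commute (n (a + 1) w) (S.o a t)
  c_op : ∀ a w t, Commute (n a w) (S.o (a + 1) t)
  c_omm : ∀ a w t, Commute (n (a + 2) w) (S.o a t)
  c_ep : ∀ a w p u, Commute (n a w) (S.e (a + 1) p u)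
  c_em : ∀ a w p u, Commute (n (a + 1) w) (S.e a p u)
  zp : ∀ a w v, n a w * S.e (a + 2) 0 v * (n a w)⁻¹ = S.e (a + 2) 0 v * S.e (a + 1) 0 (e0 * τ (w * v))
  zm : ∀ a w v, n (a + 2) w * S.e a 0 v * (n (a + 2) w)⁻¹ = S.e a 0 v * S.e (a + 1) 0 (e0 * τ (w * v))
  ee : ∀ a w p u, n a w * S.e a p u * (n a w)⁻¹ = S.e a p u * S.e a 0 (e0 * τ (w * p))

namespace Fam

variable {S : Sys σ G} {A : Subgroup G} {μ : G → F} {e0 : F} {n : ZMod 8 → F → G}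

/-- conjugating `n` by an element which it moves by a commuting factor -/
theorem conj_of {G : Type*} [Group G] {n x k : G} (h : n * x * n⁻¹ = x * k) : x⁻¹ * n * x = k * n := by
  have h1 : n * x = x * k * n := by rw [← h]; group
  calc x⁻¹ * n * x = x⁻¹ * (n * x) := by group
    _ = k * n := by rw [h1]; group

theorem conj_mul' {G : Type*} [Group G] {a b x : G} : x⁻¹ * (a * b) * x = (x⁻¹ * a * x) * (x⁻¹ * b * x) := by group

/-- the element `f = n⁻¹ nˢ`, `n = n₇(u)`, `s = z₂(v)` -/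
def f (S : Sys σ G) (n : ZMod 8 → F → G) (u v : F) : G :=
  (n 7 u)⁻¹ * ((S.e 2 0 v)⁻¹ * n 7 u * S.e 2 0 v)

/-- `c = z₀ o₀ z₁` -/
def c (S : Sys σ G) (u v : F) : G := S.e 0 0 (σ u * v) * S.o 0 (u * v) * S.e 1 0 (u * σ v)

theorem s_conj (u v : F) : (S.e 2 0 v)⁻¹ * S.e 7 0 u * S.e 2 0 v = S.e 7 0 u * c S u v := by
  have h : S.e 7 0 u * S.e 2 0 v = S.e 2 0 v * S.e 7 0 u * c S u v := z_z3 S 7 u v
  calc (S.e 2 0 v)⁻¹ * S.e 7 0 u * S.e 2 0 v = (S.e 2 0 v)⁻¹ * (S.e 7 0 u * S.e 2 0 v) := by group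
    _ = _ := by rw [h]; group

theorem s_conj' (u v : F) : S.e 2 0 v * S.e 7 0 u * (S.e 2 0 v)⁻¹ = S.e 7 0 u * c S u v := by
  have h := s_conj (S := S) u v
  have h1 : (S.e 2 0 v)⁻¹ = S.e 2 0 v := z_inv S 2 v
  rwa [h1] at h ⊢

section

variable (D : Fam S A μ τ e0 n) (I : Inv σ τ)

include D

theorem cz0 (u x : F) : Commute (n 7 u) (S.e 0 0 x) := D.c_ep 7 u 0 x
theorem co0 (u x : F) : Commute (n 7 u) (S.o 0 x) := D.c_op 7 u x

theorem n7z1 (u b : F) : n 7 u * S.e 1 0 b * (n 7 u)⁻¹ = S.e 1 0 b * S.e 0 0 (e0 * τ (u * b)) := D.zp 7 u b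

/-- `c⁻¹ n c = n z₀` -/
theorem c_conj (u u' v : F) : (c S u' v)⁻¹ * n 7 u * c S u' v =
    n 7 u * S.e 0 0 (e0 * τ (u * (u' * σ v))) := by
  have h1 := conj_of (D.n7z1 u (u' * σ v))
  have h2 := D.cz0 u (σ u' * v)
  have h3 := D.co0 u (u' * v)
  have e1 : (c S u' v)⁻¹ * n 7 u * c S u' v = (S.e 1 0 (u' * σ v))⁻¹ * ((S.o 0 (u' * v))⁻¹ *
      ((S.e 0 0 (σ u' * v))⁻¹ * n 7 u * S.e 0 0 (σ u' * v)) * S.o 0 (u' * v)) * S.e 1 0 (u' * σ v) := by
    unfold c; group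
  have e2 : (S.e 0 0 (σ u' * v))⁻¹ * n 7 u * S.e 0 0 (σ u' * v) = n 7 u := by
    rw [mul_assoc, h2.eq]; group
  have e3 : (S.o 0 (u' * v))⁻¹ * n 7 u * S.o 0 (u' * v) = n 7 u := by
    rw [mul_assoc, h3.eq]; group
  rw [e1, e2, e3, h1, (D.cz0 u _).eq]

/-- `f^{z₇(b)}` -/
theorem f_z7 (u v b : F) : (S.e 7 0 b)⁻¹ * f S n u v * S.e 7 0 b =
    f S n u v * S.e 0 0 (e0 * τ (u * (b * σ v))) := by
  have hc := D.c_conj u b v
  have h7 : (S.e 7 0 b)⁻¹ * n 7 u * S.e 7 0 b = n 7 u := by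
    rw [mul_assoc, (D.c_z 7 u b).eq]; group
  have h7' : (S.e 7 0 b)⁻¹ * (n 7 u)⁻¹ * S.e 7 0 b = (n 7 u)⁻¹ := by
    have := congrArg (·⁻¹) h7
    simp only [mul_inv_rev, inv_inv] at this
    rw [← mul_assoc] at this
    exact this
  have hs : S.e 2 0 v * S.e 7 0 b = S.e 7 0 b * c S b v * S.e 2 0 v := by
    rw [← s_conj']; group
  have e1 : (S.e 7 0 b)⁻¹ * f S n u v * S.e 7 0 b = ((S.e 7 0 b)⁻¹ * (n 7 u)⁻¹ * S.e 7 0 b) *
      ((S.e 2 0 v * S.e 7 0 b)⁻¹ * n 7 u * (S.e 2 0 v * S.e 7 0 b)) := by unfold f; group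
  rw [e1, h7', hs]
  have e2 : (S.e 7 0 b * c S b v * S.e 2 0 v)⁻¹ * n 7 u * (S.e 7 0 b * c S b v * S.e 2 0 v) =
      (S.e 2 0 v)⁻¹ * ((c S b v)⁻¹ * ((S.e 7 0 b)⁻¹ * n 7 u * S.e 7 0 b) * c S b v) * S.e 2 0 v := by group
  rw [e2, h7, hc]
  have h02 : Commute (S.e 0 0 (e0 * τ (u * (b * σ v)))) (S.e 2 0 v) := e_e2' S 0 _ _ _ _
  unfold f
  calc (n 7 u)⁻¹ * ((S.e 2 0 v)⁻¹ * (n 7 u * S.e 0 0 (e0 * τ (u * (b * σ v)))) * S.e 2 0 v)
      = (n 7 u)⁻¹ * ((S.e 2 0 v)⁻¹ * n 7 u * (S.e 0 0 (e0 * τ (u * (b * σ v))) * S.e 2 0 v)) := by group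
    _ = _ := by rw [h02.eq]; group

/-- `f` commutes with `z₀`, `o₀`, `z₁`, `E₀` -/
theorem f_e0 (u v p x : F) : Commute (f S n u v) (S.e 0 p x) := by
  have h1 : Commute (n 7 u) (S.e 0 p x) := D.c_ep 7 u p x
  have h2 : Commute (S.e 2 0 v) (S.e 0 p x) := (e_e2' S 0 p x 0 v).symm
  unfold f
  exact h1.inv_left.mul_left ((h2.inv_left.mul_left h1).mul_left h2)

theorem f_o0 (u v x : F) : Commute (f S n u v) (S.o 0 x) := by
  have h1 : Commute (n 7 u) (S.o 0 x) := D.c_op 7 u x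
  have h2 : Commute (S.e 2 0 v) (S.o 0 x) := (o_z2 S 0 x v).symm
  unfold f
  exact h1.inv_left.mul_left ((h2.inv_left.mul_left h1).mul_left h2)

theorem f_z1 (u v b : F) : Commute (f S n u v) (S.e 1 0 b) := by
  have h0 := D.n7z1 u b
  have h1 := conj_of h0
  have h2 : Commute (S.e 2 0 v) (S.e 1 0 b) := (e_z1 S 1 0 b v).symm
  have h3 : Commute (S.e 2 0 v) (S.e 0 0 (e0 * τ (u * b))) := (e_e2' S 0 0 _ 0 v).symm
  have h4 := D.cz0 u (e0 * τ (u * b))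
  have e1 : (S.e 1 0 b)⁻¹ * f S n u v * S.e 1 0 b = f S n u v := by
    have g1 : (S.e 1 0 b)⁻¹ * S.e 2 0 v * S.e 1 0 b = S.e 2 0 v := by rw [mul_assoc, h2.eq]; group
    have g2 : (S.e 1 0 b)⁻¹ * (S.e 2 0 v)⁻¹ * S.e 1 0 b = (S.e 2 0 v)⁻¹ := by
      rw [mul_assoc, h2.inv_left.eq]; group
    have g3 : (S.e 1 0 b)⁻¹ * (n 7 u)⁻¹ * S.e 1 0 b = (n 7 u)⁻¹ * (S.e 0 0 (e0 * τ (u * b)))⁻¹ := by
      have := congrArg (·⁻¹) h1
      simp only [mul_inv_rev, inv_inv] at this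
      rw [← mul_assoc] at this
      exact this
    have e2 : (S.e 1 0 b)⁻¹ * f S n u v * S.e 1 0 b = ((S.e 1 0 b)⁻¹ * (n 7 u)⁻¹ * S.e 1 0 b) *
        (((S.e 1 0 b)⁻¹ * (S.e 2 0 v)⁻¹ * S.e 1 0 b) * ((S.e 1 0 b)⁻¹ * n 7 u * S.e 1 0 b) *
        ((S.e 1 0 b)⁻¹ * S.e 2 0 v * S.e 1 0 b)) := by unfold f; group
    rw [e2, g1, g2, g3, h1]
    unfold f
    have h5 := h3.inv_left
    calc (n 7 u)⁻¹ * (S.e 0 0 (e0 * τ (u * b)))⁻¹ * ((S.e 2 0 v)⁻¹ * (S.e 0 0 (e0 * τ (u * b)) * n 7 u) * S.e 2 0 v)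
        = (n 7 u)⁻¹ * (S.e 0 0 (e0 * τ (u * b)))⁻¹ * (((S.e 2 0 v)⁻¹ * S.e 0 0 (e0 * τ (u * b))) * n 7 u * S.e 2 0 v) := by
          group
      _ = _ := by rw [h5.eq]; group
  show f S n u v * S.e 1 0 b = S.e 1 0 b * f S n u v
  calc f S n u v * S.e 1 0 b = S.e 1 0 b * ((S.e 1 0 b)⁻¹ * f S n u v * S.e 1 0 b) := by group
    _ = _ := by rw [e1]

/-- `f^{o₇(x)}` -/
theorem f_o7 (u v x : F) : (S.o 7 x)⁻¹ * f S n u v * S.o 7 x =
    f S n u v * S.e 0 0 (e0 * τ (u * (x * v))) := by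
  have h7 : (S.o 7 x)⁻¹ * n 7 u * S.o 7 x = n 7 u := by
    rw [mul_assoc, (D.c_o 7 u x).eq]; group
  have h7' : (S.o 7 x)⁻¹ * (n 7 u)⁻¹ * S.o 7 x = (n 7 u)⁻¹ := by
    rw [mul_assoc, (D.c_o 7 u x).inv_left.eq]; group
  have ho : S.o 7 x * S.e 2 0 v = S.e 2 0 v * S.o 7 x * S.e 1 0 (x * v) := o_z3 S 7 x v
  have hs : S.e 2 0 v * S.o 7 x = S.o 7 x * S.e 1 0 (x * v) * S.e 2 0 v := by
    have h21 : Commute (S.e 1 0 (x * v)) (S.e 2 0 v) := e_z1 S 1 0 _ v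
    calc S.e 2 0 v * S.o 7 x = (S.e 2 0 v * S.o 7 x * S.e 1 0 (x * v)) * (S.e 1 0 (x * v))⁻¹ := by group
      _ = S.o 7 x * (S.e 2 0 v * (S.e 1 0 (x * v))⁻¹) := by rw [← ho]; group
      _ = S.o 7 x * ((S.e 1 0 (x * v))⁻¹ * S.e 2 0 v) := by rw [h21.inv_left.eq]
      _ = _ := by rw [z_inv]; group
  have h1 := conj_of (D.n7z1 u (x * v))
  have e1 : (S.o 7 x)⁻¹ * f S n u v * S.o 7 x = ((S.o 7 x)⁻¹ * (n 7 u)⁻¹ * S.o 7 x) *
      ((S.e 2 0 v * S.o 7 x)⁻¹ * n 7 u * (S.e 2 0 v * S.o 7 x)) := by unfold f; group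
  rw [e1, h7', hs]
  have e2 : (S.o 7 x * S.e 1 0 (x * v) * S.e 2 0 v)⁻¹ * n 7 u * (S.o 7 x * S.e 1 0 (x * v) * S.e 2 0 v) =
      (S.e 2 0 v)⁻¹ * ((S.e 1 0 (x * v))⁻¹ * ((S.o 7 x)⁻¹ * n 7 u * S.o 7 x) * S.e 1 0 (x * v)) * S.e 2 0 v := by
    group
  rw [e2, h7, h1, ← (D.cz0 u _).eq]
  have h02 : Commute (S.e 0 0 (e0 * τ (u * (x * v)))) (S.e 2 0 v) := e_e2' S 0 _ _ _ _
  unfold f
  calc (n 7 u)⁻¹ * ((S.e 2 0 v)⁻¹ * (n 7 u * S.e 0 0 (e0 * τ (u * (x * v)))) * S.e 2 0 v)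
      = (n 7 u)⁻¹ * ((S.e 2 0 v)⁻¹ * n 7 u * (S.e 0 0 (e0 * τ (u * (x * v))) * S.e 2 0 v)) := by group
    _ = _ := by rw [h02.eq]; group

/-- `A` on `f` -/
theorem f_act (u v : F) {r : G} (hr : r ∈ A) : r⁻¹ * f S n u v * r =
    f S n u v * S.e 0 0 (e0 * τ (u * (μ r * u * σ v))) * c S (μ r * u) v := by
  have hs : r⁻¹ * S.e 2 0 v * r = S.e 2 0 v := by rw [mul_assoc, ← (D.A_e r hr 2 0 v).eq]; group
  have hs' : r⁻¹ * (S.e 2 0 v)⁻¹ * r = (S.e 2 0 v)⁻¹ := by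
    rw [mul_assoc, ← (D.A_e r hr 2 0 v).inv_right.eq]; group
  have h1 := D.act 7 u r hr
  have h2 : r⁻¹ * (n 7 u)⁻¹ * r = (S.e 7 0 (μ r * u))⁻¹ * (n 7 u)⁻¹ := by
    have := congrArg (·⁻¹) h1
    simp only [mul_inv_rev, inv_inv] at this
    rw [← mul_assoc] at this
    exact this
  have e1 : r⁻¹ * f S n u v * r = (r⁻¹ * (n 7 u)⁻¹ * r) * ((r⁻¹ * (S.e 2 0 v)⁻¹ * r) * (r⁻¹ * n 7 u * r) *
      (r⁻¹ * S.e 2 0 v * r)) := by unfold f; group
  have h3 := D.f_z7 u v (μ r * u)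
  have h4 := s_conj (S := S) (μ r * u) v
  rw [e1, h1, h2, hs, hs']
  calc (S.e 7 0 (μ r * u))⁻¹ * (n 7 u)⁻¹ * ((S.e 2 0 v)⁻¹ * (n 7 u * S.e 7 0 (μ r * u)) * S.e 2 0 v)
      = (S.e 7 0 (μ r * u))⁻¹ * f S n u v * ((S.e 2 0 v)⁻¹ * S.e 7 0 (μ r * u) * S.e 2 0 v) := by unfold f; group
    _ = ((S.e 7 0 (μ r * u))⁻¹ * f S n u v * S.e 7 0 (μ r * u)) * c S (μ r * u) v := by rw [h4]; group
    _ = _ := by rw [h3]

/-! ### `f g` -/

/-- `f g` with `g = n₁(u σ v)` -/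
def fg (S : Sys σ G) (n : ZMod 8 → F → G) (u v : F) : G := f S n u v * n 1 (u * σ v)

theorem fg_e0 (u v p x : F) : Commute (fg S n u v) (S.e 0 p x) :=
  (D.f_e0 u v p x).mul_left (D.c_em 0 (u * σ v) p x)

theorem fg_o0 (u v x : F) : Commute (fg S n u v) (S.o 0 x) :=
  (D.f_o0 u v x).mul_left (D.c_om 0 (u * σ v) x)

theorem fg_z1 (u v x : F) : Commute (fg S n u v) (S.e 1 0 x) :=
  (D.f_z1 u v x).mul_left (D.c_z 1 (u * σ v) x)

theorem fg_o7 (u v x : F) : (S.o 7 x)⁻¹ * fg S n u v * S.o 7 x =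
    fg S n u v * S.e 0 0 (e0 * τ (u * (x * v))) := by
  have h1 : Commute (n 1 (u * σ v)) (S.o 7 x) := D.c_omm 7 (u * σ v) x
  have h2 : (S.o 7 x)⁻¹ * n 1 (u * σ v) * S.o 7 x = n 1 (u * σ v) := by rw [mul_assoc, h1.eq]; group
  have h3 : Commute (n 1 (u * σ v)) (S.e 0 0 (e0 * τ (u * (x * v)))) := D.c_em 0 _ _ _
  unfold fg
  rw [conj_mul', D.f_o7, h2, mul_assoc, ← h3.eq, mul_assoc]

theorem fg_z7 (I : Inv σ τ) (u v b : F) : Commute (fg S n u v) (S.e 7 0 b) := by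
  have h1 := conj_of (D.zm 7 (u * σ v) b)
  have h2 : (S.e 7 0 b)⁻¹ * n 1 (u * σ v) * S.e 7 0 b = S.e 0 0 (e0 * τ (u * σ v * b)) * n 1 (u * σ v) := h1
  have h3 : (S.e 7 0 b)⁻¹ * fg S n u v * S.e 7 0 b = fg S n u v := by
    unfold fg
    rw [conj_mul', D.f_z7, h2]
    have e1 : u * σ v * b = u * (b * σ v) := by ring
    rw [e1]
    calc f S n u v * S.e 0 0 (e0 * τ (u * (b * σ v))) * (S.e 0 0 (e0 * τ (u * (b * σ v))) * n 1 (u * σ v))
        = f S n u v * (S.e 0 0 (e0 * τ (u * (b * σ v))) * S.e 0 0 (e0 * τ (u * (b * σ v)))) * n 1 (u * σ v) := by group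
      _ = _ := by rw [z_sq, mul_one]
  show fg S n u v * S.e 7 0 b = S.e 7 0 b * fg S n u v
  calc fg S n u v * S.e 7 0 b = S.e 7 0 b * ((S.e 7 0 b)⁻¹ * fg S n u v * S.e 7 0 b) := by group
    _ = _ := by rw [h3]

/-- `A` on `f g` -/
theorem fg_act (I : Inv σ τ) (u v : F) {r : G} (hr : r ∈ A) : r⁻¹ * fg S n u v * r =
    fg S n u v * S.e 0 0 (σ u * v * (σ (μ r) + e0 * τ (μ r))) * S.o 0 (μ r * (u * v)) := by
  have h1 := D.act 1 (u * σ v) r hr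
  unfold fg
  rw [conj_mul', D.f_act u v hr, h1]
  have e1 : e0 * τ (u * (μ r * u * σ v)) = e0 * τ (μ r) * (σ u * v) := by
    have : u * (μ r * u * σ v) = μ r * (u * u) * σ v := by ring
    rw [this, map_mul, map_mul, I.τ_sq, I.l]; ring
  have e2 : μ r * (u * σ v) = μ r * u * σ v := by ring
  have e3 : σ (μ r * u) * v = σ (μ r) * (σ u * v) := by rw [map_mul]; ring
  have e4 : μ r * u * v = μ r * (u * v) := by ring
  rw [e1, e2]
  unfold c
  rw [e3, e4]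
  set x := S.e 0 0 (e0 * τ (μ r) * (σ u * v))
  set y := S.e 0 0 (σ (μ r) * (σ u * v)) with hy
  set o := S.o 0 (μ r * (u * v)) with ho
  set z := S.e 1 0 (μ r * u * σ v) with hz
  set g := n 1 (u * σ v) with hg
  have c1 : Commute g z := D.c_z 1 _ _
  have c2 : Commute g o := D.c_om 0 _ _
  have c3 : Commute g (x * y) := by
    exact (D.c_em 0 _ _ _).mul_right (D.c_em 0 _ _ _)
  have e5 : S.e 0 0 (σ u * v * (σ (μ r) + e0 * τ (μ r))) = x * y := by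
    show _ = S.e 0 0 (e0 * τ (μ r) * (σ u * v)) * S.e 0 0 (σ (μ r) * (σ u * v))
    rw [z_mul]; congr 1; ring
  rw [e5]
  have e6 : z * z = 1 := z_sq S 1 _
  calc f S n u v * x * (y * o * z) * (g * z) = f S n u v * (x * y) * o * (z * (g * z)) := by group
    _ = f S n u v * (x * y) * o * g := by rw [c1.eq, ← mul_assoc z z g, e6, one_mul]
    _ = f S n u v * (x * y) * (g * o) := by rw [mul_assoc, ← c2.eq]
    _ = f S n u v * ((x * y) * g) * o := by group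
    _ = f S n u v * g * (x * y) * o := by rw [← c3.eq]; group

/-! ### the element `y` -/

/-- two of these -/
def ff (S : Sys σ G) (n : ZMod 8 → F → G) (u v u' v' : F) : G := fg S n u v * fg S n u' v'

/-- the scalar -/
def bb (σ : F →+* F) (u v u' v' : F) : F := σ u * v + σ u' * v'

theorem ff_act (I : Inv σ τ) {u v u' v' : F} (huv : u * v = u' * v') {r : G} (hr : r ∈ A) :
    r⁻¹ * ff S n u v u' v' * r = ff S n u v u' v' * S.e 0 0 (bb σ u v u' v' * (σ (μ r) + e0 * τ (μ r))) := by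
  unfold ff
  rw [conj_mul', D.fg_act I u v hr, D.fg_act I u' v' hr, ← huv]
  set x := S.e 0 0 (σ u * v * (σ (μ r) + e0 * τ (μ r))) with hx
  set x' := S.e 0 0 (σ u' * v' * (σ (μ r) + e0 * τ (μ r))) with hx'
  set o := S.o 0 (μ r * (u * v)) with ho
  have c1 : Commute (fg S n u' v') x := D.fg_e0 _ _ _ _
  have c2 : Commute (fg S n u' v') o := D.fg_o0 _ _ _
  have c3 : Commute x' o := e_o0' S 0 _ _ _
  have e1 : S.e 0 0 (bb σ u v u' v' * (σ (μ r) + e0 * τ (μ r))) = x * x' := by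
    rw [hx, hx', z_mul]; congr 1; unfold bb; ring
  rw [e1]
  have e2 : o * o = 1 := o_sq S 0 _
  calc fg S n u v * x * o * (fg S n u' v' * x' * o) = fg S n u v * x * ((o * fg S n u' v') * (x' * o)) := by group
    _ = fg S n u v * x * ((fg S n u' v' * o) * (o * x')) := by rw [← c2.eq, c3.eq]
    _ = fg S n u v * (x * fg S n u' v') * ((o * o) * x') := by group
    _ = fg S n u v * (fg S n u' v' * x) * x' := by rw [← c1.eq, e2, one_mul]
    _ = _ := by group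

theorem ff_o7 {u v u' v' : F} (huv : u * v = u' * v') (x : F) : Commute (ff S n u v u' v') (S.o 7 x) := by
  have h3 : (S.o 7 x)⁻¹ * ff S n u v u' v' * S.o 7 x = ff S n u v u' v' := by
    unfold ff
    rw [conj_mul', D.fg_o7, D.fg_o7]
    have e1 : u' * (x * v') = u * (x * v) := by
      calc u' * (x * v') = x * (u' * v') := by ring
        _ = _ := by rw [← huv]; ring
    rw [e1]
    have c1 : Commute (fg S n u' v') (S.e 0 0 (e0 * τ (u * (x * v)))) := D.fg_e0 _ _ _ _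
    calc fg S n u v * S.e 0 0 (e0 * τ (u * (x * v))) * (fg S n u' v' * S.e 0 0 (e0 * τ (u * (x * v))))
        = fg S n u v * (S.e 0 0 (e0 * τ (u * (x * v))) * fg S n u' v') * S.e 0 0 (e0 * τ (u * (x * v))) := by group
      _ = fg S n u v * fg S n u' v' * (S.e 0 0 (e0 * τ (u * (x * v))) * S.e 0 0 (e0 * τ (u * (x * v)))) := by
          rw [← c1.eq]; group
      _ = _ := by rw [z_sq, mul_one]
  show ff S n u v u' v' * S.o 7 x = S.o 7 x * ff S n u v u' v'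
  calc ff S n u v u' v' * S.o 7 x = S.o 7 x * ((S.o 7 x)⁻¹ * ff S n u v u' v' * S.o 7 x) := by group
    _ = _ := by rw [h3]

/-- **the element `y`** -/
theorem exists_y (I : Inv σ τ) : ∃ (y : G) (b : F), b ≠ 0 ∧
    (∀ r ∈ A, r⁻¹ * y * r = y * S.e 0 0 (b * (σ (μ r) + e0 * τ (μ r) + μ r * (1 + e0)))) ∧
    (∀ x, Commute y (S.e 7 0 x)) ∧ (∀ x, Commute y (S.o 7 x)) ∧ (∀ x, Commute y (S.e 0 0 x)) ∧
    (∀ x, Commute y (S.o 0 x)) ∧ (∀ x, Commute y (S.e 1 0 x)) ∧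
    ∀ p x, y * S.e 0 p x * y⁻¹ = S.e 0 p x * S.e 0 0 (e0 * τ (b * (1 + e0) * p)) := by
  obtain ⟨l, hl0, hl1⟩ := I.big
  set b := bb σ 1 1 l l⁻¹ with hb
  have huv : (1 : F) * 1 = l * l⁻¹ := by rw [mul_inv_cancel₀ hl0, one_mul]
  have hb0 : b ≠ 0 := by
    intro h
    have h1 : (1 : F) + σ l * l⁻¹ = 0 := by
      rw [hb] at h; unfold bb at h; rwa [map_one, one_mul] at h
    have h2 := eq_of_add h1
    have h3 : σ l = l := by
      calc σ l = (σ l * l⁻¹) * l := by rw [mul_assoc, inv_mul_cancel₀ hl0, mul_one]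
        _ = l := by rw [← h2, one_mul]
    rcases fix I.sq h3 with h4 | h4
    · exact hl0 h4
    · exact hl1 h4
  set w := b * (1 + e0) with hw
  have ce : ∀ p x, Commute (ff S n 1 1 l l⁻¹) (S.e 0 p x) := fun p x =>
    (D.fg_e0 _ _ p x).mul_left (D.fg_e0 _ _ p x)
  have co : ∀ x, Commute (ff S n 1 1 l l⁻¹) (S.o 0 x) := fun x =>
    (D.fg_o0 _ _ x).mul_left (D.fg_o0 _ _ x)
  have cz1 : ∀ x, Commute (ff S n 1 1 l l⁻¹) (S.e 1 0 x) := fun x =>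
    (D.fg_z1 _ _ x).mul_left (D.fg_z1 _ _ x)
  have cz7 : ∀ x, Commute (ff S n 1 1 l l⁻¹) (S.e 7 0 x) := fun x =>
    (D.fg_z7 I _ _ x).mul_left (D.fg_z7 I _ _ x)
  refine ⟨ff S n 1 1 l l⁻¹ * (n 0 w)⁻¹, b, hb0, ?_, fun x => ?_, fun x => ?_, fun x => ?_, fun x => ?_, fun x => ?_,
    fun p x => ?_⟩
  · intro r hr
    have h1 := D.act 0 w r hr
    have h2 : r⁻¹ * (n 0 w)⁻¹ * r = (S.e 0 0 (μ r * w))⁻¹ * (n 0 w)⁻¹ := by
      have := congrArg (·⁻¹) h1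
      simp only [mul_inv_rev, inv_inv] at this
      rw [← mul_assoc] at this
      exact this
    rw [conj_mul', D.ff_act I huv hr, h2, z_inv]
    have c1 : Commute (n 0 w)⁻¹ (S.e 0 0 (b * (σ (μ r) + e0 * τ (μ r) + μ r * (1 + e0)))) := (D.c_z 0 w _).inv_left
    have e1 : S.e 0 0 (b * (σ (μ r) + e0 * τ (μ r) + μ r * (1 + e0))) =
        S.e 0 0 (b * (σ (μ r) + e0 * τ (μ r))) * S.e 0 0 (μ r * w) := by
      rw [z_mul]; congr 1; rw [hw]; ring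
    calc ff S n 1 1 l l⁻¹ * S.e 0 0 (b * (σ (μ r) + e0 * τ (μ r))) * (S.e 0 0 (μ r * w) * (n 0 w)⁻¹)
        = ff S n 1 1 l l⁻¹ * ((S.e 0 0 (b * (σ (μ r) + e0 * τ (μ r))) * S.e 0 0 (μ r * w)) * (n 0 w)⁻¹) := by group
      _ = _ := by rw [← e1, ← c1.eq]; group
  · exact (cz7 x).mul_left (D.c_em 7 w 0 x).inv_left
  · exact (D.ff_o7 huv x).mul_left (D.c_om 7 w x).inv_left
  · exact (ce 0 x).mul_left (D.c_z 0 w x).inv_left
  · exact (co x).mul_left (D.c_o 0 w x).inv_left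
  · exact (cz1 x).mul_left (D.c_ep 0 w 0 x).inv_left
  · have h1 := D.ee 0 w p x
    have h2 : (n 0 w)⁻¹ * S.e 0 p x * n 0 w = S.e 0 p x * S.e 0 0 (e0 * τ (w * p)) := by
      have h3 := D.c_z 0 w (e0 * τ (w * p))
      have h4 : S.e 0 p x * S.e 0 0 (e0 * τ (w * p)) * S.e 0 0 (e0 * τ (w * p)) = S.e 0 p x := by
        rw [mul_assoc, z_sq, mul_one]
      calc (n 0 w)⁻¹ * S.e 0 p x * n 0 w
          = (n 0 w)⁻¹ * (S.e 0 p x * S.e 0 0 (e0 * τ (w * p)) * S.e 0 0 (e0 * τ (w * p))) * n 0 w := by rw [h4]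
        _ = (n 0 w)⁻¹ * ((n 0 w * S.e 0 p x * (n 0 w)⁻¹) * S.e 0 0 (e0 * τ (w * p))) * n 0 w := by rw [h1]
        _ = S.e 0 p x * (n 0 w)⁻¹ * (S.e 0 0 (e0 * τ (w * p)) * n 0 w) := by group
        _ = _ := by rw [← h3.eq]; group
    have h5 : Commute (ff S n 1 1 l l⁻¹) (S.e 0 p x * S.e 0 0 (e0 * τ (w * p))) := (ce p x).mul_right (ce 0 _)
    calc ff S n 1 1 l l⁻¹ * (n 0 w)⁻¹ * S.e 0 p x * (ff S n 1 1 l l⁻¹ * (n 0 w)⁻¹)⁻¹
        = ff S n 1 1 l l⁻¹ * ((n 0 w)⁻¹ * S.e 0 p x * n 0 w) * (ff S n 1 1 l l⁻¹)⁻¹ := by group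
      _ = _ := by rw [h2, h5.eq, mul_assoc, mul_inv_cancel, mul_one]

end

/-- **THE END.** -/
theorem mu_eq {K : Subgroup G} (D : Fam S A μ τ e0 n) (I : Inv σ τ) (B : DblR.Amb K A) (hK : ∀ a p u, S.e a p u ∈ K)
    {t : G} (ht : t ∈ A) (ht1 : t ≠ 1) (hμ : μ t = 1)
    (hin : ∀ y : G, (∀ r ∈ A, Commute y r) → (∀ x, Commute y (S.e 7 0 x)) → (∀ x, Commute y (S.o 7 x)) →
      (∀ x, Commute y (S.e 0 0 x)) → (∀ x, Commute y (S.o 0 x)) → (∀ x, Commute y (S.e 1 0 x)) →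
      ∀ ψ : F → F, (∀ p x, y * S.e 0 p x * y⁻¹ = S.e 0 p x * S.e 0 0 (ψ p)) → ∃ p', ∀ p, ψ p = p * σ p' + p' * σ p) :
    ∀ r ∈ A, μ r = 0 ∨ μ r = 1 := by
  obtain ⟨y, b, hb, hact, h1, h2, h3, h4, h5, h6⟩ := D.exists_y I
  have hAinv : ∀ r ∈ A, r⁻¹ = r := fun r hr => B.inv_eq hr
  have hz : ∀ r ∈ A, σ (μ r) + e0 * τ (μ r) + μ r * (1 + e0) = 0 → Commute y r := by
    intro r hr h
    have := hact r hr
    rw [h, mul_zero, e_zero, mul_one] at this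
    show y * r = r * y
    calc y * r = r * (r⁻¹ * y * r) := by group
      _ = r * y := by rw [this]
  have hyt : Commute y t := by
    apply hz t ht
    rw [hμ, map_one, map_one, mul_one, one_mul]
    exact add_self _
  have hyA : ∀ r ∈ A, Commute y r := by
    intro r hr
    have key := B.tight ht ht1 hyt.eq (fun a ha => ?_) r hr
    · exact key
    · unfold DblR.br
      have e1 : a * y * a⁻¹ = a⁻¹ * y * a := by rw [hAinv a ha]
      rw [e1, hact a ha, inv_mul_cancel_left]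
      exact hK 0 0 _
  obtain ⟨p', hp'⟩ := hin y hyA h1 h2 h3 h4 h5 _ h6
  have he := end_eq I hb hp'
  intro r hr
  apply end_mu I he
  have h7 := hact r hr
  have h8 : r⁻¹ * y * r = y := by rw [mul_assoc, (hyA r hr).eq]; group
  rw [h8] at h7
  have h9 : S.e 0 0 (b * (σ (μ r) + e0 * τ (μ r) + μ r * (1 + e0))) = 1 := (mul_eq_left.mp h7.symm)
  rw [← e_zero S 0] at h9
  have h10 := (S.injE 0 _ _ _ _ h9).2
  exact (mul_eq_zero.mp h10).resolve_left hb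

/-- `A` has at most two elements -/
theorem eq_one_or_eq {K : Subgroup G} (D : Fam S A μ τ e0 n) (I : Inv σ τ) (B : DblR.Amb K A)
    (hK : ∀ a p u, S.e a p u ∈ K) {t : G} (ht : t ∈ A) (ht1 : t ≠ 1) (hμ : μ t = 1)
    (hinj : ∀ r ∈ A, ∀ s ∈ A, μ r = μ s → r = s) (h0 : μ 1 = 0)
    (hin : ∀ y : G, (∀ r ∈ A, Commute y r) → (∀ x, Commute y (S.e 7 0 x)) → (∀ x, Commute y (S.o 7 x)) →
      (∀ x, Commute y (S.e 0 0 x)) → (∀ x, Commute y (S.o 0 x)) → (∀ x, Commute y (S.e 1 0 x)) →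
      ∀ ψ : F → F, (∀ p x, y * S.e 0 p x * y⁻¹ = S.e 0 p x * S.e 0 0 (ψ p)) → ∃ p', ∀ p, ψ p = p * σ p' + p' * σ p) :
    ∀ r ∈ A, r = 1 ∨ r = t := by
  intro r hr
  rcases D.mu_eq I B hK ht ht1 hμ hin r hr with h | h
  · exact Or.inl (hinj r hr 1 (one_mem A) (by rw [h, h0]))
  · exact Or.inr (hinj r hr t ht (by rw [h, hμ]))

end Fam

end Cfsg.Agent.OddHalf.D4.TwF.End

end

-- merged: Cfsg.Agent.OddHalf.D4.TwF.QTwo
section

/-!
# ODD D4, `K = ²F₄(q)`: the group `Q₂ = z₋₁ o₋₁ z₀ o₀ z₁`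
-/

set_option autoImplicit false
set_option linter.unusedSectionVars false

namespace Cfsg.Agent.OddHalf.D4.TwF.QTwo

open Cfsg.Agent.KFacts.TwF4 Cfsg.Agent.OddHalf.D4.TwF.Field Cfsg.Agent.OddHalf.D4.TwF.End

variable {F : Type*} [Field F] [CharP F 2] {σ τ : F →+* F} {G : Type*} [Group G]

/-- elements of `Q₂` -/
def q5 (S : Sys σ G) (α β γ δ ε : F) : G := S.e 7 0 α * S.o 7 β * S.e 0 0 γ * S.o 0 δ * S.e 1 0 ε

/-- uniqueness of the normal form -/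
def Uniq (S : Sys σ G) : Prop := ∀ α β γ δ ε α' β' γ' δ' ε' : F, q5 S α β γ δ ε = q5 S α' β' γ' δ' ε' →
  α = α' ∧ β = β' ∧ γ = γ' ∧ δ = δ' ∧ ε = ε'

section

variable (S : Sys σ G)

/-! commutation of the factors -/

theorem c7o7 (x y : F) : Commute (S.e 7 0 x) (S.o 7 y) := e_o0' S 7 0 x y
theorem c7z0 (x y : F) : Commute (S.e 7 0 x) (S.e 0 0 y) := z_e1 S 7 x 0 y
theorem c7o0 (x y : F) : Commute (S.e 7 0 x) (S.o 0 y) := z_o1 S 7 x y
theorem c7z1 (x y : F) : Commute (S.e 7 0 x) (S.e 1 0 y) := e_e2' S 7 0 x 0 y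
theorem co7z0 (x y : F) : Commute (S.o 7 x) (S.e 0 0 y) := o_e1' S 7 x 0 y
theorem co7o0 (x y : F) : Commute (S.o 7 x) (S.o 0 y) := o_o1' S 7 x y
theorem co7z1 (x y : F) : Commute (S.o 7 x) (S.e 1 0 y) := o_z2 S 7 x y
theorem c0o0 (x y : F) : Commute (S.e 0 0 x) (S.o 0 y) := e_o0' S 0 0 x y
theorem c0z1 (x y : F) : Commute (S.e 0 0 x) (S.e 1 0 y) := z_e1 S 0 x 0 y
theorem co0z1 (x y : F) : Commute (S.o 0 x) (S.e 1 0 y) := o_e1' S 0 x 0 y

theorem q5_mul (α β γ δ ε α' β' γ' δ' ε' : F) : q5 S α β γ δ ε * q5 S α' β' γ' δ' ε' =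
    q5 S (α + α') (β + β') (γ + γ') (δ + δ') (ε + ε') := by
  unfold q5
  have h1 : Commute (S.e 1 0 ε) (S.e 7 0 α' * S.o 7 β' * S.e 0 0 γ' * S.o 0 δ') :=
    (((c7z1 S _ _).symm.mul_right (co7z1 S _ _).symm).mul_right (c0z1 S _ _).symm).mul_right (co0z1 S _ _).symm
  have h2 : Commute (S.o 0 δ) (S.e 7 0 α' * S.o 7 β' * S.e 0 0 γ') :=
    ((c7o0 S _ _).symm.mul_right (co7o0 S _ _).symm).mul_right (c0o0 S _ _).symm
  have h3 : Commute (S.e 0 0 γ) (S.e 7 0 α' * S.o 7 β') := (c7z0 S _ _).symm.mul_right (co7z0 S _ _).symm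
  rw [h1.mul_mul_mul_comm, h2.mul_mul_mul_comm, h3.mul_mul_mul_comm, (c7o7 S α' β).symm.mul_mul_mul_comm,
    z_mul, z_mul, z_mul, S.o_add, S.o_add]

theorem q5_zero : q5 S 0 0 0 0 0 = 1 := by
  unfold q5
  rw [e_zero, e_zero, e_zero, o_zero, o_zero]
  simp

theorem q5_sq (α β γ δ ε : F) : q5 S α β γ δ ε * q5 S α β γ δ ε = 1 := by
  rw [q5_mul]
  simp only [add_self]
  exact q5_zero S

theorem q5_inv (α β γ δ ε : F) : (q5 S α β γ δ ε)⁻¹ = q5 S α β γ δ ε :=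
  inv_eq_of_mul_eq_one_left (q5_sq S α β γ δ ε)

theorem q5_comm (α β γ δ ε α' β' γ' δ' ε' : F) : Commute (q5 S α β γ δ ε) (q5 S α' β' γ' δ' ε') := by
  show _ * _ = _ * _
  rw [q5_mul, q5_mul]
  congr 1 <;> ring

theorem z7_eq (x : F) : S.e 7 0 x = q5 S x 0 0 0 0 := by
  unfold q5; rw [e_zero, e_zero, o_zero, o_zero]; simp
theorem o7_eq (x : F) : S.o 7 x = q5 S 0 x 0 0 0 := by
  unfold q5; rw [e_zero, e_zero, e_zero, o_zero]; simp
theorem z0_eq (x : F) : S.e 0 0 x = q5 S 0 0 x 0 0 := by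
  unfold q5; rw [e_zero, e_zero, o_zero, o_zero]; simp
theorem o0_eq (x : F) : S.o 0 x = q5 S 0 0 0 x 0 := by
  unfold q5; rw [e_zero, e_zero, e_zero, o_zero]; simp
theorem z1_eq (x : F) : S.e 1 0 x = q5 S 0 0 0 0 x := by
  unfold q5; rw [e_zero, e_zero, o_zero, o_zero]; simp

omit [CharP F 2] in
theorem conj_prod {G : Type*} [Group G] {x a b c d e a' b' c' d' e' : G} (ha : x⁻¹ * a * x = a') (hb : x⁻¹ * b * x = b')
    (hc : x⁻¹ * c * x = c') (hd : x⁻¹ * d * x = d') (he : x⁻¹ * e * x = e') :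
    x⁻¹ * (a * b * c * d * e) * x = a' * b' * c' * d' * e' := by
  rw [← ha, ← hb, ← hc, ← hd, ← he]; group

theorem conj_comm {G : Type*} [Group G] {x a : G} (h : Commute x a) : x⁻¹ * a * x = a := by
  rw [mul_assoc, ← h.eq]; group

/-- the action of `z₂(v)` on `Q₂` -/
theorem q5_z2 (α β γ δ ε v : F) : (S.e 2 0 v)⁻¹ * q5 S α β γ δ ε * S.e 2 0 v =
    q5 S α β (γ + σ α * v) (δ + α * v) (ε + β * v + α * σ v) := by
  have h7 : (S.e 2 0 v)⁻¹ * S.e 7 0 α * S.e 2 0 v = q5 S α 0 (σ α * v) (α * v) (α * σ v) := by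
    have h := Fam.s_conj (S := S) α v
    rw [h]
    unfold Fam.c
    rw [z7_eq, z0_eq, o0_eq, z1_eq, q5_mul, q5_mul, q5_mul]
    simp
  have ho : (S.e 2 0 v)⁻¹ * S.o 7 β * S.e 2 0 v = q5 S 0 β 0 0 (β * v) := by
    have h : S.o 7 β * S.e 2 0 v = S.e 2 0 v * S.o 7 β * S.e 1 0 (β * v) := o_z3 S 7 β v
    calc (S.e 2 0 v)⁻¹ * S.o 7 β * S.e 2 0 v = (S.e 2 0 v)⁻¹ * (S.o 7 β * S.e 2 0 v) := by group
      _ = S.o 7 β * S.e 1 0 (β * v) := by rw [h]; group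
      _ = _ := by rw [o7_eq, z1_eq, q5_mul]; simp
  have h0 : (S.e 2 0 v)⁻¹ * S.e 0 0 γ * S.e 2 0 v = q5 S 0 0 γ 0 0 := by
    exact (conj_comm (e_e2' S 0 0 γ 0 v).symm).trans (z0_eq S _)
  have ho0 : (S.e 2 0 v)⁻¹ * S.o 0 δ * S.e 2 0 v = q5 S 0 0 0 δ 0 := by
    exact (conj_comm (o_z2 S 0 δ v).symm).trans (o0_eq S _)
  have h1 : (S.e 2 0 v)⁻¹ * S.e 1 0 ε * S.e 2 0 v = q5 S 0 0 0 0 ε := by
    exact (conj_comm (e_z1 S 1 0 ε v).symm).trans (z1_eq S _)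
  have := conj_prod h7 ho h0 ho0 h1
  have e1 : q5 S α β γ δ ε = S.e 7 0 α * S.o 7 β * S.e 0 0 γ * S.o 0 δ * S.e 1 0 ε := rfl
  rw [e1, this]
  simp only [q5_mul]
  congr 1 <;> ring

/-- the action of `e₂(p, u)` on `z₀ o₀ z₁` -/
theorem q5_e2 (γ δ ε p u : F) : (S.e 2 p u)⁻¹ * q5 S 0 0 γ δ ε * S.e 2 p u = q5 S 0 0 γ δ (ε + δ * p) := by
  have h7 : (S.e 2 p u)⁻¹ * S.e 7 0 0 * S.e 2 p u = q5 S 0 0 0 0 0 := by
    rw [e_zero, q5_zero]; group
  have ho : (S.e 2 p u)⁻¹ * S.o 7 0 * S.e 2 p u = q5 S 0 0 0 0 0 := by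
    rw [o_zero, q5_zero]; group
  have h0 : (S.e 2 p u)⁻¹ * S.e 0 0 γ * S.e 2 p u = q5 S 0 0 γ 0 0 := by
    exact (conj_comm (e_e2' S 0 0 γ p u).symm).trans (z0_eq S _)
  have ho0 : (S.e 2 p u)⁻¹ * S.o 0 δ * S.e 2 p u = q5 S 0 0 0 δ (δ * p) := by
    have h : S.o 0 δ * S.e 2 p u = S.e 2 p u * S.o 0 δ * S.e 1 0 (δ * p) := S.o_e2 0 δ p u
    calc (S.e 2 p u)⁻¹ * S.o 0 δ * S.e 2 p u = (S.e 2 p u)⁻¹ * (S.o 0 δ * S.e 2 p u) := by group
      _ = S.o 0 δ * S.e 1 0 (δ * p) := by rw [h]; group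
      _ = _ := by rw [o0_eq, z1_eq, q5_mul]; simp
  have h1 : (S.e 2 p u)⁻¹ * S.e 1 0 ε * S.e 2 p u = q5 S 0 0 0 0 ε := by
    exact (conj_comm (z_e1 S 1 ε p u).symm).trans (z1_eq S _)
  have := conj_prod h7 ho h0 ho0 h1
  have e1 : q5 S 0 0 γ δ ε = S.e 7 0 0 * S.o 7 0 * S.e 0 0 γ * S.o 0 δ * S.e 1 0 ε := rfl
  rw [e1, this]
  simp only [q5_mul]
  congr 1 <;> ring

/-- fixed points of `E₂` on `Q₂ / Z₀` -/
theorem fix_E2 (hU : Uniq S) {α β γ δ ε : F}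
    (h : ∀ p u, ∃ k, (S.e 2 p u)⁻¹ * q5 S α β γ δ ε * S.e 2 p u = q5 S α β γ δ ε * S.e 0 0 k) :
    α = 0 ∧ β = 0 ∧ δ = 0 := by
  obtain ⟨k, hk⟩ := h 0 1
  rw [q5_z2, z0_eq, q5_mul] at hk
  obtain ⟨-, -, -, h1, h2⟩ := hU _ _ _ _ _ _ _ _ _ _ hk
  have hα : α = 0 := by
    rw [mul_one, add_zero] at h1
    exact add_eq_left.mp h1
  subst hα
  have hβ : β = 0 := by
    rw [mul_one, zero_mul, add_zero, add_zero] at h2
    exact add_eq_left.mp h2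
  subst hβ
  obtain ⟨k', hk'⟩ := h 1 0
  rw [q5_e2, z0_eq, q5_mul] at hk'
  obtain ⟨-, -, -, -, h3⟩ := hU _ _ _ _ _ _ _ _ _ _ hk'
  rw [mul_one, add_zero] at h3
  exact ⟨rfl, rfl, add_eq_left.mp h3⟩

/-- the action of `o₁(s)` on `Q₂` -/
theorem q5_o1 (α β γ δ ε s : F) : (S.o 1 s)⁻¹ * q5 S α β γ δ ε * S.o 1 s = q5 S α β (γ + α * s) δ ε := by
  have h7 : (S.o 1 s)⁻¹ * S.e 7 0 α * S.o 1 s = q5 S α 0 (α * s) 0 0 := by
    have h : S.e 7 0 α * S.o 1 s = S.o 1 s * S.e 7 0 α * S.e 0 0 (α * s) := by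
      have := S.e_o2 7 0 α s
      simp only [map_zero, zero_mul, zero_add, o_zero, e_zero, mul_one] at this
      exact this
    calc (S.o 1 s)⁻¹ * S.e 7 0 α * S.o 1 s = (S.o 1 s)⁻¹ * (S.e 7 0 α * S.o 1 s) := by group
      _ = S.e 7 0 α * S.e 0 0 (α * s) := by rw [h]; group
      _ = _ := by rw [z7_eq, z0_eq, q5_mul]; simp
  have ho : (S.o 1 s)⁻¹ * S.o 7 β * S.o 1 s = q5 S 0 β 0 0 0 := by
    exact (conj_comm (o_o2' S 7 β s).symm).trans (o7_eq S _)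
  have h0 : (S.o 1 s)⁻¹ * S.e 0 0 γ * S.o 1 s = q5 S 0 0 γ 0 0 := by
    exact (conj_comm (z_o1 S 0 γ s).symm).trans (z0_eq S _)
  have ho0 : (S.o 1 s)⁻¹ * S.o 0 δ * S.o 1 s = q5 S 0 0 0 δ 0 := by
    exact (conj_comm (o_o1' S 0 δ s).symm).trans (o0_eq S _)
  have h1 : (S.o 1 s)⁻¹ * S.e 1 0 ε * S.o 1 s = q5 S 0 0 0 0 ε := by
    exact (conj_comm (e_o0' S 1 0 ε s).symm).trans (z1_eq S _)
  have := conj_prod h7 ho h0 ho0 h1
  have e1 : q5 S α β γ δ ε = S.e 7 0 α * S.o 7 β * S.e 0 0 γ * S.o 0 δ * S.e 1 0 ε := rfl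
  rw [e1, this]
  simp only [q5_mul]
  congr 1 <;> ring

/-- the action of `e₁(p, u)` on `Q₂` -/
theorem q5_e1 (α β γ δ ε p u : F) : (S.e 1 p u)⁻¹ * q5 S α β γ δ ε * S.e 1 p u = q5 S α β (γ + β * p) δ ε := by
  have h7 : (S.e 1 p u)⁻¹ * S.e 7 0 α * S.e 1 p u = q5 S α 0 0 0 0 := by
    exact (conj_comm (e_e2' S 7 0 α p u).symm).trans (z7_eq S _)
  have ho : (S.e 1 p u)⁻¹ * S.o 7 β * S.e 1 p u = q5 S 0 β (β * p) 0 0 := by
    have h : S.o 7 β * S.e 1 p u = S.e 1 p u * S.o 7 β * S.e 0 0 (β * p) := S.o_e2 7 β p u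
    calc (S.e 1 p u)⁻¹ * S.o 7 β * S.e 1 p u = (S.e 1 p u)⁻¹ * (S.o 7 β * S.e 1 p u) := by group
      _ = S.o 7 β * S.e 0 0 (β * p) := by rw [h]; group
      _ = _ := by rw [o7_eq, z0_eq, q5_mul]; simp
  have h0 : (S.e 1 p u)⁻¹ * S.e 0 0 γ * S.e 1 p u = q5 S 0 0 γ 0 0 := by
    exact (conj_comm (z_e1 S 0 γ p u).symm).trans (z0_eq S _)
  have ho0 : (S.e 1 p u)⁻¹ * S.o 0 δ * S.e 1 p u = q5 S 0 0 0 δ 0 := by
    exact (conj_comm (o_e1' S 0 δ p u).symm).trans (o0_eq S _)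
  have h1 : (S.e 1 p u)⁻¹ * S.e 1 0 ε * S.e 1 p u = q5 S 0 0 0 0 ε := by
    exact (conj_comm (z_ee S 1 ε p u).symm).trans (z1_eq S _)
  have := conj_prod h7 ho h0 ho0 h1
  have e1 : q5 S α β γ δ ε = S.e 7 0 α * S.o 7 β * S.e 0 0 γ * S.o 0 δ * S.e 1 0 ε := rfl
  rw [e1, this]
  simp only [q5_mul]
  congr 1 <;> ring

/-- `E₀` centralises `Q₂` -/
theorem q5_e0 (α β γ δ ε p u : F) : Commute (S.e 0 p u) (q5 S α β γ δ ε) := by
  unfold q5
  exact ((((z_e1 S 7 α p u).symm.mul_right (o_e1' S 7 β p u).symm).mul_right (z_ee S 0 γ p u).symm).mul_right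
    (e_o0' S 0 p u δ)).mul_right (e_z1 S 0 p u ε)

end

end Cfsg.Agent.OddHalf.D4.TwF.QTwo

end

-- merged: Cfsg.Agent.OddHalf.D4.TwF.Mir
section

/-!
# ODD D4, `K = ²F₄(q)`: images and the mirror image of a coordinate system
-/

set_option autoImplicit false
set_option linter.unusedSectionVars false

namespace Cfsg.Agent.OddHalf.D4.TwF.Mir

open Cfsg.Agent.Octagon.Pkg
open Cfsg.Agent.KFacts.TwF4 Cfsg.Agent.OddHalf.D4.TwF.Field Cfsg.Agent.OddHalf.D4.TwF.End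
open Cfsg.Agent.OddHalf.D4.TwF.QTwo

section map

variable {F : Type*} [Field F] {σ : F →+* F} {G H : Type*} [Group G] [Group H]

theorem rel_map {x1 x3 x5 x7 : F → G} {x2 x4 x6 x8 : F → F → G} (h : OctRel σ x1 x3 x5 x7 x2 x4 x6 x8) (f : G →* H) :
    OctRel σ (fun t => f (x1 t)) (fun t => f (x3 t)) (fun t => f (x5 t)) (fun t => f (x7 t))
      (fun p u => f (x2 p u)) (fun p u => f (x4 p u)) (fun p u => f (x6 p u)) (fun p u => f (x8 p u)) where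
  m1 t s := by rw [← map_mul, h.m1]
  m3 t s := by rw [← map_mul, h.m3]
  m5 t s := by rw [← map_mul, h.m5]
  m7 t s := by rw [← map_mul, h.m7]
  m2 p u q v := by rw [← map_mul, h.m2]
  m4 p u q v := by rw [← map_mul, h.m4]
  m6 p u q v := by rw [← map_mul, h.m6]
  m8 p u q v := by rw [← map_mul, h.m8]
  r12 t q v := by simp only [← map_mul]; rw [h.r12]
  r13 t s := by simp only [← map_mul]; rw [h.r13]
  r14 t q v := by simp only [← map_mul]; rw [h.r14]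
  r15 t s := by simp only [← map_mul]; rw [h.r15]
  r16 t q v := by simp only [← map_mul]; rw [h.r16]
  r17 t s := by simp only [← map_mul]; rw [h.r17]
  r18 t q v := by simp only [← map_mul]; rw [h.r18]
  r23 p u s := by simp only [← map_mul]; rw [h.r23]
  r24 p u q v := by simp only [← map_mul]; rw [h.r24]
  r25 p u s := by simp only [← map_mul]; rw [h.r25]
  r26 p u q v := by simp only [← map_mul]; rw [h.r26]
  r27 p u s := by simp only [← map_mul]; rw [h.r27]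
  r28 p u q v := by simp only [← map_mul]; rw [h.r28]
  r34 t q v := by simp only [← map_mul]; rw [h.r34]
  r35 t s := by simp only [← map_mul]; rw [h.r35]
  r36 t q v := by simp only [← map_mul]; rw [h.r36]
  r37 t s := by simp only [← map_mul]; rw [h.r37]
  r38 t q v := by simp only [← map_mul]; rw [h.r38]
  r45 p u s := by simp only [← map_mul]; rw [h.r45]
  r46 p u q v := by simp only [← map_mul]; rw [h.r46]
  r47 p u s := by simp only [← map_mul]; rw [h.r47]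
  r48 p u q v := by simp only [← map_mul]; rw [h.r48]
  r56 t q v := by simp only [← map_mul]; rw [h.r56]
  r57 t s := by simp only [← map_mul]; rw [h.r57]
  r58 t q v := by simp only [← map_mul]; rw [h.r58]
  r67 p u s := by simp only [← map_mul]; rw [h.r67]
  r68 p u q v := by simp only [← map_mul]; rw [h.r68]
  r78 t q v := by simp only [← map_mul]; rw [h.r78]

/-- the image of a coordinate system -/
def mapS (S : Sys σ G) (f : G →* H) (hf : Function.Injective f) : Sys σ H where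
  o a t := f (S.o a t)
  e a p u := f (S.e a p u)
  rot := f S.rot
  n1 := f S.n1
  n2 := f S.n2
  rel := rel_map S.rel f
  injO a := hf.comp (S.injO a)
  injE a p u q v h := S.injE a p u q v (hf h)
  rot_o a t := by rw [← map_mul, ← map_inv, ← map_mul, S.rot_o]
  rot_e a p u := by rw [← map_mul, ← map_inv, ← map_mul, S.rot_e]
  n1_o a t := by rw [← map_mul, ← map_inv, ← map_mul, S.n1_o]
  n1_e a p u := by rw [← map_mul, ← map_inv, ← map_mul, S.n1_e]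
  n2_o a t := by rw [← map_mul, ← map_inv, ← map_mul, S.n2_o]
  n2_e a p u := by rw [← map_mul, ← map_inv, ← map_mul, S.n2_e]

theorem mapS_o (S : Sys σ G) (f : G →* H) (hf : Function.Injective f) (a : ZMod 8) (t : F) :
    (mapS S f hf).o a t = f (S.o a t) := rfl
theorem mapS_e (S : Sys σ G) (f : G →* H) (hf : Function.Injective f) (a : ZMod 8) (p u : F) :
    (mapS S f hf).e a p u = f (S.e a p u) := rfl

end map

variable {F : Type*} [Field F] [CharP F 2] {σ τ : F →+* F} {G : Type*} [Group G]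

/-- mirror images -/
structure Mirror (S S' : Sys σ G) : Prop where
  e : ∀ a p u, S'.e a p u = S.e (-a) p u
  o : ∀ a t, S'.o a t = S.o (7 - a) t

theorem Mirror.symm {S S' : Sys σ G} (M : Mirror S S') : Mirror S' S :=
  ⟨fun a p u => by rw [M.e, neg_neg], fun a t => by rw [M.o, sub_sub_cancel]⟩

/-- the mirror image -/
theorem exists_mirror (S : Sys σ G) : ∃ S' : Sys σ G, Mirror S S' := by
  let w : G := S.rot * (S.rot * (S.rot * (S.rot * S.n2)))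
  have hc : ∀ x : G, (MulAut.conj w).toMonoidHom x =
      S.rot * (S.rot * (S.rot * (S.rot * (S.n2 * x * S.n2⁻¹) * S.rot⁻¹) * S.rot⁻¹) * S.rot⁻¹) * S.rot⁻¹ := by
    intro x
    show w * x * w⁻¹ = _
    simp only [w]
    group
  have hi : Function.Injective (MulAut.conj w).toMonoidHom := (MulAut.conj w).injective
  refine ⟨mapS S (MulAut.conj w).toMonoidHom hi, ?_, ?_⟩
  · intro a p u
    refine (mapS_e S _ hi a p u).trans ?_
    rw [hc, S.n2_e, S.rot_e, S.rot_e, S.rot_e, S.rot_e]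
    have : (4 - a + 1 + 1 + 1 + 1 : ZMod 8) = -a := by
      revert a; decide
    rw [this]
  · intro a t
    refine (mapS_o S _ hi a t).trans ?_
    rw [hc, S.n2_o, S.rot_o, S.rot_o, S.rot_o, S.rot_o]
    have : (3 - a + 1 + 1 + 1 + 1 : ZMod 8) = 7 - a := by
      revert a; decide
    rw [this]

section mirror

variable {S S' : Sys σ G}

theorem Mirror.e7 (M : Mirror S S') (p u : F) : S'.e 7 p u = S.e 1 p u := M.e 7 p u
theorem Mirror.e1 (M : Mirror S S') (p u : F) : S'.e 1 p u = S.e 7 p u := M.e 1 p u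
theorem Mirror.e0 (M : Mirror S S') (p u : F) : S'.e 0 p u = S.e 0 p u := M.e 0 p u
theorem Mirror.e2 (M : Mirror S S') (p u : F) : S'.e 2 p u = S.e 6 p u := M.e 2 p u
theorem Mirror.e6 (M : Mirror S S') (p u : F) : S'.e 6 p u = S.e 2 p u := M.e 6 p u
theorem Mirror.o0 (M : Mirror S S') (t : F) : S'.o 0 t = S.o 7 t := M.o 0 t
theorem Mirror.o7 (M : Mirror S S') (t : F) : S'.o 7 t = S.o 0 t := M.o 7 t
theorem Mirror.o1 (M : Mirror S S') (t : F) : S'.o 1 t = S.o 6 t := M.o 1 t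
theorem Mirror.o6 (M : Mirror S S') (t : F) : S'.o 6 t = S.o 1 t := M.o 6 t

theorem Mirror.q5 (M : Mirror S S') (α β γ δ ε : F) : QTwo.q5 S' α β γ δ ε = QTwo.q5 S ε δ γ β α := by
  have h1 : QTwo.q5 S' α β γ δ ε = S.e 1 0 α * S.o 0 β * S.e 0 0 γ * S.o 7 δ * S.e 7 0 ε := by
    unfold QTwo.q5
    rw [M.e7, M.e1, M.e0, M.o0, M.o7]
  rw [h1, z1_eq, o0_eq, z0_eq, o7_eq, z7_eq, q5_mul, q5_mul, q5_mul, q5_mul]
  simp

theorem Mirror.uniq (M : Mirror S S') (hU : Uniq S) : Uniq S' := by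
  intro α β γ δ ε α' β' γ' δ' ε' h
  rw [M.q5, M.q5] at h
  obtain ⟨h1, h2, h3, h4, h5⟩ := hU _ _ _ _ _ _ _ _ _ _ h
  exact ⟨h5, h4, h3, h2, h1⟩

end mirror

end Cfsg.Agent.OddHalf.D4.TwF.Mir

end

-- merged: Cfsg.Agent.OddHalf.D4.TwF.Norm
section

/-!
# ODD D4, `K = ²F₄(q)`: the elements commuting with `Q₂` and the torus of the Levi factor

`Nn S dl n`: `n` commutes with `Q₂` and with the torus `dl`, and `[n, x] ∈ Q₂` for the root elements `x` of `H`.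
`norm_form`: for some `c` the element `n' = e₀(c, 0) n` commutes with `o₁, o₆, E₁, E₇`, and there is `e` with
`n' z₂(v) n'⁻¹ = z₂(v) z₁(e τ v)`, `n' z₆(v) n'⁻¹ = z₆(v) z₇(e τ v)`, `n' e₀(p, u) n'⁻¹ = e₀(p, u) z₀(e τ p)`.
-/

set_option autoImplicit false
set_option linter.unusedSectionVars false

namespace Cfsg.Agent.OddHalf.D4.TwF.Norm

open Cfsg.Agent.KFacts.TwF4 Cfsg.Agent.OddHalf.D4.TwF.Field Cfsg.Agent.OddHalf.D4.TwF.End
open Cfsg.Agent.OddHalf.D4.TwF.QTwo Cfsg.Agent.OddHalf.D4.TwF.Mir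

/-! ### the defect `x⁻¹ xⁿ` -/

section dlt

variable {G : Type*} [Group G]

/-- `x⁻¹ (n x n⁻¹)` -/
def dlt (n x : G) : G := x⁻¹ * (n * x * n⁻¹)

theorem conj_eq (n x : G) : n * x * n⁻¹ = x * dlt n x := by unfold dlt; group

theorem dlt_eq_one {n x : G} (h : Commute n x) : dlt n x = 1 := by
  unfold dlt; rw [h.eq]; group

theorem comm_of_dlt {n x : G} (h : dlt n x = 1) : Commute n x := by
  have h1 := conj_eq n x
  rw [h, mul_one] at h1
  show n * x = x * n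
  calc n * x = (n * x * n⁻¹) * n := by group
    _ = x * n := by rw [h1]

theorem dlt_mul (n x y : G) : dlt n (x * y) = y⁻¹ * dlt n x * y * dlt n y := by unfold dlt; group

theorem dlt_left (m n x : G) : dlt (m * n) x = dlt m x * (m * dlt n x * m⁻¹) := by unfold dlt; group

theorem dlt_conj {n d : G} (h : Commute n d) (x : G) : dlt n (d * x * d⁻¹) = d * dlt n x * d⁻¹ := by
  unfold dlt
  have h1 : d⁻¹ * n⁻¹ = n⁻¹ * d⁻¹ := h.symm.inv_inv.eq
  calc (d * x * d⁻¹)⁻¹ * (n * (d * x * d⁻¹) * n⁻¹) = d * x⁻¹ * d⁻¹ * ((n * d) * x * (d⁻¹ * n⁻¹)) := by group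
    _ = d * x⁻¹ * d⁻¹ * ((d * n) * x * (n⁻¹ * d⁻¹)) := by rw [h.eq, h1]
    _ = _ := by group

theorem dlt_of {m x w : G} (h : m * x = x * m * w) (hw : Commute m w) : dlt m x = w := by
  unfold dlt
  rw [h]
  calc x⁻¹ * (x * m * w * m⁻¹) = (m * w) * m⁻¹ := by group
    _ = w := by rw [hw.eq]; group

theorem dlt_of' {m x w : G} (h : x * m = m * x * w) (hw : Commute m w) : dlt m x = w⁻¹ := by
  apply dlt_of _ hw.inv_right
  rw [h]; group

end dlt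

/-! ### fields -/

section field

variable {F : Type*} [Field F] [CharP F 2] {σ τ : F →+* F}

theorem exists_one (I : Inv σ τ) {y : F} (hy : y ≠ 0) : ∃ d : Fˣ, (d : F) * σ d = y := by
  have hσ : σ y ≠ 0 := (map_ne_zero σ).mpr hy
  refine ⟨Units.mk0 (σ y / y) (div_ne_zero hσ hy), ?_⟩
  show σ y / y * σ (σ y / y) = y
  rw [map_div₀, I.sq]
  field_simp

theorem exists_two (I : Inv σ τ) {y : F} (hy : y ≠ 0) : ∃ d : Fˣ, σ (d : F) * (d * d) = y := by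
  have hτ : τ y ≠ 0 := (map_ne_zero τ).mpr hy
  refine ⟨Units.mk0 (y / τ y) (div_ne_zero hy hτ), ?_⟩
  show σ (y / τ y) * (y / τ y * (y / τ y)) = y
  rw [map_div₀, I.r]
  have h1 : τ y * τ y = σ y := by
    rw [← map_mul, I.τ_sq]
  have hσ : σ y ≠ 0 := (map_ne_zero σ).mpr hy
  have h2 : y / τ y * (y / τ y) = y * y / σ y := by
    rw [div_mul_div_comm, h1]
  rw [h2]
  field_simp

/-- there is `x ≠ 0, 1` and it is not fixed -/
theorem exists_mov (I : Inv σ τ) : ∃ x : F, x ≠ 0 ∧ x ≠ 1 ∧ σ x ≠ x := by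
  obtain ⟨x, h0, h1⟩ := I.big
  refine ⟨x, h0, h1, fun h => ?_⟩
  rcases fix I.sq h with h2 | h2
  · exact h0 h2
  · exact h1 h2

theorem zero_of_add {ψ : F → F} (hadd : ∀ x y, ψ (x + y) = ψ x + ψ y) : ψ 0 = 0 := by
  have := hadd 0 0
  rw [add_zero] at this
  exact left_eq_add.mp this

theorem weight_inv_one (I : Inv σ τ) {ψ : F → F} (hadd : ∀ x y, ψ (x + y) = ψ x + ψ y)
    (h : ∀ (d : Fˣ) x, ψ (d * σ d * x) = ψ x) (x : F) : ψ x = 0 := by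
  refine zero_of_inv I hadd (fun x y hx hy => ?_) x
  obtain ⟨d, hd⟩ := exists_one I (div_ne_zero hy hx)
  have h1 := h d x
  rw [hd, div_mul_cancel₀ _ hx] at h1
  exact h1.symm

theorem weight_inv_zero (I : Inv σ τ) {ψ : F → F} (hadd : ∀ x y, ψ (x + y) = ψ x + ψ y)
    (h : ∀ (d : Fˣ) x, ψ (d * x) = ψ x) (x : F) : ψ x = 0 := by
  refine zero_of_inv I hadd (fun x y hx hy => ?_) x
  have h1 := h (Units.mk0 (y / x) (div_ne_zero hy hx)) x
  rw [Units.val_mk0, div_mul_cancel₀ _ hx] at h1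
  exact h1.symm

theorem weight_inv_two (I : Inv σ τ) {ψ : F → F} (hadd : ∀ x y, ψ (x + y) = ψ x + ψ y)
    (h : ∀ (d : Fˣ) x, ψ (σ d * (d * d) * x) = ψ x) (x : F) : ψ x = 0 := by
  refine zero_of_inv I hadd (fun x y hx hy => ?_) x
  obtain ⟨d, hd⟩ := exists_two I (div_ne_zero hy hx)
  have h1 := h d x
  rw [hd, div_mul_cancel₀ _ hx] at h1
  exact h1.symm

theorem weight_lin (I : Inv σ τ) {ψ : F → F} (hadd : ∀ x y, ψ (x + y) = ψ x + ψ y)
    (h : ∀ (d : Fˣ) x, ψ (d * σ d * x) = d * σ d * ψ x) (x : F) : ψ x = ψ 1 * x := by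
  by_cases hx : x = 0
  · rw [hx, mul_zero, zero_of_add hadd]
  obtain ⟨d, hd⟩ := exists_one I hx
  have h1 := h d 1
  rw [hd, mul_one] at h1
  rw [h1, mul_comm]

theorem weight_zero_one (I : Inv σ τ) {ψ : F → F} (hadd : ∀ x y, ψ (x + y) = ψ x + ψ y)
    (h : ∀ (d : Fˣ) x, ψ (d * x) = d * σ d * ψ x) (x : F) : ψ x = 0 := by
  have h1 : ∀ y : F, y ≠ 0 → ψ y = y * σ y * ψ 1 := by
    intro y hy
    have := h (Units.mk0 y hy) 1
    rwa [Units.val_mk0, mul_one] at this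
  obtain ⟨d, hd0, hd1, hd⟩ := exists_mov I
  have h2 : d + 1 ≠ 0 := fun h => hd1 (eq_of_add h)
  have h3 := hadd d 1
  rw [h1 _ h2, h1 _ hd0, map_add, map_one] at h3
  have h4 : (d + σ d) * ψ 1 = 0 := by
    have h5 : (d + σ d) * ψ 1 + (d * σ d * ψ 1 + ψ 1) = d * σ d * ψ 1 + ψ 1 := by
      calc (d + σ d) * ψ 1 + (d * σ d * ψ 1 + ψ 1) = (d + 1) * (σ d + 1) * ψ 1 := by ring
        _ = _ := h3
    exact add_eq_right.mp h5
  have h6 : ψ 1 = 0 := by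
    rcases mul_eq_zero.mp h4 with h7 | h7
    · exact absurd (eq_of_add h7).symm hd
    · exact h7
  by_cases hx : x = 0
  · rw [hx, zero_of_add hadd]
  rw [h1 x hx, h6, mul_zero]

theorem weight_zero_two (I : Inv σ τ) {ψ : F → F} (hadd : ∀ x y, ψ (x + y) = ψ x + ψ y)
    (h : ∀ (d : Fˣ) x, ψ (σ d * (d * d) * x) = d * ψ x) (x : F) : ψ x = 0 := by
  have hτ : ∀ y : F, y ≠ 0 → τ y ≠ 0 := fun y hy => (map_ne_zero τ).mpr hy
  have h1 : ∀ y : F, y ≠ 0 → τ y * ψ y = y * ψ 1 := by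
    intro y hy
    obtain ⟨d, hd⟩ := exists_two I hy
    have h2 := h d 1
    rw [hd, mul_one] at h2
    have h3 : τ y = σ d * d := by
      rw [← hd, map_mul, I.l, I.τ_sq]; ring
    rw [h2, h3, ← hd]; ring
  obtain ⟨d, hd0, hd1, hd⟩ := exists_mov I
  have h2 : d + 1 ≠ 0 := fun h => hd1 (eq_of_add h)
  have h3 := h1 _ h2
  have h4 := h1 _ hd0
  rw [hadd, map_add, map_one] at h3
  -- multiply by `τ d`
  have h5 : (d + σ d) * ψ 1 = 0 := by
    have e1 : τ d * τ d = σ d := by rw [← map_mul, I.τ_sq]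
    have e2 : τ d * ((τ d + 1) * (ψ d + ψ 1)) = τ d * ((d + 1) * ψ 1) := by rw [h3]
    have e3 : τ d * ((τ d + 1) * (ψ d + ψ 1)) = (τ d + 1) * (τ d * ψ d) + τ d * τ d * ψ 1 + τ d * ψ 1 := by ring
    rw [e3, h4, e1] at e2
    have e4 : (d + σ d) * ψ 1 + (τ d * (d + 1) * ψ 1) = τ d * (d + 1) * ψ 1 := by
      calc (d + σ d) * ψ 1 + (τ d * (d + 1) * ψ 1) = (τ d + 1) * (d * ψ 1) + σ d * ψ 1 + τ d * ψ 1 := by ring
        _ = τ d * ((d + 1) * ψ 1) := e2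
        _ = _ := by ring
    exact add_eq_right.mp e4
  have h6 : ψ 1 = 0 := by
    rcases mul_eq_zero.mp h5 with h7 | h7
    · exact absurd (eq_of_add h7).symm hd
    · exact h7
  by_cases hx : x = 0
  · rw [hx, zero_of_add hadd]
  have h7 := h1 x hx
  rw [h6, mul_zero] at h7
  exact (mul_eq_zero.mp h7).resolve_left (hτ x hx)

theorem weight_tau (I : Inv σ τ) {ψ : F → F} (hadd : ∀ x y, ψ (x + y) = ψ x + ψ y)
    (h : ∀ (d : Fˣ) x, ψ (σ d * (d * d) * x) = d * σ d * ψ x) (x : F) : ψ x = ψ 1 * τ x := by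
  by_cases hx : x = 0
  · rw [hx, map_zero, mul_zero, zero_of_add hadd]
  obtain ⟨d, hd⟩ := exists_two I hx
  have h2 := h d 1
  rw [hd, mul_one] at h2
  have h3 : τ x = σ d * d := by
    rw [← hd, map_mul, I.l, I.τ_sq]; ring
  rw [h2, h3]; ring

end field

variable {F : Type*} [Field F] [CharP F 2] {σ τ : F →+* F} {G : Type*} [Group G]

/-! ### the torus of the Levi factor -/

/-- the action of the torus of the Levi factor -/
structure Dl (S : Sys σ G) (dl : Fˣ → G) : Prop where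
  e0 : ∀ d p u, dl d * S.e 0 p u * (dl d)⁻¹ = S.e 0 p u
  o0 : ∀ d t, dl d * S.o 0 t * (dl d)⁻¹ = S.o 0 (d * t)
  o7 : ∀ d t, dl d * S.o 7 t * (dl d)⁻¹ = S.o 7 ((d⁻¹ : Fˣ) * t)
  e1 : ∀ d p u, dl d * S.e 1 p u * (dl d)⁻¹ = S.e 1 (d * p) (d * σ d * u)
  e7 : ∀ d p u, dl d * S.e 7 p u * (dl d)⁻¹ = S.e 7 ((d⁻¹ : Fˣ) * p) ((d⁻¹ : Fˣ) * σ (d⁻¹ : Fˣ) * u)
  o1 : ∀ d t, dl d * S.o 1 t * (dl d)⁻¹ = S.o 1 (d * σ d * t)
  o6 : ∀ d t, dl d * S.o 6 t * (dl d)⁻¹ = S.o 6 ((d⁻¹ : Fˣ) * σ (d⁻¹ : Fˣ) * t)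
  z2 : ∀ d v, dl d * S.e 2 0 v * (dl d)⁻¹ = S.e 2 0 (σ d * (d * d) * v)
  z6 : ∀ d v, dl d * S.e 6 0 v * (dl d)⁻¹ = S.e 6 0 (σ (d⁻¹ : Fˣ) * ((d⁻¹ : Fˣ) * (d⁻¹ : Fˣ)) * v)

theorem Dl.mirror {S S' : Sys σ G} {dl : Fˣ → G} (D : Dl S dl) (M : Mirror S S') : Dl S' (fun d => dl d⁻¹) where
  e0 d p u := by rw [M.e0, D.e0]
  o0 d t := by rw [M.o0, M.o0, D.o7, inv_inv]
  o7 d t := by rw [M.o7, M.o7, D.o0]
  e1 d p u := by rw [M.e1, M.e1, D.e7, inv_inv]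
  e7 d p u := by rw [M.e7, M.e7, D.e1]
  o1 d t := by rw [M.o1, M.o1, D.o6, inv_inv]
  o6 d t := by rw [M.o6, M.o6, D.o1]
  z2 d v := by rw [M.e2, M.e2, D.z6, inv_inv]
  z6 d v := by rw [M.e6, M.e6, D.z2]

theorem Dl.q5 {S : Sys σ G} {dl : Fˣ → G} (D : Dl S dl) (d : Fˣ) (α β γ δ ε : F) :
    dl d * q5 S α β γ δ ε * (dl d)⁻¹ =
    q5 S ((d⁻¹ : Fˣ) * σ (d⁻¹ : Fˣ) * α) ((d⁻¹ : Fˣ) * β) γ (d * δ) (d * σ d * ε) := by
  have h1 : S.e 7 0 ((d⁻¹ : Fˣ) * σ (d⁻¹ : Fˣ) * α) = dl d * S.e 7 0 α * (dl d)⁻¹ := by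
    rw [D.e7, mul_zero]
  have h2 : S.e 1 0 (d * σ d * ε) = dl d * S.e 1 0 ε * (dl d)⁻¹ := by
    rw [D.e1, mul_zero]
  unfold QTwo.q5
  rw [h1, h2, ← D.o7, ← D.o0]
  conv_rhs => rw [← D.e0 d 0 γ]
  group

/-! ### the class of elements -/

/-- membership in `Q₂` -/
def InQ (S : Sys σ G) (x : G) : Prop := ∃ α β γ δ ε, x = q5 S α β γ δ ε

theorem InQ.one (S : Sys σ G) : InQ S 1 := ⟨0, 0, 0, 0, 0, (q5_zero S).symm⟩

theorem InQ.mul {S : Sys σ G} {x y : G} (hx : InQ S x) (hy : InQ S y) : InQ S (x * y) := by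
  obtain ⟨a, b, c, d, e, rfl⟩ := hx
  obtain ⟨a', b', c', d', e', rfl⟩ := hy
  exact ⟨_, _, _, _, _, q5_mul S _ _ _ _ _ _ _ _ _ _⟩

theorem InQ.mirror {S S' : Sys σ G} (M : Mirror S S') {x : G} (h : InQ S x) : InQ S' x := by
  obtain ⟨a, b, c, d, e, rfl⟩ := h
  exact ⟨e, d, c, b, a, (M.q5 e d c b a).symm⟩

/-- the elements `n` -/
structure Nn (S : Sys σ G) (dl : Fˣ → G) (n : G) : Prop where
  z7 : ∀ u, Commute n (S.e 7 0 u)
  o7 : ∀ t, Commute n (S.o 7 t)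
  z0 : ∀ u, Commute n (S.e 0 0 u)
  o0 : ∀ t, Commute n (S.o 0 t)
  z1 : ∀ u, Commute n (S.e 1 0 u)
  dl : ∀ d, Commute n (dl d)
  qo1 : ∀ s, InQ S (dlt n (S.o 1 s))
  qo6 : ∀ s, InQ S (dlt n (S.o 6 s))
  qe1 : ∀ p u, InQ S (dlt n (S.e 1 p u))
  qe7 : ∀ p u, InQ S (dlt n (S.e 7 p u))
  qe0 : ∀ p u, InQ S (dlt n (S.e 0 p u))
  qe2 : ∀ p u, InQ S (dlt n (S.e 2 p u))
  qe6 : ∀ p u, InQ S (dlt n (S.e 6 p u))

theorem Nn.mirror {S S' : Sys σ G} {dl : Fˣ → G} {n : G} (N : Nn S dl n) (M : Mirror S S') :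
    Nn S' (fun d => dl d⁻¹) n where
  z7 u := by rw [M.e7]; exact N.z1 u
  o7 t := by rw [M.o7]; exact N.o0 t
  z0 u := by rw [M.e0]; exact N.z0 u
  o0 t := by rw [M.o0]; exact N.o7 t
  z1 u := by rw [M.e1]; exact N.z7 u
  dl d := N.dl d⁻¹
  qo1 s := by rw [M.o1]; exact (N.qo6 s).mirror M
  qo6 s := by rw [M.o6]; exact (N.qo1 s).mirror M
  qe1 p u := by rw [M.e1]; exact (N.qe7 p u).mirror M
  qe7 p u := by rw [M.e7]; exact (N.qe1 p u).mirror M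
  qe0 p u := by rw [M.e0]; exact (N.qe0 p u).mirror M
  qe2 p u := by rw [M.e2]; exact (N.qe6 p u).mirror M
  qe6 p u := by rw [M.e6]; exact (N.qe2 p u).mirror M

namespace Nn

variable {S : Sys σ G} {dl : Fˣ → G} {n : G}

theorem q5 (N : Nn S dl n) (α β γ δ ε : F) : Commute n (q5 S α β γ δ ε) :=
  ((((N.z7 α).mul_right (N.o7 β)).mul_right (N.z0 γ)).mul_right (N.o0 δ)).mul_right (N.z1 ε)

/-- the relation `xy = yxw` read through the defects -/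
theorem rel {x y w : G} (h : x * y = y * x * w) : y⁻¹ * dlt n x * y * dlt n y =
    w⁻¹ * (x⁻¹ * dlt n y * x * dlt n x) * w * dlt n w := by
  rw [← dlt_mul, ← dlt_mul, ← dlt_mul, h]

/-- `n` on `o₁` -/
theorem o1 (N : Nn S dl n) (D : Dl S dl) (I : Inv σ τ) (hU : Uniq S) : ∃ c : F, ∀ s, dlt n (S.o 1 s) = S.e 1 0 (c * s) := by
  have h1 : ∀ s, ∃ γ ε, dlt n (S.o 1 s) = QTwo.q5 S 0 0 γ 0 ε := by
    intro s
    obtain ⟨α, β, γ, δ, ε, hk⟩ := N.qo1 s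
    have : α = 0 ∧ β = 0 ∧ δ = 0 := by
      apply fix_E2 S hU
      intro p u
      obtain ⟨a1, a2, a3, a4, a5, ha⟩ := N.qe2 p u
      have hc : S.e 2 p u * S.o 1 s = S.o 1 s * S.e 2 p u * 1 := by
        rw [mul_one]; exact (o_e1' S 1 s p u).symm
      have h := rel (n := n) hc
      rw [ha, hk, q5_o1, dlt_eq_one (Commute.one_right n), inv_one, one_mul, mul_one, mul_one, q5_mul] at h
      have h2 : (S.e 2 p u)⁻¹ * QTwo.q5 S α β γ δ ε * S.e 2 p u = QTwo.q5 S (a1 + α) (a2 + β) (a3 + a1 * s + γ) (a4 + δ)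
          (a5 + ε) * (QTwo.q5 S a1 a2 a3 a4 a5)⁻¹ := by
        rw [h]; group
      rw [q5_inv, q5_mul] at h2
      refine ⟨a1 * s, ?_⟩
      rw [h2, z0_eq, q5_mul]
      congr 1
      · rw [add_right_comm, add_self]; ring
      · rw [add_right_comm, add_self]; ring
      · have : a3 + a1 * s + γ + a3 = (a3 + a3) + (γ + a1 * s) := by ring
        rw [this, add_self, zero_add]
      · rw [add_right_comm, add_self]; ring
      · rw [add_right_comm, add_self]; ring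
    obtain ⟨rfl, rfl, rfl⟩ := this
    exact ⟨γ, ε, hk⟩
  choose γ ε h2 using h1
  have hadd : ∀ s s', γ (s + s') = γ s + γ s' ∧ ε (s + s') = ε s + ε s' := by
    intro s s'
    have h := dlt_mul n (S.o 1 s) (S.o 1 s')
    rw [S.o_add, h2, h2, h2, q5_o1, q5_mul] at h
    simp only [zero_mul, add_zero] at h
    obtain ⟨-, -, h3, -, h4⟩ := hU _ _ _ _ _ _ _ _ _ _ h
    exact ⟨h3, h4⟩
  have hw : ∀ (d : Fˣ) s, γ (d * σ d * s) = γ s ∧ ε (d * σ d * s) = d * σ d * ε s := by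
    intro d s
    have h := dlt_conj (N.dl d) (S.o 1 s)
    rw [D.o1, h2, h2, D.q5] at h
    simp only [mul_zero] at h
    obtain ⟨-, -, h3, -, h4⟩ := hU _ _ _ _ _ _ _ _ _ _ h
    exact ⟨h3, h4⟩
  have h3 := weight_inv_one I (fun x y => (hadd x y).1) (fun d x => (hw d x).1)
  have h4 := weight_lin I (fun x y => (hadd x y).2) (fun d x => (hw d x).2)
  refine ⟨ε 1, fun s => ?_⟩
  rw [h2, h3, z1_eq, h4]

theorem two_add (a b : F) : a + b + a = b := by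
  rw [add_right_comm, add_self, zero_add]

/-- from `y⁻¹ κ y · a = a · κ · z₀` -/
theorem mod_aux {α β γ δ ε a1 a2 a3 a4 a5 k : F} {y : G}
    (h : y⁻¹ * QTwo.q5 S α β γ δ ε * y * QTwo.q5 S a1 a2 a3 a4 a5 = QTwo.q5 S (a1 + α) (a2 + β) k (a4 + δ) (a5 + ε)) :
    ∃ k', y⁻¹ * QTwo.q5 S α β γ δ ε * y = QTwo.q5 S α β γ δ ε * S.e 0 0 k' := by
  have h2 : y⁻¹ * QTwo.q5 S α β γ δ ε * y = QTwo.q5 S (a1 + α) (a2 + β) k (a4 + δ) (a5 + ε) *
      (QTwo.q5 S a1 a2 a3 a4 a5)⁻¹ := by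
    rw [← h]; group
  rw [q5_inv, q5_mul, two_add, two_add, two_add, two_add] at h2
  refine ⟨γ + (k + a3), ?_⟩
  rw [h2, z0_eq, q5_mul]
  congr 1
  · ring
  · ring
  · rw [← add_assoc, add_self, zero_add]
  · ring
  · ring

/-- `n` on `E₁`, if `n` commutes with `o₁` -/
theorem e1 (N : Nn S dl n) (D : Dl S dl) (I : Inv σ τ) (hU : Uniq S) (h1 : ∀ s, Commute n (S.o 1 s)) (p u : F) :
    Commute n (S.e 1 p u) := by
  have h2 : ∀ p, ∃ γ ε, dlt n (S.e 1 p 0) = QTwo.q5 S 0 0 γ 0 ε := by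
    intro p
    obtain ⟨α, β, γ, δ, ε, hk⟩ := N.qe1 p 0
    have : α = 0 ∧ β = 0 ∧ δ = 0 := by
      apply fix_E2 S hU
      intro q v
      obtain ⟨a1, a2, a3, a4, a5, ha⟩ := N.qe2 q v
      have hc : S.e 1 p 0 * S.e 2 q v = S.e 2 q v * S.e 1 p 0 * S.o 1 (p * q) := S.e_e1 1 p 0 q v
      have h := rel (n := n) hc
      rw [ha, hk, dlt_eq_one (h1 _), mul_one, q5_e1, q5_mul, q5_o1] at h
      exact mod_aux h
    obtain ⟨rfl, rfl, rfl⟩ := this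
    exact ⟨γ, ε, hk⟩
  choose γ ε h3 using h2
  have hz : ∀ u, Commute n (S.e 1 0 u) := N.z1
  have hsplit : ∀ p u, S.e 1 p u = S.e 1 p 0 * S.e 1 0 u := by
    intro p u
    rw [S.e_mul, map_zero, mul_zero, add_zero, add_zero, zero_add]
  have hadd : ∀ s s', γ (s + s') = γ s + γ s' ∧ ε (s + s') = ε s + ε s' := by
    intro s s'
    have h := dlt_mul n (S.e 1 s 0) (S.e 1 s' 0)
    rw [S.e_mul, hsplit, dlt_mul, dlt_eq_one (hz _), mul_one, h3, h3, h3, q5_e1, q5_e1, q5_mul] at h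
    simp only [zero_mul, add_zero] at h
    obtain ⟨-, -, h4, -, h5⟩ := hU _ _ _ _ _ _ _ _ _ _ h
    exact ⟨h4, h5⟩
  have hw : ∀ (d : Fˣ) s, γ (d * s) = γ s ∧ ε (d * s) = d * σ d * ε s := by
    intro d s
    have h := dlt_conj (N.dl d) (S.e 1 s 0)
    rw [D.e1, mul_zero, h3, h3, D.q5] at h
    simp only [mul_zero] at h
    obtain ⟨-, -, h4, -, h5⟩ := hU _ _ _ _ _ _ _ _ _ _ h
    exact ⟨h4, h5⟩
  have h4 := weight_inv_zero I (fun x y => (hadd x y).1) (fun d x => (hw d x).1)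
  have h5 := weight_zero_one I (fun x y => (hadd x y).2) (fun d x => (hw d x).2)
  rw [hsplit]
  refine Commute.mul_right (comm_of_dlt ?_) (hz u)
  rw [h3, h4, h5, q5_zero]

/-! ### the key relation -/

/-- the element `[o₆(t), z₂(v)]` -/
def R (S : Sys σ G) (t v : F) : G := S.e 7 0 (t * σ t * v) * S.o 7 (t * σ t * σ v) *
  S.e 0 (σ t * v) (t * t * σ t * v * σ v) * S.o 0 (t * σ t * v * v) * S.e 1 (t * v) 0 * S.o 1 (t * σ v)

theorem R_rel (S : Sys σ G) (t v : F) : S.o 6 t * S.e 2 0 v = S.e 2 0 v * S.o 6 t * R S t v := by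
  have h := S.o_e4 6 t 0 v
  simp only [map_zero, zero_mul, mul_zero, add_zero, zero_add] at h
  have h' : S.o 6 t * S.e 2 0 v = S.e 2 0 v * S.o 6 t * S.e 7 0 (t * σ t * v) * S.o 7 (t * σ t * σ v) *
      S.e 0 (σ t * v) (t * t * σ t * v * σ v) * S.o 0 (t * σ t * v * v) * S.e 1 (t * v) 0 * S.o 1 (t * σ v) := h
  rw [h']
  unfold R
  simp only [mul_assoc]

/-- acting trivially on `Q₂ / Z₀` -/
def Tr (S : Sys σ G) (y : G) : Prop := ∀ α β γ δ ε, ∃ k, y⁻¹ * QTwo.q5 S α β γ δ ε * y = QTwo.q5 S α β k δ ε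

theorem Tr.mul {x y : G} (hx : Tr S x) (hy : Tr S y) : Tr S (x * y) := by
  intro α β γ δ ε
  obtain ⟨k, hk⟩ := hx α β γ δ ε
  obtain ⟨k', hk'⟩ := hy α β k δ ε
  refine ⟨k', ?_⟩
  rw [← hk', ← hk]; group

theorem Tr.of_comm {x : G} (hx : ∀ α β γ δ ε, Commute x (QTwo.q5 S α β γ δ ε)) : Tr S x := by
  intro α β γ δ ε
  exact ⟨γ, conj_comm (hx α β γ δ ε)⟩

theorem tr_q5 (S : Sys σ G) (a b c d e : F) : Tr S (QTwo.q5 S a b c d e) := Tr.of_comm fun _ _ _ _ _ => q5_comm S _ _ _ _ _ _ _ _ _ _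

theorem tr_R (S : Sys σ G) (t v : F) : Tr S (R S t v) := by
  unfold R
  refine ((((Tr.mul ?_ ?_).mul ?_).mul ?_).mul ?_).mul ?_
  · rw [z7_eq]; exact tr_q5 S _ _ _ _ _
  · rw [o7_eq]; exact tr_q5 S _ _ _ _ _
  · exact Tr.of_comm fun _ _ _ _ _ => q5_e0 S _ _ _ _ _ _ _
  · rw [o0_eq]; exact tr_q5 S _ _ _ _ _
  · exact fun _ _ _ _ _ => ⟨_, q5_e1 S _ _ _ _ _ _ _⟩
  · exact fun _ _ _ _ _ => ⟨_, q5_o1 S _ _ _ _ _ _⟩

theorem q5_o6 (S : Sys σ G) (α β γ δ ε t : F) : (S.o 6 t)⁻¹ * QTwo.q5 S α β γ δ ε * S.o 6 t = QTwo.q5 S α β (γ + ε * t) δ ε := by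
  obtain ⟨S', M⟩ := exists_mirror S
  rw [← M.o1, ← M.q5, q5_o1, M.q5]

/-- the defect of `R` -/
theorem dlt_R (N : Nn S dl n) (h1 : ∀ s, Commute n (S.o 1 s)) (he : ∀ p u, Commute n (S.e 1 p u)) {t v h1' h2' h3' h4' h5' : F}
    (hh : dlt n (S.e 0 (σ t * v) (t * t * σ t * v * σ v)) = QTwo.q5 S h1' h2' h3' h4' h5') :
    ∃ k, dlt n (R S t v) = QTwo.q5 S h1' h2' k h4' h5' := by
  have e1 : dlt n (R S t v) = (S.o 1 (t * σ v))⁻¹ * ((S.e 1 (t * v) 0)⁻¹ * ((S.o 0 (t * σ t * v * v))⁻¹ *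
      QTwo.q5 S h1' h2' h3' h4' h5' * S.o 0 (t * σ t * v * v)) * S.e 1 (t * v) 0) * S.o 1 (t * σ v) := by
    unfold R
    rw [dlt_mul, dlt_mul, dlt_mul, dlt_mul, dlt_mul, hh, dlt_eq_one (h1 _), dlt_eq_one (he _ _), dlt_eq_one (N.o0 _),
      dlt_eq_one (N.o7 _), dlt_eq_one (N.z7 _)]
    simp only [mul_one, inv_mul_cancel, one_mul]
  rw [e1, o0_eq, conj_comm (q5_comm S _ _ _ _ _ _ _ _ _ _), q5_e1, q5_o1]
  exact ⟨_, rfl⟩

theorem e0_split (S : Sys σ G) (p u : F) : S.e 0 p u = S.e 0 p 0 * S.e 0 0 u := by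
  rw [S.e_mul, map_zero, mul_zero, add_zero, add_zero, zero_add]

theorem dlt_e0 (N : Nn S dl n) (p u : F) : dlt n (S.e 0 p u) = dlt n (S.e 0 p 0) := by
  obtain ⟨a, b, c, d, e, hk⟩ := N.qe0 p 0
  rw [e0_split, dlt_mul, dlt_eq_one (N.z0 u), mul_one, hk]
  exact conj_comm (q5_e0 S _ _ _ _ _ _ _)

/-- **(e)** -/
theorem e0 (N : Nn S dl n) (I : Inv σ τ) (hU : Uniq S) (h1 : ∀ s, Commute n (S.o 1 s))
    (he : ∀ p u, Commute n (S.e 1 p u)) {c : F} (h6 : ∀ t, dlt n (S.o 6 t) = S.e 7 0 (c * t)) :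
    c = 0 ∧ ∀ p, ∃ h, ∀ u, dlt n (S.e 0 p u) = S.e 0 0 h := by
  have key : ∀ t v, ∃ h, dlt n (S.e 0 (σ t * v) 0) = QTwo.q5 S 0 0 h (c * t * v) (c * t * σ v) := by
    intro t v
    obtain ⟨b1, b2, b3, b4, b5, hb⟩ := N.qe0 (σ t * v) (t * t * σ t * v * σ v)
    obtain ⟨k1, k2, k3, k4, k5, hk⟩ := N.qe2 0 v
    obtain ⟨m, hm⟩ := N.dlt_R h1 he hb
    have h := rel (n := n) (R_rel S t v)
    rw [hm, hk, h6, z7_eq, q5_z2, q5_mul, q5_o6, q5_mul] at h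
    obtain ⟨m', hm'⟩ := tr_R S t v (k1 + c * t) (k2 + 0) (k3 + k5 * t + 0) (k4 + 0) (k5 + 0)
    rw [hm', q5_mul] at h
    obtain ⟨e1, e2, -, e4, e5⟩ := hU _ _ _ _ _ _ _ _ _ _ h
    have f1 : b1 = 0 := by
      have : b1 = (k1 + c * t + b1) + (c * t + k1) := by
        rw [add_comm (c * t) k1]; rw [two_add]
      rw [this, ← e1, add_self]
    have f2 : b2 = 0 := by
      have : b2 = (k2 + 0 + b2) + k2 := by rw [add_zero, two_add]
      rw [this, ← e2, zero_add, add_self]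
    have f4 : b4 = c * t * v := by
      have : b4 = (k4 + 0 + b4) + k4 := by rw [add_zero, two_add]
      rw [this, ← e4, zero_add, add_assoc, add_self, add_zero]
    have f5 : b5 = c * t * σ v := by
      have : b5 = (k5 + 0 + b5) + k5 := by rw [add_zero, two_add]
      rw [this, ← e5]
      have : 0 + 0 * v + c * t * σ v + k5 + k5 = c * t * σ v + (k5 + k5) := by ring
      rw [this, add_self, add_zero]
    rw [f1, f2, f4, f5, N.dlt_e0] at hb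
    exact ⟨_, hb⟩
  have hc : c = 0 := by
    obtain ⟨l, hl0, hl1, hl⟩ := exists_mov I
    have hσl : σ l ≠ 0 := (map_ne_zero σ).mpr hl0
    obtain ⟨h, hh⟩ := key 1 1
    obtain ⟨h', hh'⟩ := key l (σ l)⁻¹
    rw [mul_inv_cancel₀ hσl] at hh'
    rw [map_one, mul_one] at hh
    rw [hh] at hh'
    obtain ⟨-, -, -, e4, -⟩ := hU _ _ _ _ _ _ _ _ _ _ hh'
    rw [mul_one] at e4
    have e5 : c * (σ l + l) = 0 := by
      have : c * σ l = c * l := by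
        calc c * σ l = (c * 1) * σ l := by ring
          _ = (c * l * (σ l)⁻¹) * σ l := by rw [e4]
          _ = c * l := by rw [mul_assoc, inv_mul_cancel₀ hσl, mul_one]
      rw [mul_add, this, add_self]
    rcases mul_eq_zero.mp e5 with h7 | h7
    · exact h7
    · exact absurd (eq_of_add h7) hl
  refine ⟨hc, fun p => ?_⟩
  obtain ⟨h, hh⟩ := key 1 p
  rw [map_one, one_mul, hc, zero_mul, zero_mul, zero_mul] at hh
  refine ⟨h, fun u => ?_⟩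
  rw [N.dlt_e0, hh, z0_eq]

/-- **(f)** -/
theorem z2 (N : Nn S dl n) (D : Dl S dl) (I : Inv σ τ) (hU : Uniq S) (h1 : ∀ s, Commute n (S.o 1 s))
    (he : ∀ p u, Commute n (S.e 1 p u)) : ∃ e : F, ∀ v, dlt n (S.e 2 0 v) = S.e 1 0 (e * τ v) := by
  have h2 : ∀ v, ∃ γ δ ε, dlt n (S.e 2 0 v) = QTwo.q5 S 0 0 γ δ ε := by
    intro v
    obtain ⟨α, β, γ, δ, ε, hk⟩ := N.qe2 0 v
    have hα : α = 0 := by
      have hc : S.e 2 0 v * S.o 1 1 = S.o 1 1 * S.e 2 0 v * 1 := by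
        rw [mul_one]; exact (o_e1' S 1 1 0 v).symm
      have h := rel (n := n) hc
      rw [hk, dlt_eq_one (h1 _), dlt_eq_one (Commute.one_right n), q5_o1] at h
      simp only [mul_one, inv_mul_cancel, one_mul, inv_one] at h
      obtain ⟨-, -, e3, -, -⟩ := hU _ _ _ _ _ _ _ _ _ _ h
      exact add_eq_left.mp e3
    have hβ : β = 0 := by
      have hc : S.e 2 0 v * S.e 1 1 0 = S.e 1 1 0 * S.e 2 0 v * 1 := by
        rw [mul_one]; exact (e_z1 S 1 1 0 v).symm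
      have h := rel (n := n) hc
      rw [hk, dlt_eq_one (he _ _), dlt_eq_one (Commute.one_right n), q5_e1] at h
      simp only [mul_one, inv_mul_cancel, one_mul, inv_one] at h
      obtain ⟨-, -, e3, -, -⟩ := hU _ _ _ _ _ _ _ _ _ _ h
      exact add_eq_left.mp e3
    subst hα hβ
    exact ⟨γ, δ, ε, hk⟩
  choose γ δ ε h3 using h2
  have hadd : ∀ s s', γ (s + s') = γ s + γ s' ∧ δ (s + s') = δ s + δ s' ∧ ε (s + s') = ε s + ε s' := by
    intro s s'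
    have h := dlt_mul n (S.e 2 0 s) (S.e 2 0 s')
    rw [z_mul, h3, h3, h3, q5_z2, q5_mul] at h
    simp only [map_zero, zero_mul, add_zero] at h
    obtain ⟨-, -, h4, h5, h6⟩ := hU _ _ _ _ _ _ _ _ _ _ h
    exact ⟨h4, h5, h6⟩
  have hw : ∀ (d : Fˣ) s, γ (σ d * (d * d) * s) = γ s ∧ δ (σ d * (d * d) * s) = d * δ s ∧
      ε (σ d * (d * d) * s) = d * σ d * ε s := by
    intro d s
    have h := dlt_conj (N.dl d) (S.e 2 0 s)
    rw [D.z2, h3, h3, D.q5] at h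
    obtain ⟨-, -, h4, h5, h6⟩ := hU _ _ _ _ _ _ _ _ _ _ h
    exact ⟨h4, h5, h6⟩
  have h4 := weight_inv_two I (fun x y => (hadd x y).1) (fun d x => (hw d x).1)
  have h5 := weight_zero_two I (fun x y => (hadd x y).2.1) (fun d x => (hw d x).2.1)
  have h6 := weight_tau I (fun x y => (hadd x y).2.2) (fun d x => (hw d x).2.2)
  refine ⟨ε 1, fun v => ?_⟩
  rw [h3, h4, h5, h6, z1_eq]

/-- **(g)** -/
theorem e0' (N : Nn S dl n) (h1 : ∀ s, Commute n (S.o 1 s))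
    (h6 : ∀ s, Commute n (S.o 6 s)) (he : ∀ p u, Commute n (S.e 1 p u)) {e : F}
    (h2 : ∀ v, dlt n (S.e 2 0 v) = S.e 1 0 (e * τ v))
    (h0 : ∀ p, ∃ h, ∀ u, dlt n (S.e 0 p u) = S.e 0 0 h) (p u : F) : dlt n (S.e 0 p u) = S.e 0 0 (e * τ p) := by
  obtain ⟨b, hb⟩ := h0 p
  rw [hb]
  have h := rel (n := n) (R_rel S 1 p)
  have hR1 : Commute (R S 1 p) (S.e 1 0 (e * τ p)) := by
    unfold R
    exact (((((c7z1 S _ _).mul_left (co7z1 S _ _)).mul_left (e_z1 S 0 _ _ _)).mul_left (co0z1 S _ _)).mul_left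
      (z_ee S 1 _ _ _).symm).mul_left (e_o0' S 1 _ _ _).symm
  have hR0 : Commute (R S 1 p) (S.e 0 0 (e * τ p)) := by
    unfold R
    exact (((((c7z0 S _ _).mul_left (co7z0 S _ _)).mul_left (z_ee S 0 _ _ _).symm).mul_left (c0o0 S _ _).symm).mul_left
      (z_e1 S 0 _ _ _).symm).mul_left (z_o1 S 0 _ _).symm
  have hdR : dlt n (R S 1 p) = S.e 0 0 b := by
    have hb' : dlt n (S.e 0 (σ 1 * p) (1 * 1 * σ 1 * p * σ p)) = S.e 0 0 b := by
      rw [map_one, one_mul, hb]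
    unfold R
    rw [dlt_mul, dlt_mul, dlt_mul, dlt_mul, dlt_mul, hb', dlt_eq_one (h1 _), dlt_eq_one (he _ _), dlt_eq_one (N.o0 _),
      dlt_eq_one (N.o7 _), dlt_eq_one (N.z7 _)]
    simp only [mul_one, inv_mul_cancel, one_mul]
    have hy : (S.e 1 p 0)⁻¹ * S.e 0 0 b * S.e 1 p 0 = S.e 0 0 b := conj_comm (z_e1 S 0 b _ _).symm
    rw [conj_comm (c0o0 S b _).symm, hy]
    exact conj_comm (z_o1 S 0 b _).symm
  have hx : (S.o 6 1)⁻¹ * S.e 1 0 (e * τ p) * S.o 6 1 = S.e 0 0 (e * τ p) * S.e 1 0 (e * τ p) := by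
    rw [z1_eq, q5_o6, z0_eq, q5_mul]
    simp
  rw [hdR, h2, dlt_eq_one (h6 _), hx] at h
  simp only [mul_one, inv_mul_cancel, one_mul] at h
  rw [conj_comm (hR0.mul_right hR1)] at h
  have h7 : S.e 0 0 (e * τ p) * S.e 0 0 b = 1 := by
    have hc : Commute (S.e 1 0 (e * τ p)) (S.e 0 0 b) := (c0z1 S _ _).symm
    have h8 : S.e 1 0 (e * τ p) = S.e 0 0 (e * τ p) * S.e 0 0 b * S.e 1 0 (e * τ p) := by
      calc S.e 1 0 (e * τ p) = S.e 0 0 (e * τ p) * S.e 1 0 (e * τ p) * S.e 0 0 b := h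
        _ = _ := by rw [mul_assoc, hc.eq, mul_assoc]
    exact (mul_eq_right.mp h8.symm)
  rw [z_mul] at h7
  rw [← e_zero S 0] at h7
  have h8 := (S.injE 0 _ _ _ _ h7).2
  rw [eq_of_add h8]

end Nn

/-- the normal form of the elements `n` -/
structure Nf (S : Sys σ G) (τ : F →+* F) (e : F) (n : G) : Prop where
  z0 : ∀ u, Commute n (S.e 0 0 u)
  o0 : ∀ t, Commute n (S.o 0 t)
  o7 : ∀ t, Commute n (S.o 7 t)
  o1 : ∀ t, Commute n (S.o 1 t)
  o6 : ∀ t, Commute n (S.o 6 t)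
  e1 : ∀ p u, Commute n (S.e 1 p u)
  e7 : ∀ p u, Commute n (S.e 7 p u)
  z2 : ∀ v, dlt n (S.e 2 0 v) = S.e 1 0 (e * τ v)
  z6 : ∀ v, dlt n (S.e 6 0 v) = S.e 7 0 (e * τ v)
  ee : ∀ p u, dlt n (S.e 0 p u) = S.e 0 0 (e * τ p)

/-! ### the normalisation -/

section e0c

variable (S : Sys σ G) (c : F)

theorem d_o1 (s : F) : dlt (S.e 0 c 0) (S.o 1 s) = S.e 1 0 (c * s) :=
  dlt_of (S.e_o1 0 c 0 s) (e_z1 S 0 c 0 _)

theorem d_o6 (s : F) : dlt (S.e 0 c 0) (S.o 6 s) = S.e 7 0 (s * c) := by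
  have h : S.o 6 s * S.e 0 c 0 = S.e 0 c 0 * S.o 6 s * S.e 7 0 (s * c) := S.o_e2 6 s c 0
  rw [dlt_of' h (z_e1 S 7 _ c 0).symm, z_inv]

theorem d_e1 (q v : F) : dlt (S.e 0 c 0) (S.e 1 q v) = S.o 0 (c * q) :=
  dlt_of (S.e_e1 0 c 0 q v) (e_o0' S 0 c 0 _)

theorem d_e7 (q v : F) : dlt (S.e 0 c 0) (S.e 7 q v) = S.o 7 (q * c) := by
  have h : S.e 7 q v * S.e 0 c 0 = S.e 0 c 0 * S.e 7 q v * S.o 7 (q * c) := S.e_e1 7 q v c 0
  rw [dlt_of' h (o_e1' S 7 _ c 0).symm, o_inv]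

theorem d_e0 (q v : F) : dlt (S.e 0 c 0) (S.e 0 q v) = S.e 0 0 (c * σ q + q * σ c) := by
  refine dlt_of ?_ (z_ee S 0 _ c 0).symm
  rw [S.e_mul, S.e_mul, S.e_mul, map_zero, mul_zero, add_zero, add_zero, add_comm c q]
  congr 1
  have : (v + 0 + q * σ c) + (c * σ q + q * σ c) = v + c * σ q + (q * σ c + q * σ c) := by ring
  rw [this, add_self, add_zero, zero_add]

theorem d_e2 (q v : F) : dlt (S.e 0 c 0) (S.e 2 q v) = 1 := dlt_eq_one (e_e2' S 0 c 0 q v)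

theorem d_e6 (q v : F) : dlt (S.e 0 c 0) (S.e 6 q v) = 1 := dlt_eq_one (e_e2' S 6 q v c 0).symm

end e0c

theorem InQ.left {S : Sys σ G} {n x : G} {c : F} (h1 : InQ S (dlt (S.e 0 c 0) x)) (h2 : InQ S (dlt n x)) :
    InQ S (dlt (S.e 0 c 0 * n) x) := by
  rw [dlt_left]
  refine h1.mul ?_
  obtain ⟨a, b, c', d, e, hk⟩ := h2
  refine ⟨a, b, c', d, e, ?_⟩
  rw [hk, (q5_e0 S a b c' d e c 0).eq, mul_assoc, mul_inv_cancel, mul_one]

theorem Nn.left {S : Sys σ G} {dl : Fˣ → G} {n : G} (N : Nn S dl n) (D : Dl S dl) (c : F) :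
    Nn S dl (S.e 0 c 0 * n) where
  z7 u := (z_e1 S 7 u c 0).symm.mul_left (N.z7 u)
  o7 t := (o_e1' S 7 t c 0).symm.mul_left (N.o7 t)
  z0 u := (z_ee S 0 u c 0).symm.mul_left (N.z0 u)
  o0 t := (e_o0' S 0 c 0 t).mul_left (N.o0 t)
  z1 u := (e_z1 S 0 c 0 u).mul_left (N.z1 u)
  dl d := by
    refine Commute.mul_left ?_ (N.dl d)
    have h := D.e0 d c 0
    show S.e 0 c 0 * dl d = dl d * S.e 0 c 0
    calc S.e 0 c 0 * dl d = (dl d * S.e 0 c 0 * (dl d)⁻¹) * dl d := by rw [h]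
      _ = _ := by group
  qo1 s := InQ.left (by rw [d_o1, z1_eq]; exact ⟨_, _, _, _, _, rfl⟩) (N.qo1 s)
  qo6 s := InQ.left (by rw [d_o6, z7_eq]; exact ⟨_, _, _, _, _, rfl⟩) (N.qo6 s)
  qe1 p u := InQ.left (by rw [d_e1, o0_eq]; exact ⟨_, _, _, _, _, rfl⟩) (N.qe1 p u)
  qe7 p u := InQ.left (by rw [d_e7, o7_eq]; exact ⟨_, _, _, _, _, rfl⟩) (N.qe7 p u)
  qe0 p u := InQ.left (by rw [d_e0, z0_eq]; exact ⟨_, _, _, _, _, rfl⟩) (N.qe0 p u)
  qe2 p u := InQ.left (by rw [d_e2]; exact InQ.one S) (N.qe2 p u)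
  qe6 p u := InQ.left (by rw [d_e6]; exact InQ.one S) (N.qe6 p u)

/-- **the normal form** -/
theorem Nn.norm_form {S : Sys σ G} {dl : Fˣ → G} {n : G} (N : Nn S dl n) (D : Dl S dl) (I : Inv σ τ) (hU : Uniq S) :
    ∃ c e : F, Nf S τ e (S.e 0 c 0 * n) := by
  obtain ⟨c, hc⟩ := N.o1 D I hU
  have N' := N.left D c
  have h1 : ∀ s, Commute (S.e 0 c 0 * n) (S.o 1 s) := by
    intro s
    apply comm_of_dlt
    have e1 : S.e 0 c 0 * S.e 1 0 (c * s) * (S.e 0 c 0)⁻¹ = S.e 1 0 (c * s) := by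
      have e2 : S.e 0 c 0 * S.e 1 0 (c * s) = S.e 1 0 (c * s) * S.e 0 c 0 := e_z1 S 0 c 0 (c * s)
      rw [e2, mul_assoc, mul_inv_cancel, mul_one]
    rw [dlt_left, d_o1, hc, e1]
    exact z_sq S 1 _
  obtain ⟨S', M⟩ := exists_mirror S
  have D' := D.mirror M
  have N'' := N'.mirror M
  have hU' := M.uniq hU
  have he := N'.e1 D I hU h1
  obtain ⟨c', hc'⟩ := N''.o1 D' I hU'
  have hc'' : ∀ t, dlt (S.e 0 c 0 * n) (S.o 6 t) = S.e 7 0 (c' * t) := by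
    intro t
    have := hc' t
    rwa [M.o1, M.e1] at this
  obtain ⟨hc0, h0⟩ := N'.e0 I hU h1 he hc''
  have h6 : ∀ s, Commute (S.e 0 c 0 * n) (S.o 6 s) := by
    intro s
    apply comm_of_dlt
    rw [hc'', hc0, zero_mul, e_zero]
  have h1' : ∀ s, Commute (S.e 0 c 0 * n) (S'.o 1 s) := fun s => by rw [M.o1]; exact h6 s
  have h6' : ∀ s, Commute (S.e 0 c 0 * n) (S'.o 6 s) := fun s => by rw [M.o6]; exact h1 s
  have he' := N''.e1 D' I hU' h1'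
  obtain ⟨e, hz2⟩ := N'.z2 D I hU h1 he
  obtain ⟨e', hz2'⟩ := N''.z2 D' I hU' h1' he'
  have hee := N'.e0' h1 h6 he hz2 h0
  have h0' : ∀ p, ∃ h, ∀ u, dlt (S.e 0 c 0 * n) (S'.e 0 p u) = S'.e 0 0 h := by
    intro p
    obtain ⟨h, hh⟩ := h0 p
    exact ⟨h, fun u => by rw [M.e0, M.e0]; exact hh u⟩
  have hee' := N''.e0' h1' h6' he' hz2' h0'
  have hE : e' = e := by
    have h2 := hee 1 0
    have h3 := hee' 1 0
    rw [M.e0, M.e0] at h3
    rw [h2] at h3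
    have h4 := (S.injE 0 _ _ _ _ h3).2
    rw [map_one, mul_one, mul_one] at h4
    exact h4.symm
  refine ⟨c, e, N'.z0, N'.o0, N'.o7, h1, h6, he, fun p u => ?_, hz2, fun v => ?_, hee⟩
  · have := he' p u
    rwa [M.e1] at this
  · have := hz2' v
    rw [M.e2, M.e1, hE] at this
    exact this

end Cfsg.Agent.OddHalf.D4.TwF.Norm

end

-- merged: Cfsg.Agent.OddHalf.D4.TwF.MkFam
section

/-!
# ODD D4, `K = ²F₄(q)`: from one element `n` to the family `Fam`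
-/

set_option autoImplicit false
set_option linter.unusedSectionVars false

namespace Cfsg.Agent.OddHalf.D4.TwF.MkFam

open Cfsg.Agent.KFacts.TwF4 Cfsg.Agent.OddHalf.D4.TwF.Field Cfsg.Agent.OddHalf.D4.TwF.End
open Cfsg.Agent.OddHalf.D4.TwF.QTwo Cfsg.Agent.OddHalf.D4.TwF.Mir Cfsg.Agent.OddHalf.D4.TwF.Norm

variable {F : Type*} [Field F] [CharP F 2] {σ τ : F →+* F} {G : Type*} [Group G]

/-- the torus centralising the Levi factor -/
structure Hx (S : Sys σ G) (hx : Fˣ → G) : Prop where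
  e0 : ∀ x p u, hx x * S.e 0 p u * (hx x)⁻¹ = S.e 0 (σ x * p) (σ x * (x * x) * u)
  o0 : ∀ x t, hx x * S.o 0 t * (hx x)⁻¹ = S.o 0 (x * σ x * t)
  o7 : ∀ x t, hx x * S.o 7 t * (hx x)⁻¹ = S.o 7 (x * σ x * t)
  o1 : ∀ x t, hx x * S.o 1 t * (hx x)⁻¹ = S.o 1 (x * t)
  o6 : ∀ x t, hx x * S.o 6 t * (hx x)⁻¹ = S.o 6 (x * t)
  e1 : ∀ x p u, hx x * S.e 1 p u * (hx x)⁻¹ = S.e 1 (x * p) (x * σ x * u)
  e7 : ∀ x p u, hx x * S.e 7 p u * (hx x)⁻¹ = S.e 7 (x * p) (x * σ x * u)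
  e2 : ∀ x p u, hx x * S.e 2 p u * (hx x)⁻¹ = S.e 2 p u
  e6 : ∀ x p u, hx x * S.e 6 p u * (hx x)⁻¹ = S.e 6 p u

theorem commute_conj {G : Type*} [Group G] {n y : G} (h : G) (hc : Commute n y) :
    Commute (h * n * h⁻¹) (h * y * h⁻¹) := by
  show h * n * h⁻¹ * (h * y * h⁻¹) = h * y * h⁻¹ * (h * n * h⁻¹)
  calc h * n * h⁻¹ * (h * y * h⁻¹) = h * (n * y) * h⁻¹ := by group
    _ = h * (y * n) * h⁻¹ := by rw [hc.eq]
    _ = _ := by group

theorem dlt_conj' {G : Type*} [Group G] (h n y : G) : dlt (h * n * h⁻¹) (h * y * h⁻¹) = h * dlt n y * h⁻¹ := by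
  unfold dlt; group

/-- `m` behaves as `n₀(w)` -/
structure Bs (S : Sys σ G) (A : Subgroup G) (μ : G → F) (τ : F →+* F) (e0 w : F) (m : G) : Prop where
  z0 : ∀ u, Commute m (S.e 0 0 u)
  o0 : ∀ t, Commute m (S.o 0 t)
  o7 : ∀ t, Commute m (S.o 7 t)
  o1 : ∀ t, Commute m (S.o 1 t)
  o6 : ∀ t, Commute m (S.o 6 t)
  e1 : ∀ p u, Commute m (S.e 1 p u)
  e7 : ∀ p u, Commute m (S.e 7 p u)
  z2 : ∀ v, dlt m (S.e 2 0 v) = S.e 1 0 (e0 * τ (w * v))
  z6 : ∀ v, dlt m (S.e 6 0 v) = S.e 7 0 (e0 * τ (w * v))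
  ee : ∀ p u, dlt m (S.e 0 p u) = S.e 0 0 (e0 * τ (w * p))
  act : ∀ r ∈ A, r⁻¹ * m * r = m * S.e 0 0 (μ r * w)

theorem bs_zero (S : Sys σ G) (A : Subgroup G) (μ : G → F) (τ : F →+* F) (e0 : F) : Bs S A μ τ e0 0 1 where
  z0 _ := Commute.one_left _
  o0 _ := Commute.one_left _
  o7 _ := Commute.one_left _
  o1 _ := Commute.one_left _
  o6 _ := Commute.one_left _
  e1 _ _ := Commute.one_left _
  e7 _ _ := Commute.one_left _
  z2 v := by rw [zero_mul, map_zero, mul_zero, e_zero, dlt_eq_one (Commute.one_left _)]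
  z6 v := by rw [zero_mul, map_zero, mul_zero, e_zero, dlt_eq_one (Commute.one_left _)]
  ee p u := by rw [zero_mul, map_zero, mul_zero, e_zero, dlt_eq_one (Commute.one_left _)]
  act r _ := by rw [mul_zero, e_zero]; group

/-- conjugation by the torus -/
theorem bs_conj {S : Sys σ G} {A : Subgroup G} {μ : G → F} {e w0 : F} {n : G} {hx : Fˣ → G} (N : Nf S τ e n)
    (I : Inv σ τ) (Hh : Hx S hx) (hA : ∀ r ∈ A, ∀ x, Commute r (hx x)) (hw0 : w0 ≠ 0)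
    (act : ∀ r ∈ A, r⁻¹ * n * r = n * S.e 0 0 (μ r * w0)) (x : Fˣ) {w : F} (hw : σ x * (x * x) * w0 = w) :
    Bs S A μ τ (e / τ w0) w (hx x * n * (hx x)⁻¹) := by
  have hx0 : (x : F) ≠ 0 := x.ne_zero
  have hσx : σ (x : F) ≠ 0 := (map_ne_zero σ).mpr hx0
  have hτ : τ w0 ≠ 0 := (map_ne_zero τ).mpr hw0
  have hτw : ∀ v, e / τ w0 * τ (w * v) = x * σ x * (e * τ v) := by
    intro v
    rw [← hw, map_mul, map_mul, map_mul, I.l, I.τ_sq]
    field_simp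
  have k1 : ∀ t, S.o 1 t = hx x * S.o 1 ((x : F)⁻¹ * t) * (hx x)⁻¹ := by
    intro t; rw [Hh.o1, mul_inv_cancel_left₀ hx0]
  have k6 : ∀ t, S.o 6 t = hx x * S.o 6 ((x : F)⁻¹ * t) * (hx x)⁻¹ := by
    intro t; rw [Hh.o6, mul_inv_cancel_left₀ hx0]
  have hxx : (x : F) * σ x ≠ 0 := mul_ne_zero hx0 hσx
  have k0 : ∀ t, S.o 0 t = hx x * S.o 0 (((x : F) * σ x)⁻¹ * t) * (hx x)⁻¹ := by
    intro t; rw [Hh.o0, mul_inv_cancel_left₀ hxx]
  have k7 : ∀ t, S.o 7 t = hx x * S.o 7 (((x : F) * σ x)⁻¹ * t) * (hx x)⁻¹ := by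
    intro t; rw [Hh.o7, mul_inv_cancel_left₀ hxx]
  have l1 : ∀ p u, S.e 1 p u = hx x * S.e 1 ((x : F)⁻¹ * p) (((x : F) * σ x)⁻¹ * u) * (hx x)⁻¹ := by
    intro p u; rw [Hh.e1, mul_inv_cancel_left₀ hx0, mul_inv_cancel_left₀ hxx]
  have l7 : ∀ p u, S.e 7 p u = hx x * S.e 7 ((x : F)⁻¹ * p) (((x : F) * σ x)⁻¹ * u) * (hx x)⁻¹ := by
    intro p u; rw [Hh.e7, mul_inv_cancel_left₀ hx0, mul_inv_cancel_left₀ hxx]
  have hx2 : σ (x : F) * (x * x) ≠ 0 := mul_ne_zero hσx (mul_ne_zero hx0 hx0)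
  have l0 : ∀ p u, S.e 0 p u = hx x * S.e 0 ((σ (x : F))⁻¹ * p) ((σ (x : F) * (x * x))⁻¹ * u) * (hx x)⁻¹ := by
    intro p u; rw [Hh.e0, mul_inv_cancel_left₀ hσx, mul_inv_cancel_left₀ hx2]
  refine ⟨fun u => ?_, fun t => ?_, fun t => ?_, fun t => ?_, fun t => ?_, fun p u => ?_, fun p u => ?_, fun v => ?_,
    fun v => ?_, fun p u => ?_, fun r hr => ?_⟩
  · rw [l0, mul_zero]; exact commute_conj _ (N.z0 _)
  · rw [k0]; exact commute_conj _ (N.o0 _)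
  · rw [k7]; exact commute_conj _ (N.o7 _)
  · rw [k1]; exact commute_conj _ (N.o1 _)
  · rw [k6]; exact commute_conj _ (N.o6 _)
  · rw [l1]; exact commute_conj _ (N.e1 _ _)
  · rw [l7]; exact commute_conj _ (N.e7 _ _)
  · rw [hτw]
    have : S.e 2 0 v = hx x * S.e 2 0 v * (hx x)⁻¹ := (Hh.e2 x 0 v).symm
    rw [this, dlt_conj', N.z2, Hh.e1, mul_zero]
  · rw [hτw]
    have : S.e 6 0 v = hx x * S.e 6 0 v * (hx x)⁻¹ := (Hh.e6 x 0 v).symm
    rw [this, dlt_conj', N.z6, Hh.e7, mul_zero]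
  · rw [hτw, l0, dlt_conj', N.ee, Hh.e0, mul_zero]
    congr 1
    rw [map_mul, map_inv₀, I.l]
    field_simp
  · have h1 := hA r hr x
    have h2 : r⁻¹ * hx x = hx x * r⁻¹ := h1.inv_left.eq
    have h3 : (hx x)⁻¹ * r = r * (hx x)⁻¹ := h1.inv_right.eq.symm
    calc r⁻¹ * (hx x * n * (hx x)⁻¹) * r = (r⁻¹ * hx x) * n * ((hx x)⁻¹ * r) := by group
      _ = hx x * (r⁻¹ * n * r) * (hx x)⁻¹ := by rw [h2, h3]; group
      _ = hx x * n * (hx x)⁻¹ * (hx x * S.e 0 0 (μ r * w0) * (hx x)⁻¹) := by rw [act r hr]; group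
      _ = _ := by
        rw [Hh.e0, mul_zero, ← hw]
        congr 2
        ring

/-! ### rotation -/

theorem rotn_o (S : Sys σ G) (n : ℕ) : ∀ (a : ZMod 8) (t : F), S.rot ^ n * S.o a t * (S.rot ^ n)⁻¹ = S.o (a + n) t := by
  induction n with
  | zero => intro a t; simp
  | succ n ih =>
    intro a t
    have : S.rot ^ (n + 1) * S.o a t * (S.rot ^ (n + 1))⁻¹ = S.rot ^ n * (S.rot * S.o a t * S.rot⁻¹) * (S.rot ^ n)⁻¹ := by
      rw [pow_succ]; group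
    rw [this, S.rot_o, ih]
    congr 1
    push_cast; ring

theorem rotn_e (S : Sys σ G) (n : ℕ) : ∀ (a : ZMod 8) (p u : F), S.rot ^ n * S.e a p u * (S.rot ^ n)⁻¹ = S.e (a + n) p u := by
  induction n with
  | zero => intro a p u; simp
  | succ n ih =>
    intro a p u
    have : S.rot ^ (n + 1) * S.e a p u * (S.rot ^ (n + 1))⁻¹ =
        S.rot ^ n * (S.rot * S.e a p u * S.rot⁻¹) * (S.rot ^ n)⁻¹ := by
      rw [pow_succ]; group
    rw [this, S.rot_e, ih]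
    congr 1
    push_cast; ring

/-- rotation by `a` -/
def rp (S : Sys σ G) (a : ZMod 8) : G := S.rot ^ a.val

theorem rp_o (S : Sys σ G) (a b c : ZMod 8) (h : b + a = c) (t : F) : rp S a * S.o b t * (rp S a)⁻¹ = S.o c t := by
  unfold rp
  rw [rotn_o, ZMod.natCast_zmod_val, h]

theorem rp_e (S : Sys σ G) (a b c : ZMod 8) (h : b + a = c) (p u : F) : rp S a * S.e b p u * (rp S a)⁻¹ = S.e c p u := by
  unfold rp
  rw [rotn_e, ZMod.natCast_zmod_val, h]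

/-- **the family** -/
theorem fam_of_base {S : Sys σ G} {A : Subgroup G} {μ : G → F} {e0 : F} {m : F → G}
    (hm : ∀ w, Bs S A μ τ e0 w (m w)) (hAo : ∀ r ∈ A, ∀ a t, Commute r (S.o a t))
    (hAe : ∀ r ∈ A, ∀ a p u, Commute r (S.e a p u)) (hAr : ∀ r ∈ A, Commute r S.rot) :
    Fam S A μ τ e0 (fun a w => rp S a * m w * (rp S a)⁻¹) where
  A_o := hAo
  A_e := hAe
  act a w r hr := by
    have h1 : Commute r (rp S a) := (hAr r hr).pow_right _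
    have h2 : r⁻¹ * rp S a = rp S a * r⁻¹ := h1.inv_left.eq
    have h3 : (rp S a)⁻¹ * r = r * (rp S a)⁻¹ := h1.inv_right.eq.symm
    calc r⁻¹ * (rp S a * m w * (rp S a)⁻¹) * r = (r⁻¹ * rp S a) * m w * ((rp S a)⁻¹ * r) := by group
      _ = rp S a * (r⁻¹ * m w * r) * (rp S a)⁻¹ := by rw [h2, h3]; group
      _ = rp S a * m w * (rp S a)⁻¹ * (rp S a * S.e 0 0 (μ r * w) * (rp S a)⁻¹) := by rw [(hm w).act r hr]; group
      _ = _ := by rw [rp_e S a 0 a (zero_add a)]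
  c_z a w u := by
    rw [← rp_e S a 0 a (zero_add a)]; exact commute_conj _ ((hm w).z0 u)
  c_o a w t := by
    rw [← rp_o S a 0 a (zero_add a)]; exact commute_conj _ ((hm w).o0 t)
  c_om a w t := by
    rw [← rp_o S (a + 1) 7 a (by revert a; decide)]; exact commute_conj _ ((hm w).o7 t)
  c_op a w t := by
    rw [← rp_o S a 1 (a + 1) (add_comm 1 a)]; exact commute_conj _ ((hm w).o1 t)
  c_omm a w t := by
    rw [← rp_o S (a + 2) 6 a (by revert a; decide)]; exact commute_conj _ ((hm w).o6 t)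
  c_ep a w p u := by
    rw [← rp_e S a 1 (a + 1) (add_comm 1 a)]; exact commute_conj _ ((hm w).e1 p u)
  c_em a w p u := by
    rw [← rp_e S (a + 1) 7 a (by revert a; decide)]; exact commute_conj _ ((hm w).e7 p u)
  zp a w v := by
    rw [Norm.conj_eq]
    congr 1
    rw [← rp_e S a 2 (a + 2) (add_comm 2 a), dlt_conj', (hm w).z2, rp_e S a 1 (a + 1) (add_comm 1 a)]
  zm a w v := by
    rw [Norm.conj_eq]
    congr 1
    rw [← rp_e S (a + 2) 6 a (by revert a; decide), dlt_conj', (hm w).z6,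
      rp_e S (a + 2) 7 (a + 1) (by revert a; decide)]
  ee a w p u := by
    rw [Norm.conj_eq]
    congr 1
    rw [← rp_e S a 0 a (zero_add a), dlt_conj', (hm w).ee, rp_e S a 0 a (zero_add a)]

/-- **the family, from one element** -/
theorem exists_fam {S : Sys σ G} {A : Subgroup G} {μ : G → F} {dl hx : Fˣ → G} {n : G} {w0 : F} (N : Nn S dl n)
    (D : Dl S dl) (I : Inv σ τ) (hU : Uniq S) (Hh : Hx S hx) (hA : ∀ r ∈ A, ∀ x, Commute r (hx x)) (hw0 : w0 ≠ 0)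
    (act : ∀ r ∈ A, r⁻¹ * n * r = n * S.e 0 0 (μ r * w0)) (hAo : ∀ r ∈ A, ∀ a t, Commute r (S.o a t))
    (hAe : ∀ r ∈ A, ∀ a p u, Commute r (S.e a p u)) (hAr : ∀ r ∈ A, Commute r S.rot) :
    ∃ (e0 : F) (nn : ZMod 8 → F → G), Fam S A μ τ e0 nn := by
  obtain ⟨c, e, N'⟩ := N.norm_form D I hU
  have act' : ∀ r ∈ A, r⁻¹ * (S.e 0 c 0 * n) * r = S.e 0 c 0 * n * S.e 0 0 (μ r * w0) := by
    intro r hr
    have h1 : r⁻¹ * S.e 0 c 0 = S.e 0 c 0 * r⁻¹ := (hAe r hr 0 c 0).inv_left.eq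
    calc r⁻¹ * (S.e 0 c 0 * n) * r = (r⁻¹ * S.e 0 c 0) * n * r := by group
      _ = S.e 0 c 0 * (r⁻¹ * n * r) := by rw [h1]; group
      _ = _ := by rw [act r hr]; group
  have hm : ∀ w, ∃ m, Bs S A μ τ (e / τ w0) w m := by
    intro w
    by_cases hw : w = 0
    · rw [hw]; exact ⟨1, bs_zero S A μ τ _⟩
    · obtain ⟨x, hx1⟩ := exists_two I (div_ne_zero hw hw0)
      exact ⟨_, bs_conj N' I Hh hA hw0 act' x (by rw [hx1, div_mul_cancel₀ _ hw0])⟩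
  choose m hm using hm
  exact ⟨_, _, fam_of_base hm hAo hAe hAr⟩

end Cfsg.Agent.OddHalf.D4.TwF.MkFam

end

-- merged: Cfsg.Agent.OddHalf.D4.TwF.Bone
section

/-!
# ODD D4, `K = ²F₄(q)`: an element `h'` acting as a scalar on `Q₂/Z₀`

`KH`: facts on the parabolic `H`; `Hp`: the hypotheses on `h'`. `exists_n`: `n = (hx a)⁻¹ h'` satisfies `Nn`, for some
`a ≠ 0`, and `h' z₀(u) h'⁻¹ = z₀(σ(a) a² u)`.
-/

set_option autoImplicit false
set_option linter.unusedSectionVars false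

namespace Cfsg.Agent.OddHalf.D4.TwF.Bone

open Cfsg.Agent.KFacts.TwF4 Cfsg.Agent.OddHalf.D4.TwF.Field Cfsg.Agent.OddHalf.D4.TwF.End
open Cfsg.Agent.OddHalf.D4.TwF.QTwo Cfsg.Agent.OddHalf.D4.TwF.Mir Cfsg.Agent.OddHalf.D4.TwF.Norm
open Cfsg.Agent.OddHalf.D4.TwF.MkFam
open scoped commutatorElement

variable {F : Type*} [Field F] [CharP F 2] {σ τ : F →+* F} {G : Type*} [Group G]

/-- acting on `Q₂` modulo `Z₀` trivially, and linearly -/
def Lin (S : Sys σ G) (y : G) : Prop := ∃ l1 l2 l3 l4 : F, ∀ α β γ δ ε, y⁻¹ * q5 S α β γ δ ε * y =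
  q5 S α β (γ + α * l1 + β * l2 + δ * l3 + ε * l4) δ ε

/-- facts on the parabolic subgroup `H` with unipotent radical `Q` -/
structure KH (S : Sys σ G) (H Q : Subgroup G) : Prop where
  uniq : Uniq S
  le : Q ≤ H
  o1 : ∀ t, S.o 1 t ∈ Q
  o6 : ∀ t, S.o 6 t ∈ Q
  o0 : ∀ t, S.o 0 t ∈ Q
  o7 : ∀ t, S.o 7 t ∈ Q
  e0 : ∀ p u, S.e 0 p u ∈ Q
  e1 : ∀ p u, S.e 1 p u ∈ Q
  e7 : ∀ p u, S.e 7 p u ∈ Q
  e2 : ∀ p u, S.e 2 p u ∈ H
  e6 : ∀ p u, S.e 6 p u ∈ H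
  cen : ∀ y ∈ H, (∀ α β γ δ ε, Commute y (q5 S α β γ δ ε)) → ∃ p u, InQ S ((S.e 0 p u)⁻¹ * y)
  nor : ∀ y ∈ H, ∀ x, InQ S x → InQ S (y * x * y⁻¹)
  lin : ∀ y ∈ Q, Lin S y
  e0c : ∀ y ∈ H, ∀ p u, InQ S (⁅(S.e 0 p u)⁻¹, y⁻¹⁆)
  e0n : ∀ p u, InQ S (S.e 0 p u) → p = 0
  perf : ⁅H, H⁆ = H

theorem KH.mirror {S S' : Sys σ G} {H Q : Subgroup G} (k : KH S H Q) (M : Mirror S S') : KH S' H Q where
  uniq := M.uniq k.uniq
  le := k.le
  o1 t := by rw [M.o1]; exact k.o6 t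
  o6 t := by rw [M.o6]; exact k.o1 t
  o0 t := by rw [M.o0]; exact k.o7 t
  o7 t := by rw [M.o7]; exact k.o0 t
  e0 p u := by rw [M.e0]; exact k.e0 p u
  e1 p u := by rw [M.e1]; exact k.e7 p u
  e7 p u := by rw [M.e7]; exact k.e1 p u
  e2 p u := by rw [M.e2]; exact k.e6 p u
  e6 p u := by rw [M.e6]; exact k.e2 p u
  cen y hy h := by
    obtain ⟨p, u, h1⟩ := k.cen y hy (fun α β γ δ ε => by
      have := h ε δ γ β α
      rwa [M.q5] at this)
    exact ⟨p, u, by rw [M.e0]; exact h1.mirror M⟩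
  nor y hy x hx := (k.nor y hy x (hx.mirror M.symm)).mirror M
  lin y hy := by
    obtain ⟨l1, l2, l3, l4, h⟩ := k.lin y hy
    refine ⟨l4, l3, l2, l1, fun α β γ δ ε => ?_⟩
    rw [M.q5, M.q5, h]
    congr 1; ring
  e0c y hy p u := by rw [M.e0]; exact (k.e0c y hy p u).mirror M
  e0n p u h := by
    rw [M.e0] at h
    exact k.e0n p u (h.mirror M.symm)
  perf := k.perf

/-- hypotheses on `h'` -/
structure Hp (S : Sys σ G) (dl : Fˣ → G) (H Q : Subgroup G) (h' : G) : Prop where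
  q2 : ∀ x, InQ S x → InQ S (h' * x * h'⁻¹)
  z0 : ∀ u, ∃ v, h' * S.e 0 0 u * h'⁻¹ = S.e 0 0 v
  dl : ∀ d, Commute h' (dl d)
  HH : ∀ x ∈ H, h' * x * h'⁻¹ ∈ H
  mod : ∀ x ∈ H, dlt h' x ∈ Q
  QQ : ∀ x ∈ Q, h' * x * h'⁻¹ ∈ Q

theorem Hp.mirror {S S' : Sys σ G} {dl : Fˣ → G} {H Q : Subgroup G} {h' : G} (P : Hp S dl H Q h') (M : Mirror S S') :
    Hp S' (fun d => dl d⁻¹) H Q h' where
  q2 x hx := (P.q2 x (hx.mirror M.symm)).mirror M
  z0 u := by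
    obtain ⟨v, hv⟩ := P.z0 u
    exact ⟨v, by rw [M.e0, M.e0]; exact hv⟩
  dl d := P.dl d⁻¹
  HH := P.HH
  mod := P.mod
  QQ := P.QQ

theorem InQ.q5 (S : Sys σ G) (α β γ δ ε : F) : InQ S (QTwo.q5 S α β γ δ ε) := ⟨_, _, _, _, _, rfl⟩

theorem q5_congr (S : Sys σ G) {α α' β β' γ δ δ' ε ε' : F} (h1 : α = α') (h2 : β = β') (h4 : δ = δ') (h5 : ε = ε') :
    QTwo.q5 S α β γ δ ε = QTwo.q5 S α' β' γ δ' ε' := by rw [h1, h2, h4, h5]

namespace Hp

variable {S : Sys σ G} {dl : Fˣ → G} {H Q : Subgroup G} {h' : G}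

theorem conj_mul (x y : G) : h' * (x * y) * h'⁻¹ = (h' * x * h'⁻¹) * (h' * y * h'⁻¹) := by group

theorem conj_conj (x y : G) : h' * (y⁻¹ * x * y) * h'⁻¹ = (h' * y * h'⁻¹)⁻¹ * (h' * x * h'⁻¹) * (h' * y * h'⁻¹) := by group

/-- `h'` on `z₁` -/
theorem z1 (P : Hp S dl H Q h') (k : KH S H Q) (D : Dl S dl) (I : Inv σ τ) :
    ∃ a : F, a ≠ 0 ∧ ∀ u, h' * S.e 1 0 u * h'⁻¹ = S.e 1 0 (a * u) := by
  have h1 : ∀ s, ∃ γ ε, h' * S.e 1 0 s * h'⁻¹ = QTwo.q5 S 0 0 γ 0 ε := by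
    intro s
    obtain ⟨α, β, γ, δ, ε, hk⟩ := P.q2 (S.e 1 0 s) (by rw [z1_eq]; exact InQ.q5 S _ _ _ _ _)
    have : α = 0 ∧ β = 0 ∧ δ = 0 := by
      apply fix_E2 S k.uniq
      intro p u
      have hq := P.mod _ (k.e2 p u)
      obtain ⟨l1, l2, l3, l4, hl⟩ := k.lin _ hq
      have h2 : (S.e 2 p u)⁻¹ * S.e 1 0 s * S.e 2 p u = S.e 1 0 s := conj_comm (z_e1 S 1 s p u).symm
      have h3 := conj_conj (h' := h') (S.e 1 0 s) (S.e 2 p u)
      rw [h2, hk, Norm.conj_eq h' (S.e 2 p u)] at h3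
      -- `κ = q⁻¹ (e⁻¹ κ e) q`
      have h4 : InQ S ((S.e 2 p u)⁻¹ * QTwo.q5 S α β γ δ ε * S.e 2 p u) := by
        have := k.nor _ (H.inv_mem (k.e2 p u)) _ (InQ.q5 S α β γ δ ε)
        rwa [inv_inv] at this
      obtain ⟨a1, a2, a3, a4, a5, ha⟩ := h4
      have h5 : QTwo.q5 S α β γ δ ε = (dlt h' (S.e 2 p u))⁻¹ * QTwo.q5 S a1 a2 a3 a4 a5 * dlt h' (S.e 2 p u) := by
        rw [← ha]
        calc QTwo.q5 S α β γ δ ε = _ := h3
          _ = _ := by group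
      rw [hl] at h5
      obtain ⟨e1, e2, e3, e4, e5⟩ := k.uniq _ _ _ _ _ _ _ _ _ _ h5
      refine ⟨γ + a3, ?_⟩
      rw [ha, z0_eq, q5_mul, e1, e2, e4, e5]
      congr 1
      · rw [add_zero]
      · rw [add_zero]
      · rw [← add_assoc, add_self, zero_add]
      · rw [add_zero]
      · rw [add_zero]
    obtain ⟨rfl, rfl, rfl⟩ := this
    exact ⟨γ, ε, hk⟩
  choose γ ε h2 using h1
  have hadd : ∀ s s', γ (s + s') = γ s + γ s' ∧ ε (s + s') = ε s + ε s' := by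
    intro s s'
    have h := conj_mul (h' := h') (S.e 1 0 s) (S.e 1 0 s')
    rw [z_mul, h2, h2, h2, q5_mul] at h
    obtain ⟨-, -, h3, -, h4⟩ := k.uniq _ _ _ _ _ _ _ _ _ _ h
    exact ⟨h3, h4⟩
  have hw : ∀ (d : Fˣ) s, γ (d * σ d * s) = γ s ∧ ε (d * σ d * s) = d * σ d * ε s := by
    intro d s
    have hd := P.dl d
    have h : h' * (dl d * S.e 1 0 s * (dl d)⁻¹) * h'⁻¹ = dl d * (h' * S.e 1 0 s * h'⁻¹) * (dl d)⁻¹ := by
      have h3 : (dl d)⁻¹ * h'⁻¹ = h'⁻¹ * (dl d)⁻¹ := hd.symm.inv_inv.eq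
      calc h' * (dl d * S.e 1 0 s * (dl d)⁻¹) * h'⁻¹ = (h' * dl d) * S.e 1 0 s * ((dl d)⁻¹ * h'⁻¹) := by group
        _ = _ := by rw [hd.eq, h3]; group
    rw [D.e1, mul_zero, h2, h2, D.q5] at h
    simp only [mul_zero] at h
    obtain ⟨-, -, h3, -, h4⟩ := k.uniq _ _ _ _ _ _ _ _ _ _ h
    exact ⟨h3, h4⟩
  have h3 := weight_inv_one I (fun x y => (hadd x y).1) (fun d x => (hw d x).1)
  have h4 := weight_lin I (fun x y => (hadd x y).2) (fun d x => (hw d x).2)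
  have h5 : ∀ u, h' * S.e 1 0 u * h'⁻¹ = S.e 1 0 (ε 1 * u) := by
    intro u
    rw [h2, h3, z1_eq, h4]
  refine ⟨ε 1, fun h0 => ?_, h5⟩
  have h6 := h5 1
  rw [h0, zero_mul, e_zero] at h6
  have h7 : S.e 1 0 1 = 1 := by
    calc S.e 1 0 1 = h'⁻¹ * (h' * S.e 1 0 1 * h'⁻¹) * h' := by group
      _ = 1 := by rw [h6]; group
  rw [← e_zero S 1] at h7
  exact one_ne_zero (S.injE 1 _ _ _ _ h7).2

/-- `h'` on `z₀`: additive -/
theorem exists_rho (P : Hp S dl H Q h') : ∃ ρ : F → F, ∀ u, h' * S.e 0 0 u * h'⁻¹ = S.e 0 0 (ρ u) := by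
  choose ρ hρ using P.z0
  exact ⟨ρ, hρ⟩

/-- `h'` on `o₀` -/
theorem o0 (P : Hp S dl H Q h') (k : KH S H Q) (D : Dl S dl) (I : Inv σ τ) {a a7 : F}
    (h1 : ∀ u, h' * S.e 1 0 u * h'⁻¹ = S.e 1 0 (a * u)) (h7 : ∀ u, h' * S.e 7 0 u * h'⁻¹ = S.e 7 0 (a7 * u)) :
    a7 = a ∧ ∀ t, h' * S.o 0 t * h'⁻¹ = S.o 0 (a * t) := by
  obtain ⟨ρ, hρ⟩ := P.exists_rho
  have key : ∀ u v, ∃ g, h' * S.o 0 (u * v) * h'⁻¹ = QTwo.q5 S 0 0 g (a7 * u * v) (a7 * u * σ v + a * (u * σ v)) := by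
    intro u v
    have hq := P.mod _ (k.e2 0 v)
    obtain ⟨l1, l2, l3, l4, hl⟩ := k.lin _ hq
    have h2 : (S.e 2 0 v)⁻¹ * S.e 7 0 u * S.e 2 0 v = S.e 7 0 u * S.e 0 0 (σ u * v) * S.o 0 (u * v) * S.e 1 0 (u * σ v) := by
      have := q5_z2 S u 0 0 0 0 v
      rw [← z7_eq] at this
      rw [this]
      unfold QTwo.q5
      rw [o_zero, mul_one, zero_add, zero_add, zero_mul, add_zero, zero_add]
    have h3 := conj_conj (h' := h') (S.e 7 0 u) (S.e 2 0 v)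
    rw [h2, h7, Norm.conj_eq h' (S.e 2 0 v)] at h3
    have h4 : (S.e 2 0 v * dlt h' (S.e 2 0 v))⁻¹ * S.e 7 0 (a7 * u) * (S.e 2 0 v * dlt h' (S.e 2 0 v)) =
        (dlt h' (S.e 2 0 v))⁻¹ * ((S.e 2 0 v)⁻¹ * S.e 7 0 (a7 * u) * S.e 2 0 v) * dlt h' (S.e 2 0 v) := by group
    rw [h4, z7_eq S (a7 * u), q5_z2, hl, conj_mul, conj_mul, conj_mul, h7, hρ, h1] at h3
    set X := h' * S.o 0 (u * v) * h'⁻¹ with hX
    have h5 : X = (S.e 7 0 (a7 * u) * S.e 0 0 (ρ (σ u * v)))⁻¹ *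
        (S.e 7 0 (a7 * u) * S.e 0 0 (ρ (σ u * v)) * X * S.e 1 0 (a * (u * σ v))) * (S.e 1 0 (a * (u * σ v)))⁻¹ := by group
    rw [h3, mul_inv_rev, z_inv, z_inv, z_inv, z7_eq, z0_eq, z1_eq, q5_mul, q5_mul, q5_mul] at h5
    refine ⟨_, h5.trans (q5_congr S ?_ ?_ ?_ ?_)⟩
    · rw [zero_add, add_zero, add_self]
    · simp
    · simp
    · simp
  obtain ⟨l, hl0, hl1, hl⟩ := exists_mov I
  have ha : a7 = a := by
    obtain ⟨g, hg⟩ := key 1 1
    obtain ⟨g', hg'⟩ := key l⁻¹ l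
    rw [inv_mul_cancel₀ hl0] at hg'
    rw [mul_one, hg'] at hg
    obtain ⟨-, -, -, -, h5⟩ := k.uniq _ _ _ _ _ _ _ _ _ _ hg
    rw [map_one] at h5
    have h6 : (a7 + a) * (σ l + l) = 0 := by
      have h7 : (a7 + a) * (l⁻¹ * σ l) = a7 + a := by
        calc (a7 + a) * (l⁻¹ * σ l) = a7 * l⁻¹ * σ l + a * (l⁻¹ * σ l) := by ring
          _ = a7 * 1 * 1 + a * (1 * 1) := h5
          _ = _ := by ring
      have h8 : (a7 + a) * σ l = (a7 + a) * l := by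
        calc (a7 + a) * σ l = ((a7 + a) * (l⁻¹ * σ l)) * l := by
              rw [mul_assoc, mul_right_comm l⁻¹, inv_mul_cancel₀ hl0, one_mul]
          _ = _ := by rw [h7]
      rw [mul_add, h8, add_self]
    rcases mul_eq_zero.mp h6 with h7 | h7
    · exact eq_of_add h7
    · exact absurd (eq_of_add h7) hl
  subst ha
  refine ⟨rfl, ?_⟩
  have h5 : ∀ t, ∃ g, h' * S.o 0 t * h'⁻¹ = QTwo.q5 S 0 0 g (a7 * t) 0 := by
    intro t
    obtain ⟨g, hg⟩ := key t 1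
    rw [mul_one, mul_one, map_one, mul_one, mul_one, add_self] at hg
    exact ⟨g, hg⟩
  choose g hg using h5
  have hadd : ∀ s s', g (s + s') = g s + g s' := by
    intro s s'
    have h := conj_mul (h' := h') (S.o 0 s) (S.o 0 s')
    rw [S.o_add, hg, hg, hg, q5_mul] at h
    exact (k.uniq _ _ _ _ _ _ _ _ _ _ h).2.2.1
  have hw : ∀ (d : Fˣ) s, g (d * s) = g s := by
    intro d s
    have hd := P.dl d
    have h : h' * (dl d * S.o 0 s * (dl d)⁻¹) * h'⁻¹ = dl d * (h' * S.o 0 s * h'⁻¹) * (dl d)⁻¹ := by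
      have h3 : (dl d)⁻¹ * h'⁻¹ = h'⁻¹ * (dl d)⁻¹ := hd.symm.inv_inv.eq
      calc h' * (dl d * S.o 0 s * (dl d)⁻¹) * h'⁻¹ = (h' * dl d) * S.o 0 s * ((dl d)⁻¹ * h'⁻¹) := by group
        _ = _ := by rw [hd.eq, h3]; group
    rw [D.o0, hg, hg, D.q5] at h
    exact (k.uniq _ _ _ _ _ _ _ _ _ _ h).2.2.1
  have h6 := weight_inv_zero I hadd hw
  intro t
  rw [hg, h6, o0_eq]

/-- `h'` on `z₀` is a scalar -/
theorem rho (P : Hp S dl H Q h') (k : KH S H Q) {a : F} (h7 : ∀ u, h' * S.e 7 0 u * h'⁻¹ = S.e 7 0 (a * u)) :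
    ∃ ρ : F, ρ ≠ 0 ∧ ∀ u, h' * S.e 0 0 u * h'⁻¹ = S.e 0 0 (ρ * u) := by
  obtain ⟨ρ, hρ⟩ := P.exists_rho
  obtain ⟨l1, l2, l3, l4, hl⟩ := k.lin _ (P.QQ _ (k.o1 1))
  have h2 : ∀ u, ρ u = a * l1 * u := by
    intro u
    have h3 : (S.o 1 1)⁻¹ * S.e 7 0 u * S.o 1 1 = S.e 7 0 u * S.e 0 0 u := by
      rw [z7_eq, q5_o1, z0_eq, q5_mul]; simp
    have h4 := conj_conj (h' := h') (S.e 7 0 u) (S.o 1 1)
    rw [h3, conj_mul, h7, hρ, z7_eq, hl, z0_eq, q5_mul] at h4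
    obtain ⟨-, -, h5, -, -⟩ := k.uniq _ _ _ _ _ _ _ _ _ _ h4
    rw [zero_mul, zero_mul, zero_mul, zero_add, zero_add, add_zero, add_zero, add_zero] at h5
    rw [h5]; ring
  refine ⟨a * l1, fun h0 => ?_, fun u => by rw [hρ, h2]⟩
  have h6 := hρ 1
  rw [h2, h0, zero_mul, e_zero] at h6
  have h7 : S.e 0 0 1 = 1 := by
    calc S.e 0 0 1 = h'⁻¹ * (h' * S.e 0 0 1 * h'⁻¹) * h' := by group
      _ = 1 := by rw [h6]; group
  rw [← e_zero S 0] at h7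
  exact one_ne_zero (S.injE 0 _ _ _ _ h7).2

/-- two elements of `H` with the same action on `Q₂` -/
theorem same_act (k : KH S H Q) {x y : G} (hx : x ∈ H) (hy : y ∈ H)
    (h : ∀ α β γ δ ε, x⁻¹ * QTwo.q5 S α β γ δ ε * x = y⁻¹ * QTwo.q5 S α β γ δ ε * y) :
    ∃ p u, InQ S ((S.e 0 p u)⁻¹ * (y⁻¹ * x)) := by
  apply k.cen _ (H.mul_mem (H.inv_mem hy) hx)
  intro α β γ δ ε
  obtain ⟨a1, a2, a3, a4, a5, ha⟩ := k.nor y hy _ (InQ.q5 S α β γ δ ε)
  have h1 := h a1 a2 a3 a4 a5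
  rw [← ha] at h1
  show y⁻¹ * x * QTwo.q5 S α β γ δ ε = QTwo.q5 S α β γ δ ε * (y⁻¹ * x)
  calc y⁻¹ * x * QTwo.q5 S α β γ δ ε = y⁻¹ * x * (y⁻¹ * (y * QTwo.q5 S α β γ δ ε * y⁻¹) * y) := by group
    _ = y⁻¹ * x * (x⁻¹ * (y * QTwo.q5 S α β γ δ ε * y⁻¹) * x) := by rw [h1]
    _ = _ := by group

/-- `h'` on `Q₂` -/
theorem on_q5 {a ρ : F} (h1 : ∀ u, h' * S.e 1 0 u * h'⁻¹ = S.e 1 0 (a * u))
    (h7 : ∀ u, h' * S.e 7 0 u * h'⁻¹ = S.e 7 0 (a * u)) (h0 : ∀ t, h' * S.o 0 t * h'⁻¹ = S.o 0 (a * t))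
    (h7' : ∀ t, h' * S.o 7 t * h'⁻¹ = S.o 7 (a * t)) (hρ : ∀ u, h' * S.e 0 0 u * h'⁻¹ = S.e 0 0 (ρ * u))
    (α β γ δ ε : F) : h' * QTwo.q5 S α β γ δ ε * h'⁻¹ = QTwo.q5 S (a * α) (a * β) (ρ * γ) (a * δ) (a * ε) := by
  unfold QTwo.q5
  rw [← h1, ← h7, ← h0, ← h7', ← hρ]; group

/-- `h'` on `o₁` modulo `Q₁` -/
theorem on_o1 (P : Hp S dl H Q h') (k : KH S H Q) {a ρ : F} (ha : a ≠ 0) (hρ0 : ρ ≠ 0)
    (hq : ∀ α β γ δ ε, h' * QTwo.q5 S α β γ δ ε * h'⁻¹ = QTwo.q5 S (a * α) (a * β) (ρ * γ) (a * δ) (a * ε)) :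
    ∃ p u, InQ S ((S.e 0 p u)⁻¹ * ((S.o 1 (ρ / a))⁻¹ * (h' * S.o 1 1 * h'⁻¹))) := by
  refine same_act k (k.le (P.QQ _ (k.o1 1))) (k.le (k.o1 _)) ?_
  intro α β γ δ ε
  have h1 : QTwo.q5 S α β γ δ ε = h' * QTwo.q5 S (a⁻¹ * α) (a⁻¹ * β) (ρ⁻¹ * γ) (a⁻¹ * δ) (a⁻¹ * ε) * h'⁻¹ := by
    rw [hq, mul_inv_cancel_left₀ ha, mul_inv_cancel_left₀ ha, mul_inv_cancel_left₀ ha, mul_inv_cancel_left₀ ha,
      mul_inv_cancel_left₀ hρ0]
  have h2 : (h' * S.o 1 1 * h'⁻¹)⁻¹ * QTwo.q5 S α β γ δ ε * (h' * S.o 1 1 * h'⁻¹) =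
      h' * ((S.o 1 1)⁻¹ * QTwo.q5 S (a⁻¹ * α) (a⁻¹ * β) (ρ⁻¹ * γ) (a⁻¹ * δ) (a⁻¹ * ε) * S.o 1 1) * h'⁻¹ := by
    rw [h1]; group
  rw [h2, q5_o1, hq, q5_o1]
  congr 1
  · rw [mul_inv_cancel_left₀ ha]
  · rw [mul_inv_cancel_left₀ ha]
  · rw [mul_one, mul_add, mul_inv_cancel_left₀ hρ0]
    field_simp
  · rw [mul_inv_cancel_left₀ ha]
  · rw [mul_inv_cancel_left₀ ha]

theorem o1_e0 (c p u : F) : (S.o 1 c)⁻¹ * S.e 0 p u * S.o 1 c = S.e 0 p u * S.e 1 0 (p * c) := by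
  have h : S.e 0 p u * S.o 1 c = S.o 1 c * S.e 0 p u * S.e 1 0 (p * c) := S.e_o1 0 p u c
  calc (S.o 1 c)⁻¹ * S.e 0 p u * S.o 1 c = (S.o 1 c)⁻¹ * (S.e 0 p u * S.o 1 c) := by group
    _ = _ := by rw [h]; group

theorem o6_e0 (c p u : F) : (S.o 6 c)⁻¹ * S.e 0 p u * S.o 6 c = S.e 0 p u * S.e 7 0 (c * p) := by
  have h : S.o 6 c * S.e 0 p u = S.e 0 p u * S.o 6 c * S.e 7 0 (c * p) := S.o_e2 6 c p u
  have h2 : S.e 0 p u * S.o 6 c = S.o 6 c * S.e 0 p u * S.e 7 0 (c * p) := by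
    rw [h]
    calc S.e 0 p u * S.o 6 c = S.e 0 p u * S.o 6 c * 1 := by group
      _ = _ := by rw [← z_sq S 7 (c * p)]; group
  calc (S.o 6 c)⁻¹ * S.e 0 p u * S.o 6 c = (S.o 6 c)⁻¹ * (S.e 0 p u * S.o 6 c) := by group
    _ = _ := by rw [h2]; group

/-- `a = c σ(c)` -/
theorem a_eq (k : KH S H Q) {a c : F} (h0 : ∀ t, h' * S.o 0 t * h'⁻¹ = S.o 0 (a * t))
    (h7' : ∀ t, h' * S.o 7 t * h'⁻¹ = S.o 7 (a * t))
    (h1 : ∃ p u, InQ S ((S.e 0 p u)⁻¹ * ((S.o 1 c)⁻¹ * (h' * S.o 1 1 * h'⁻¹))))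
    (h6 : ∃ p u, InQ S ((S.e 0 p u)⁻¹ * ((S.o 6 c)⁻¹ * (h' * S.o 6 1 * h'⁻¹)))) : c * σ c = a := by
  obtain ⟨p, u, a1, a2, a3, a4, a5, ha⟩ := h6
  obtain ⟨p', u', b1, b2, b3, b4, b5, hb⟩ := h1
  have hx : h' * S.o 6 1 * h'⁻¹ = S.o 6 c * (S.e 0 p u * QTwo.q5 S a1 a2 a3 a4 a5) := by rw [← ha]; group
  have hy : h' * S.o 1 1 * h'⁻¹ = S.o 1 c * (S.e 0 p' u' * QTwo.q5 S b1 b2 b3 b4 b5) := by rw [← hb]; group
  have hr : S.o 6 1 * S.o 1 1 = S.o 1 1 * S.o 6 1 * S.o 7 1 * S.o 0 1 := by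
    have := S.o_o3 6 1 1
    rw [map_one, mul_one] at this
    exact this
  have hr' : S.o 6 c * S.o 1 c = S.o 1 c * S.o 6 c * S.o 7 (σ c * c) * S.o 0 (c * σ c) := S.o_o3 6 c c
  have h2 : (h' * S.o 6 1 * h'⁻¹) * (h' * S.o 1 1 * h'⁻¹) =
      (h' * S.o 1 1 * h'⁻¹) * (h' * S.o 6 1 * h'⁻¹) * S.o 7 a * S.o 0 a := by
    have e7 : S.o 7 a = h' * S.o 7 1 * h'⁻¹ := by rw [h7', mul_one]
    have e0 : S.o 0 a = h' * S.o 0 1 * h'⁻¹ := by rw [h0, mul_one]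
    rw [e7, e0, ← conj_mul, hr]; group
  set q := QTwo.q5 S a1 a2 a3 a4 a5 with hqd
  set q' := QTwo.q5 S b1 b2 b3 b4 b5 with hqd'
  rw [hx, hy] at h2
  have c1 : ∀ (P U α β γ δ ε : F), Commute (S.e 0 P U) (QTwo.q5 S α β γ δ ε) := fun P U α β γ δ ε => q5_e0 S α β γ δ ε P U
  -- left side
  have hL : S.o 6 c * (S.e 0 p u * q) * (S.o 1 c * (S.e 0 p' u' * q')) =
      S.o 1 c * S.o 6 c * (QTwo.q5 S 0 (σ c * c) 0 (c * σ c) 0 * (S.e 0 p u * QTwo.q5 S 0 0 0 0 (p * c) *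
        QTwo.q5 S a1 a2 (a3 + a1 * c) a4 a5 * (S.e 0 p' u' * q'))) := by
    have e1 : S.e 0 p u * q * S.o 1 c = S.o 1 c * (((S.o 1 c)⁻¹ * S.e 0 p u * S.o 1 c) * ((S.o 1 c)⁻¹ * q * S.o 1 c)) := by
      group
    have e2 : S.o 7 (σ c * c) * S.o 0 (c * σ c) = QTwo.q5 S 0 (σ c * c) 0 (c * σ c) 0 := by
      rw [o7_eq, o0_eq, q5_mul]; simp
    rw [o1_e0, hqd, q5_o1, z1_eq] at e1
    rw [← e2, ← hqd] at *
    calc S.o 6 c * (S.e 0 p u * q) * (S.o 1 c * (S.e 0 p' u' * q')) =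
        S.o 6 c * (S.e 0 p u * q * S.o 1 c) * (S.e 0 p' u' * q') := by group
      _ = (S.o 6 c * S.o 1 c) * (S.e 0 p u * QTwo.q5 S 0 0 0 0 (p * c) * QTwo.q5 S a1 a2 (a3 + a1 * c) a4 a5) *
          (S.e 0 p' u' * q') := by rw [e1]; group
      _ = _ := by rw [hr']; group
  have hR : S.o 1 c * (S.e 0 p' u' * q') * (S.o 6 c * (S.e 0 p u * q)) * S.o 7 a * S.o 0 a =
      S.o 1 c * S.o 6 c * (S.e 0 p' u' * QTwo.q5 S (c * p') 0 0 0 0 * QTwo.q5 S b1 b2 (b3 + b5 * c) b4 b5 *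
        (S.e 0 p u * q) * QTwo.q5 S 0 a 0 a 0) := by
    have e1 : S.e 0 p' u' * q' * S.o 6 c = S.o 6 c * (((S.o 6 c)⁻¹ * S.e 0 p' u' * S.o 6 c) * ((S.o 6 c)⁻¹ * q' * S.o 6 c)) := by
      group
    have e2 : S.o 7 a * S.o 0 a = QTwo.q5 S 0 a 0 a 0 := by
      rw [o7_eq, o0_eq, q5_mul]; simp
    rw [o6_e0, hqd', Nn.q5_o6, z7_eq] at e1
    rw [← e2]
    calc S.o 1 c * (S.e 0 p' u' * q') * (S.o 6 c * (S.e 0 p u * q)) * S.o 7 a * S.o 0 a =
        S.o 1 c * (S.e 0 p' u' * q' * S.o 6 c) * (S.e 0 p u * q) * S.o 7 a * S.o 0 a := by group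
      _ = _ := by rw [hqd', e1]; group
  rw [hL, hR] at h2
  have h3 := mul_left_cancel h2
  -- collect
  have e1 : QTwo.q5 S 0 (σ c * c) 0 (c * σ c) 0 * (S.e 0 p u * QTwo.q5 S 0 0 0 0 (p * c) *
        QTwo.q5 S a1 a2 (a3 + a1 * c) a4 a5 * (S.e 0 p' u' * q')) = S.e 0 p u * S.e 0 p' u' *
        (QTwo.q5 S 0 (σ c * c) 0 (c * σ c) 0 * QTwo.q5 S 0 0 0 0 (p * c) *
        QTwo.q5 S a1 a2 (a3 + a1 * c) a4 a5 * q') := by
    have f1 := (c1 p u 0 (σ c * c) 0 (c * σ c) 0).eq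
    have f2 := (((c1 p' u' 0 (σ c * c) 0 (c * σ c) 0).mul_right (c1 p' u' 0 0 0 0 (p * c))).mul_right
      (c1 p' u' a1 a2 (a3 + a1 * c) a4 a5)).eq
    calc _ = (QTwo.q5 S 0 (σ c * c) 0 (c * σ c) 0 * S.e 0 p u) * (QTwo.q5 S 0 0 0 0 (p * c) *
        QTwo.q5 S a1 a2 (a3 + a1 * c) a4 a5) * S.e 0 p' u' * q' := by group
      _ = S.e 0 p u * ((QTwo.q5 S 0 (σ c * c) 0 (c * σ c) 0 * QTwo.q5 S 0 0 0 0 (p * c) *
        QTwo.q5 S a1 a2 (a3 + a1 * c) a4 a5) * S.e 0 p' u') * q' := by rw [← f1]; group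
      _ = _ := by rw [← f2]; group
  have e2 : S.e 0 p' u' * QTwo.q5 S (c * p') 0 0 0 0 * QTwo.q5 S b1 b2 (b3 + b5 * c) b4 b5 *
        (S.e 0 p u * q) * QTwo.q5 S 0 a 0 a 0 = S.e 0 p' u' * S.e 0 p u *
        (QTwo.q5 S (c * p') 0 0 0 0 * QTwo.q5 S b1 b2 (b3 + b5 * c) b4 b5 * q * QTwo.q5 S 0 a 0 a 0) := by
    have f1 := ((c1 p u (c * p') 0 0 0 0).mul_right (c1 p u b1 b2 (b3 + b5 * c) b4 b5)).eq
    calc _ = S.e 0 p' u' * ((QTwo.q5 S (c * p') 0 0 0 0 * QTwo.q5 S b1 b2 (b3 + b5 * c) b4 b5) * S.e 0 p u) * q *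
          QTwo.q5 S 0 a 0 a 0 := by group
      _ = _ := by rw [← f1]; group
  have e3 : S.e 0 p u * S.e 0 p' u' = S.e 0 p' u' * S.e 0 p u * QTwo.q5 S 0 0 (p * σ p' + p' * σ p) 0 0 := by
    rw [← z0_eq, S.e_mul, S.e_mul, S.e_mul, map_zero, mul_zero, add_zero, add_zero, add_comm p' p]
    congr 1
    have : u' + u + p' * σ p + (p * σ p' + p' * σ p) = u + u' + p * σ p' + (p' * σ p + p' * σ p) := by ring
    rw [this, add_self, add_zero]
  rw [e1, e2, e3, mul_assoc] at h3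
  have h4 := mul_left_cancel h3
  rw [hqd, hqd', q5_mul, q5_mul, q5_mul, q5_mul, q5_mul, q5_mul, q5_mul] at h4
  obtain ⟨-, h5, -, -, -⟩ := k.uniq _ _ _ _ _ _ _ _ _ _ h4
  have h6 : σ c * c + (a2 + b2) = a + (a2 + b2) := by
    calc σ c * c + (a2 + b2) = 0 + (σ c * c + 0 + a2 + b2) := by ring
      _ = 0 + b2 + a2 + a := h5
      _ = _ := by ring
  rw [mul_comm]
  exact add_right_cancel h6

/-- **summary of the action of `h'`** -/
theorem summary (P : Hp S dl H Q h') (k : KH S H Q) (D : Dl S dl) (I : Inv σ τ) : ∃ (c : Fˣ),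
    ∀ α β γ δ ε, h' * QTwo.q5 S α β γ δ ε * h'⁻¹ =
      QTwo.q5 S (c * σ c * α) (c * σ c * β) (σ c * (c * c) * γ) (c * σ c * δ) (c * σ c * ε) := by
  obtain ⟨S', M⟩ := exists_mirror S
  obtain ⟨a, ha, h1⟩ := P.z1 k D I
  obtain ⟨a7, ha7, h7⟩ := (P.mirror M).z1 (k.mirror M) (D.mirror M) I
  have h7' : ∀ u, h' * S.e 7 0 u * h'⁻¹ = S.e 7 0 (a7 * u) := fun u => by
    have := h7 u
    rwa [M.e1, M.e1] at this
  obtain ⟨rfl, h0⟩ := P.o0 k D I h1 h7'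
  have h1' : ∀ u, h' * S'.e 7 0 u * h'⁻¹ = S'.e 7 0 (a7 * u) := fun u => by rw [M.e7, M.e7]; exact h1 u
  obtain ⟨-, ho7⟩ := (P.mirror M).o0 (k.mirror M) (D.mirror M) I h7 h1'
  have ho7' : ∀ t, h' * S.o 7 t * h'⁻¹ = S.o 7 (a7 * t) := fun t => by
    have := ho7 t
    rwa [M.o0, M.o0] at this
  obtain ⟨ρ, hρ0, hρ⟩ := P.rho k h7'
  have hq := on_q5 h1 h7' h0 ho7' hρ
  have hc1 := on_o1 P k ha hρ0 hq
  have hρ' : ∀ u, h' * S'.e 0 0 u * h'⁻¹ = S'.e 0 0 (ρ * u) := fun u => by rw [M.e0, M.e0]; exact hρ u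
  have h0' : ∀ t, h' * S'.o 7 t * h'⁻¹ = S'.o 7 (a7 * t) := fun t => by rw [M.o7, M.o7]; exact h0 t
  have hc6 := on_o1 (P.mirror M) (k.mirror M) ha hρ0 (on_q5 h7 h1' ho7 h0' hρ')
  have hc6' : ∃ p u, InQ S ((S.e 0 p u)⁻¹ * ((S.o 6 (ρ / a7))⁻¹ * (h' * S.o 6 1 * h'⁻¹))) := by
    obtain ⟨p, u, hpu⟩ := hc6
    rw [M.e0, M.o1, M.o1] at hpu
    exact ⟨p, u, hpu.mirror M.symm⟩
  have hc := a_eq k h0 ho7' hc1 hc6'
  have hc0 : ρ / a7 ≠ 0 := div_ne_zero hρ0 ha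
  refine ⟨Units.mk0 (ρ / a7) hc0, fun α β γ δ ε => ?_⟩
  rw [hq]
  have e1 : σ (ρ / a7) * (ρ / a7 * (ρ / a7)) = ρ := by
    calc σ (ρ / a7) * (ρ / a7 * (ρ / a7)) = (ρ / a7 * σ (ρ / a7)) * (ρ / a7) := by ring
      _ = a7 * (ρ / a7) := by rw [hc]
      _ = ρ := by rw [mul_div_assoc', mul_div_cancel_left₀ _ ha]
  simp only [Units.val_mk0]
  rw [hc, e1]

end Hp

/-! ### the element `n` -/

theorem dlt_inQ_hom {S : Sys σ G} {H Q : Subgroup G} (k : KH S H Q) {n : G}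
    (hn : ∀ x ∈ H, ∃ p u, InQ S ((S.e 0 p u)⁻¹ * dlt n x)) : ∀ x ∈ H, InQ S (dlt n x) := by
  have hinv : ∀ x, InQ S x → InQ S x⁻¹ := by
    rintro x ⟨a, b, c, d, e, rfl⟩
    exact ⟨a, b, c, d, e, q5_inv S a b c d e⟩
  have he : ∀ p u x, InQ S x → InQ S ((S.e 0 p u)⁻¹ * x * S.e 0 p u) := by
    rintro p u x ⟨a, b, c, d, e, rfl⟩
    refine ⟨a, b, c, d, e, conj_comm (q5_e0 S a b c d e p u)⟩
  have h1 : ∀ x ∈ H, ∃ p, InQ S ((S.e 0 p 0)⁻¹ * dlt n x) := by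
    intro x hx
    obtain ⟨p, u, h⟩ := hn x hx
    refine ⟨p, ?_⟩
    have h2 : (S.e 0 p 0)⁻¹ * dlt n x = S.e 0 0 u * ((S.e 0 p u)⁻¹ * dlt n x) := by
      have h3 : S.e 0 p u = S.e 0 p 0 * S.e 0 0 u := Nn.e0_split S p u
      rw [h3]; group
    rw [h2, z0_eq]
    exact (InQ.q5 S _ _ _ _ _).mul h
  choose! p hp using h1
  have huniq : ∀ x ∈ H, ∀ q v, InQ S ((S.e 0 q v)⁻¹ * dlt n x) → p x = q := by
    intro x hx q v h
    have h2 : InQ S (S.e 0 (q + p x) (v + q * σ (p x) + q * σ q + p x * σ (p x))) := by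
      have h3 : InQ S ((S.e 0 q v)⁻¹ * S.e 0 (p x) 0) := by
        have h4 := h.mul (hinv _ (hp x hx))
        have h5 : (S.e 0 q v)⁻¹ * dlt n x * ((S.e 0 (p x) 0)⁻¹ * dlt n x)⁻¹ = (S.e 0 q v)⁻¹ * S.e 0 (p x) 0 := by group
        rwa [h5] at h4
      have h6 : (S.e 0 q v)⁻¹ = S.e 0 q (v + q * σ q) := by
        rw [inv_eq_iff_mul_eq_one, S.e_mul, add_self]
        have : v + (v + q * σ q) + q * σ q = (v + v) + (q * σ q + q * σ q) := by ring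
        rw [this, add_self, add_self, add_zero, e_zero]
      rw [h6, S.e_mul] at h3
      have h7 : S.e 0 0 (p x * σ (p x)) * S.e 0 (q + p x) (v + q * σ q + 0 + q * σ (p x)) =
          S.e 0 (q + p x) (v + q * σ (p x) + q * σ q + p x * σ (p x)) := by
        rw [S.e_mul, zero_mul, zero_add]; congr 1; ring
      rw [← h7, z0_eq]
      exact (InQ.q5 S _ _ _ _ _).mul h3
    exact (eq_of_add (k.e0n _ _ h2)).symm
  have hmul : ∀ x ∈ H, ∀ y ∈ H, p (x * y) = p x + p y := by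
    intro x hx y hy
    apply huniq _ (H.mul_mem hx hy) _ (p x * σ (p y))
    rw [dlt_mul]
    have h1 : S.e 0 (p x + p y) (p x * σ (p y)) = S.e 0 (p x) 0 * S.e 0 (p y) 0 := by
      rw [S.e_mul, add_zero, zero_add]
    rw [h1]
    have h2 : (S.e 0 (p x) 0 * S.e 0 (p y) 0)⁻¹ * (y⁻¹ * dlt n x * y * dlt n y) =
        ((S.e 0 (p y) 0)⁻¹ * ((⁅(S.e 0 (p x) 0)⁻¹, y⁻¹⁆) * (y⁻¹ * ((S.e 0 (p x) 0)⁻¹ * dlt n x) * y)) *
          S.e 0 (p y) 0) * ((S.e 0 (p y) 0)⁻¹ * dlt n y) := by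
      rw [commutatorElement_def]; group
    rw [h2]
    refine (he _ _ _ ((k.e0c y hy _ _).mul ?_)).mul (hp y hy)
    have := k.nor y⁻¹ (H.inv_mem hy) _ (hp x hx)
    rwa [inv_inv] at this
  have hone : p 1 = 0 := by
    have := hmul 1 H.one_mem 1 H.one_mem
    rw [mul_one] at this
    exact left_eq_add.mp this
  have hpinv : ∀ x ∈ H, p x⁻¹ = p x := by
    intro x hx
    have := hmul x hx x⁻¹ (H.inv_mem hx)
    rw [mul_inv_cancel, hone] at this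
    exact (eq_of_add this.symm).symm
  let N : Subgroup G :=
    { carrier := {x | x ∈ H ∧ p x = 0}
      one_mem' := ⟨H.one_mem, hone⟩
      mul_mem' := by
        rintro x y ⟨hx, hx0⟩ ⟨hy, hy0⟩
        exact ⟨H.mul_mem hx hy, by rw [hmul x hx y hy, hx0, hy0, add_zero]⟩
      inv_mem' := by
        rintro x ⟨hx, hx0⟩
        exact ⟨H.inv_mem hx, by rw [hpinv x hx, hx0]⟩ }
  have hN : ⁅H, H⁆ ≤ N := by
    rw [Subgroup.commutator_le]
    intro x hx y hy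
    refine ⟨?_, ?_⟩
    · rw [commutatorElement_def]
      exact H.mul_mem (H.mul_mem (H.mul_mem hx hy) (H.inv_mem hx)) (H.inv_mem hy)
    · rw [commutatorElement_def, hmul _ (H.mul_mem (H.mul_mem hx hy) (H.inv_mem hx)) _ (H.inv_mem hy),
        hmul _ (H.mul_mem hx hy) _ (H.inv_mem hx), hmul x hx y hy, hpinv x hx, hpinv y hy]
      have : p x + p y + p x + p y = (p x + p x) + (p y + p y) := by ring
      rw [this, add_self, add_self, add_zero]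
  intro x hx
  rw [← k.perf] at hx
  obtain ⟨hx', hx0⟩ := hN hx
  have := hp x hx'
  rwa [hx0, e_zero, inv_one, one_mul] at this

/-- **the element `n`** -/
theorem exists_n {S : Sys σ G} {dl hx : Fˣ → G} {H Q : Subgroup G} {h' : G} (P : Hp S dl H Q h') (k : KH S H Q)
    (D : Dl S dl) (I : Inv σ τ) (Hh : Hx S hx) (hc : ∀ x d, Commute (hx x) (dl d))
    (hH : ∀ c, ∀ x ∈ H, (hx c)⁻¹ * x * hx c ∈ H) : ∃ c : Fˣ, Nn S dl ((hx c)⁻¹ * h') ∧
    ∀ u, h' * S.e 0 0 u * h'⁻¹ = S.e 0 0 (σ c * (c * c) * u) := by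
  obtain ⟨c, hq⟩ := P.summary k D I
  have hxq : ∀ α β γ δ ε, hx c * q5 S α β γ δ ε * (hx c)⁻¹ =
      q5 S (c * σ c * α) (c * σ c * β) (σ c * (c * c) * γ) (c * σ c * δ) (c * σ c * ε) := by
    intro α β γ δ ε
    have e7 : S.e 7 0 (c * σ c * α) = hx c * S.e 7 0 α * (hx c)⁻¹ := by rw [Hh.e7, mul_zero]
    have e0 : S.e 0 0 (σ c * (c * c) * γ) = hx c * S.e 0 0 γ * (hx c)⁻¹ := by rw [Hh.e0, mul_zero]
    have e1 : S.e 1 0 (c * σ c * ε) = hx c * S.e 1 0 ε * (hx c)⁻¹ := by rw [Hh.e1, mul_zero]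
    unfold q5
    rw [e7, e0, e1, ← Hh.o7, ← Hh.o0]; group
  have hcq : ∀ α β γ δ ε, Commute ((hx c)⁻¹ * h') (q5 S α β γ δ ε) := by
    intro α β γ δ ε
    have h1 : h' * q5 S α β γ δ ε * h'⁻¹ = hx c * q5 S α β γ δ ε * (hx c)⁻¹ := by rw [hq, hxq]
    show (hx c)⁻¹ * h' * q5 S α β γ δ ε = q5 S α β γ δ ε * ((hx c)⁻¹ * h')
    calc (hx c)⁻¹ * h' * q5 S α β γ δ ε = (hx c)⁻¹ * (h' * q5 S α β γ δ ε * h'⁻¹) * h' := by group
      _ = _ := by rw [h1]; group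
  have hnH : ∀ x ∈ H, (hx c)⁻¹ * h' * x * ((hx c)⁻¹ * h')⁻¹ ∈ H := by
    intro x hxx
    have := hH c _ (P.HH x hxx)
    have e : (hx c)⁻¹ * h' * x * ((hx c)⁻¹ * h')⁻¹ = (hx c)⁻¹ * (h' * x * h'⁻¹) * hx c := by group
    rwa [e]
  have hd : ∀ x ∈ H, InQ S (dlt ((hx c)⁻¹ * h') x) := by
    apply dlt_inQ_hom k
    intro x hxx
    have h1 : dlt ((hx c)⁻¹ * h') x = x⁻¹ * ((hx c)⁻¹ * h' * x * ((hx c)⁻¹ * h')⁻¹) := rfl
    rw [h1]
    refine Hp.same_act k (hnH x hxx) hxx ?_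
    intro α β γ δ ε
    have h2 : InQ S (x⁻¹ * q5 S α β γ δ ε * x) := by
      have := k.nor x⁻¹ (H.inv_mem hxx) _ (InQ.q5 S α β γ δ ε)
      rwa [inv_inv] at this
    obtain ⟨a1, a2, a3, a4, a5, ha⟩ := h2
    set n := (hx c)⁻¹ * h' with hn
    have h3 : n⁻¹ * q5 S α β γ δ ε * n = q5 S α β γ δ ε := conj_comm (hcq α β γ δ ε)
    calc (n * x * n⁻¹)⁻¹ * q5 S α β γ δ ε * (n * x * n⁻¹) = n * (x⁻¹ * (n⁻¹ * q5 S α β γ δ ε * n) * x) * n⁻¹ := by group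
      _ = n * q5 S a1 a2 a3 a4 a5 * n⁻¹ := by rw [h3, ha]
      _ = x⁻¹ * q5 S α β γ δ ε * x := by rw [(hcq a1 a2 a3 a4 a5).eq, ha]; group
  refine ⟨c, ⟨fun u => ?_, fun t => ?_, fun u => ?_, fun t => ?_, fun u => ?_, fun d => ?_, fun s => ?_, fun s => ?_,
    fun p u => ?_, fun p u => ?_, fun p u => ?_, fun p u => ?_, fun p u => ?_⟩, fun u => ?_⟩
  · rw [z7_eq]; exact hcq _ _ _ _ _
  · rw [o7_eq]; exact hcq _ _ _ _ _
  · rw [z0_eq]; exact hcq _ _ _ _ _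
  · rw [o0_eq]; exact hcq _ _ _ _ _
  · rw [z1_eq]; exact hcq _ _ _ _ _
  · exact (hc c d).inv_left.mul_left (P.dl d)
  · exact hd _ (k.le (k.o1 s))
  · exact hd _ (k.le (k.o6 s))
  · exact hd _ (k.le (k.e1 p u))
  · exact hd _ (k.le (k.e7 p u))
  · exact hd _ (k.le (k.e0 p u))
  · exact hd _ (k.e2 p u)
  · exact hd _ (k.e6 p u)
  · rw [z0_eq, hq, z0_eq, mul_zero]

/-- **from `h'` to the family** -/
theorem exists_fam' {S : Sys σ G} {dl hx : Fˣ → G} {H Q A : Subgroup G} {h' : G} (P : Hp S dl H Q h') (k : KH S H Q)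
    (D : Dl S dl) (I : Inv σ τ) (Hh : Hx S hx) (hc : ∀ x d, Commute (hx x) (dl d))
    (hH : ∀ c, ∀ x ∈ H, (hx c)⁻¹ * x * hx c ∈ H) (hA : ∀ r ∈ A, ∀ x, Commute r (hx x))
    (hAo : ∀ r ∈ A, ∀ a t, Commute r (S.o a t)) (hAe : ∀ r ∈ A, ∀ a p u, Commute r (S.e a p u))
    (hAr : ∀ r ∈ A, Commute r S.rot) {β : G → F} (hβ : ∀ r ∈ A, Commute h' (r * S.e 0 0 (β r)))
    (hne : ∃ u, ¬ Commute h' (S.e 0 0 u)) {t : G} (ht0 : β t ≠ 0) :
    ∃ (e0 : F) (nn : ZMod 8 → F → G), Fam S A (fun r => β r / β t) τ e0 nn := by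
  obtain ⟨c, N, hz⟩ := exists_n P k D I Hh hc hH
  set ρ : F := σ c * (c * c) with hρ
  have hρ0 : ρ ≠ 0 := mul_ne_zero ((map_ne_zero σ).mpr c.ne_zero) (mul_ne_zero c.ne_zero c.ne_zero)
  have hρ1 : 1 + ρ⁻¹ ≠ 0 := by
    intro h
    obtain ⟨u, hu⟩ := hne
    apply hu
    have h1 : ρ = 1 := by
      have := eq_of_add h
      rw [← inv_inv ρ, ← this, inv_one]
    have h2 := hz u
    rw [h1, one_mul] at h2
    show h' * S.e 0 0 u = S.e 0 0 u * h'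
    calc h' * S.e 0 0 u = (h' * S.e 0 0 u * h'⁻¹) * h' := by group
      _ = _ := by rw [h2]
  refine exists_fam N D I k.uniq Hh hA (w0 := (1 + ρ⁻¹) * β t) (mul_ne_zero hρ1 ht0) ?_ hAo hAe hAr
  intro r hr
  have h1 : r⁻¹ * h' * r = h' * S.e 0 0 ((1 + ρ⁻¹) * β r) := by
    have h2 := (hβ r hr).eq
    have h3 : r⁻¹ * h' * r = S.e 0 0 (β r) * h' * (S.e 0 0 (β r))⁻¹ := by
      calc r⁻¹ * h' * r = r⁻¹ * (h' * (r * S.e 0 0 (β r))) * (S.e 0 0 (β r))⁻¹ := by group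
        _ = _ := by rw [h2]; group
    have h4 : S.e 0 0 (β r) * h' = h' * S.e 0 0 (ρ⁻¹ * β r) := by
      have := hz (ρ⁻¹ * β r)
      rw [mul_inv_cancel_left₀ hρ0] at this
      rw [← this]; group
    rw [h3, h4, z_inv, mul_assoc, z_mul]
    congr 2; ring
  have h2 : r⁻¹ * (hx c)⁻¹ = (hx c)⁻¹ * r⁻¹ := (hA r hr c).inv_inv.eq
  calc r⁻¹ * ((hx c)⁻¹ * h') * r = (r⁻¹ * (hx c)⁻¹) * h' * r := by group
    _ = (hx c)⁻¹ * (r⁻¹ * h' * r) := by rw [h2]; group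
    _ = (hx c)⁻¹ * h' * S.e 0 0 ((1 + ρ⁻¹) * β r) := by rw [h1]; group
    _ = _ := by
      congr 2
      field_simp

end Cfsg.Agent.OddHalf.D4.TwF.Bone

end

-- merged: Cfsg.Agent.OddHalf.D4.TwF.KSide
section

/-!
# ODD D4, `K = ²F₄(q)`: the facts on the parabolic `PL` in the form `KH`
-/

set_option autoImplicit false
set_option linter.unusedSectionVars false

namespace Cfsg.Agent.OddHalf.D4.TwF.KSide

open Cfsg.Agent.KFacts.TwF4 Cfsg.Agent.OddHalf.D4.TwF.Field Cfsg.Agent.OddHalf.D4.TwF.End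
open Cfsg.Agent.OddHalf.D4.TwF.QTwo Cfsg.Agent.OddHalf.D4.TwF.Mir Cfsg.Agent.OddHalf.D4.TwF.Norm
open Cfsg.Agent.OddHalf.D4.TwF.MkFam Cfsg.Agent.OddHalf.D4.TwF.Bone
open Cfsg.Agent.SplitTwo Cfsg.Agent.SplitTwo.ZS Cfsg.Agent.TitsThree.RankTwoZ Cfsg.Agent.TitsThree.RankTwoRGD
open Cfsg.Agent.SplitTwo.RootSysZ
open scoped commutatorElement

universe u

/-! ### facts on `Lin` -/

section lin

variable {F : Type*} [Field F] [CharP F 2] {σ : F →+* F} {G : Type*} [Group G] {S : Sys σ G}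

theorem Lin.mul {x y : G} (hx : Lin S x) (hy : Lin S y) : Lin S (x * y) := by
  obtain ⟨a1, a2, a3, a4, ha⟩ := hx
  obtain ⟨b1, b2, b3, b4, hb⟩ := hy
  refine ⟨a1 + b1, a2 + b2, a3 + b3, a4 + b4, fun α β γ δ ε => ?_⟩
  have : (x * y)⁻¹ * q5 S α β γ δ ε * (x * y) = y⁻¹ * (x⁻¹ * q5 S α β γ δ ε * x) * y := by group
  rw [this, ha, hb]
  congr 1; ring

theorem Lin.inv {x : G} (hx : Lin S x) : Lin S x⁻¹ := by
  obtain ⟨a1, a2, a3, a4, ha⟩ := hx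
  refine ⟨a1, a2, a3, a4, fun α β γ δ ε => ?_⟩
  have h1 := ha α β (γ + α * a1 + β * a2 + δ * a3 + ε * a4) δ ε
  have e : γ + α * a1 + β * a2 + δ * a3 + ε * a4 + α * a1 + β * a2 + δ * a3 + ε * a4 =
      γ + ((α * a1 + α * a1) + (β * a2 + β * a2) + (δ * a3 + δ * a3) + (ε * a4 + ε * a4)) := by ring
  rw [e] at h1
  simp only [add_self, add_zero] at h1
  rw [← h1]; group

theorem Lin.of_comm {x : G} (hx : ∀ α β γ δ ε, Commute x (q5 S α β γ δ ε)) : Lin S x :=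
  ⟨0, 0, 0, 0, fun α β γ δ ε => by rw [conj_comm (hx α β γ δ ε)]; congr 1; ring⟩

theorem Lin.one : Lin S (1 : G) := Lin.of_comm fun _ _ _ _ _ => Commute.one_left _

theorem Lin.q5 (α β γ δ ε : F) : Lin S (QTwo.q5 S α β γ δ ε) := Lin.of_comm fun _ _ _ _ _ => q5_comm S _ _ _ _ _ _ _ _ _ _

theorem q5_e7 (α β γ δ ε p u : F) : (S.e 7 p u)⁻¹ * QTwo.q5 S α β γ δ ε * S.e 7 p u = QTwo.q5 S α β (γ + δ * p) δ ε := by
  obtain ⟨S', M⟩ := exists_mirror S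
  rw [← M.e1, ← M.q5, q5_e1, M.q5]

/-- the elements acting linearly, as a subgroup -/
def LinG (S : Sys σ G) : Subgroup G where
  carrier := {x | Lin S x}
  one_mem' := Lin.one
  mul_mem' := Lin.mul
  inv_mem' := Lin.inv

/-- `Q₂` as a subgroup -/
def InQG (S : Sys σ G) : Subgroup G where
  carrier := {x | InQ S x}
  one_mem' := InQ.one S
  mul_mem' := InQ.mul
  inv_mem' := by
    rintro x ⟨a, b, c, d, e, rfl⟩
    exact ⟨a, b, c, d, e, q5_inv S a b c d e⟩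

end lin

variable {F : Type*} [Field F] [CharP F 2] {σ τ : F →+* F} {X : Type u} [Group X] (S : Full σ X)

/-- the coordinates with centre `X_4` -/
def sh : Sys σ X := mapS S.toSys (MulAut.conj (S.rot * S.rot)).toMonoidHom (MulAut.conj (S.rot * S.rot)).injective

theorem sh_o (a b : ZMod 8) (h : a + 2 = b) (t : F) : (sh S).o a t = S.o b t := by
  have : (sh S).o a t = S.rot * S.rot * S.o a t * (S.rot * S.rot)⁻¹ := rfl
  rw [this]
  have e : S.rot * S.rot * S.o a t * (S.rot * S.rot)⁻¹ = S.rot * (S.rot * S.o a t * S.rot⁻¹) * S.rot⁻¹ := by group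
  rw [e, S.rot_o, S.rot_o, ← h]
  congr 1; ring

theorem sh_e (a b : ZMod 8) (h : a + 2 = b) (p u : F) : (sh S).e a p u = S.e b p u := by
  have : (sh S).e a p u = S.rot * S.rot * S.e a p u * (S.rot * S.rot)⁻¹ := rfl
  rw [this]
  have e : S.rot * S.rot * S.e a p u * (S.rot * S.rot)⁻¹ = S.rot * (S.rot * S.e a p u * S.rot⁻¹) * S.rot⁻¹ := by group
  rw [e, S.rot_e, S.rot_e, ← h]
  congr 1; ring

theorem so0 (t : F) : (sh S).o 0 t = S.o 2 t := sh_o S 0 2 rfl t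
theorem so1 (t : F) : (sh S).o 1 t = S.o 3 t := sh_o S 1 3 rfl t
theorem so6 (t : F) : (sh S).o 6 t = S.o 0 t := sh_o S 6 0 rfl t
theorem so7 (t : F) : (sh S).o 7 t = S.o 1 t := sh_o S 7 1 rfl t
theorem se0 (p u : F) : (sh S).e 0 p u = S.e 2 p u := sh_e S 0 2 rfl p u
theorem se1 (p u : F) : (sh S).e 1 p u = S.e 3 p u := sh_e S 1 3 rfl p u
theorem se2 (p u : F) : (sh S).e 2 p u = S.e 4 p u := sh_e S 2 4 rfl p u
theorem se6 (p u : F) : (sh S).e 6 p u = S.e 0 p u := sh_e S 6 0 rfl p u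
theorem se7 (p u : F) : (sh S).e 7 p u = S.e 1 p u := sh_e S 7 1 rfl p u

theorem q5_eq (α β γ δ ε : F) : q5 (sh S) α β γ δ ε = S.e 1 0 α * S.o 1 β * S.e 2 0 γ * S.o 2 δ * S.e 3 0 ε := by
  unfold q5
  rw [se7, so7, se0, so0, se1]

theorem mX0 (p u : F) : S.e 0 p u ∈ S.XZ 0 := (S.mem_XZ_even 0 _).2 ⟨p, u, rfl⟩

/-! ### uniqueness -/

theorem q5_one {α β γ δ ε : F} (h : q5 (sh S) α β γ δ ε = 1) : α = 0 ∧ β = 0 ∧ γ = 0 ∧ δ = 0 ∧ ε = 0 := by
  have Z8 := S.zsys8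
  rw [q5_eq] at h
  have m3 : ∀ {k : ℤ} {x : X}, x ∈ S.XZ k → ∀ {a b : ℤ}, a ≤ k → k ≤ b → x ∈ J S.XZ a b := fun hx _ _ h1 h2 => mem_J hx h1 h2
  have h1 : S.e 1 0 α = 1 := by
    apply Z8.inter 2 _ (S.mX2 0 α)
    have e : S.e 1 0 α = (S.o 1 β * S.e 2 0 γ * S.o 2 δ * S.e 3 0 ε)⁻¹ := by
      rw [eq_inv_iff_mul_eq_one, ← h]; group
    rw [e]
    exact inv_mem (mul_mem (mul_mem (mul_mem (m3 (S.mX3 β) (by norm_num) (by norm_num))
      (m3 (S.mX4 0 γ) (by norm_num) (by norm_num))) (m3 (S.mX5 δ) (by norm_num) (by norm_num)))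
      (m3 (S.mX6 0 ε) (by norm_num) (by norm_num)))
  rw [h1, one_mul] at h
  have h2 : S.o 1 β = 1 := by
    apply Z8.inter 3 _ (S.mX3 β)
    have e : S.o 1 β = (S.e 2 0 γ * S.o 2 δ * S.e 3 0 ε)⁻¹ := by
      rw [eq_inv_iff_mul_eq_one, ← h]; group
    rw [e]
    exact inv_mem (mul_mem (mul_mem (m3 (S.mX4 0 γ) (by norm_num) (by norm_num))
      (m3 (S.mX5 δ) (by norm_num) (by norm_num))) (m3 (S.mX6 0 ε) (by norm_num) (by norm_num)))
  rw [h2, one_mul] at h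
  have h3 : S.e 2 0 γ = 1 := by
    apply Z8.inter 4 _ (S.mX4 0 γ)
    have e : S.e 2 0 γ = (S.o 2 δ * S.e 3 0 ε)⁻¹ := by
      rw [eq_inv_iff_mul_eq_one, ← h]; group
    rw [e]
    exact inv_mem (mul_mem (m3 (S.mX5 δ) (by norm_num) (by norm_num)) (m3 (S.mX6 0 ε) (by norm_num) (by norm_num)))
  rw [h3, one_mul] at h
  have h4 : S.o 2 δ = 1 := by
    apply Z8.inter 5 _ (S.mX5 δ)
    have e : S.o 2 δ = (S.e 3 0 ε)⁻¹ := by
      rw [eq_inv_iff_mul_eq_one, ← h]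
    rw [e]
    exact inv_mem (m3 (S.mX6 0 ε) (by norm_num) (by norm_num))
  rw [h4, one_mul] at h
  exact ⟨(S.e_eq_one h1).2, S.o_eq_one h2, (S.e_eq_one h3).2, S.o_eq_one h4, (S.e_eq_one h).2⟩

theorem uniq : Uniq (sh S) := by
  intro α β γ δ ε α' β' γ' δ' ε' h
  have h1 : q5 (sh S) (α + α') (β + β') (γ + γ') (δ + δ') (ε + ε') = 1 := by
    rw [← q5_mul, h, q5_sq]
  obtain ⟨h1, h2, h3, h4, h5⟩ := q5_one S h1
  exact ⟨eq_of_add h1, eq_of_add h2, eq_of_add h3, eq_of_add h4, eq_of_add h5⟩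

theorem e0n (p u : F) (h : InQ (sh S) ((sh S).e 0 p u)) : p = 0 := by
  obtain ⟨α, β, γ, δ, ε, h⟩ := h
  have Z8 := S.zsys8
  rw [q5_eq, se0] at h
  have m3 : ∀ {k : ℤ} {x : X}, x ∈ S.XZ k → ∀ {a b : ℤ}, a ≤ k → k ≤ b → x ∈ J S.XZ a b := fun hx _ _ h1 h2 => mem_J hx h1 h2
  have h1 : S.e 1 0 α = 1 := by
    apply Z8.inter 2 _ (S.mX2 0 α)
    have e : S.e 1 0 α = S.e 2 p u * (S.o 1 β * S.e 2 0 γ * S.o 2 δ * S.e 3 0 ε)⁻¹ := by
      rw [eq_mul_inv_iff_mul_eq, h]; group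
    rw [e]
    exact mul_mem (m3 (S.mX4 p u) (by norm_num) (by norm_num)) (inv_mem (mul_mem (mul_mem (mul_mem
      (m3 (S.mX3 β) (by norm_num) (by norm_num))
      (m3 (S.mX4 0 γ) (by norm_num) (by norm_num))) (m3 (S.mX5 δ) (by norm_num) (by norm_num)))
      (m3 (S.mX6 0 ε) (by norm_num) (by norm_num))))
  rw [h1, one_mul] at h
  have h2 : S.o 1 β = 1 := by
    apply Z8.inter 3 _ (S.mX3 β)
    have e : S.o 1 β = S.e 2 p u * (S.e 2 0 γ * S.o 2 δ * S.e 3 0 ε)⁻¹ := by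
      rw [eq_mul_inv_iff_mul_eq, h]; group
    rw [e]
    exact mul_mem (m3 (S.mX4 p u) (by norm_num) (by norm_num)) (inv_mem (mul_mem (mul_mem
      (m3 (S.mX4 0 γ) (by norm_num) (by norm_num)) (m3 (S.mX5 δ) (by norm_num) (by norm_num)))
      (m3 (S.mX6 0 ε) (by norm_num) (by norm_num))))
  rw [h2, one_mul] at h
  have h3 : (S.e 2 0 γ)⁻¹ * S.e 2 p u = 1 := by
    apply Z8.inter 4 _ (mul_mem (inv_mem (S.mX4 0 γ)) (S.mX4 p u))
    have e : (S.e 2 0 γ)⁻¹ * S.e 2 p u = S.o 2 δ * S.e 3 0 ε := by rw [h]; group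
    rw [e]
    exact mul_mem (m3 (S.mX5 δ) (by norm_num) (by norm_num)) (m3 (S.mX6 0 ε) (by norm_num) (by norm_num))
  rw [inv_mul_eq_one] at h3
  exact (S.injE 2 _ _ _ _ h3).1.symm

/-! ### `Q₂` -/

theorem inQ_iff {x : X} : InQ (sh S) x ↔ x ∈ S.Q2 := by
  constructor
  · rintro ⟨α, β, γ, δ, ε, rfl⟩
    rw [q5_eq]
    exact mul_mem (mul_mem (mul_mem (mul_mem (S.q2_1 α) (S.q2_2 β)) (S.q2_3 γ)) (S.q2_4 δ)) (S.q2_5 ε)
  · intro hx
    have : S.Q2 ≤ InQG (sh S) := by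
      apply S.Q2_le
      · intro u
        refine ⟨u, 0, 0, 0, 0, ?_⟩
        rw [← se7, z7_eq]
      · intro t
        refine ⟨0, t, 0, 0, 0, ?_⟩
        rw [← so7, o7_eq]
      · intro u
        refine ⟨0, 0, u, 0, 0, ?_⟩
        rw [← se0, z0_eq]
      · intro t
        refine ⟨0, 0, 0, t, 0, ?_⟩
        rw [← so0, o0_eq]
      · intro u
        refine ⟨0, 0, 0, 0, u, ?_⟩
        rw [← se1, z1_eq]
    exact this hx

theorem lin_Q {y : X} (hy : y ∈ S.Q) : Lin (sh S) y := by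
  have : S.Q ≤ LinG (sh S) := by
    refine J_le fun k h1 h2 x hx => ?_
    show Lin (sh S) x
    interval_cases k
    · obtain ⟨t, rfl⟩ := S.X1 hx
      rw [← so6]
      refine ⟨0, 0, 0, t, fun α β γ δ ε => ?_⟩
      rw [Nn.q5_o6]; congr 1; ring
    · obtain ⟨p, u, rfl⟩ := S.X2 hx
      rw [← se7]
      refine ⟨0, 0, p, 0, fun α β γ δ ε => ?_⟩
      rw [q5_e7]; congr 1; ring
    · obtain ⟨t, rfl⟩ := S.X3 hx
      rw [← so7, o7_eq]; exact Lin.q5 _ _ _ _ _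
    · obtain ⟨p, u, rfl⟩ := S.X4 hx
      rw [← se0]
      exact Lin.of_comm fun _ _ _ _ _ => q5_e0 _ _ _ _ _ _ _ _
    · obtain ⟨t, rfl⟩ := S.X5 hx
      rw [← so0, o0_eq]; exact Lin.q5 _ _ _ _ _
    · obtain ⟨p, u, rfl⟩ := S.X6 hx
      rw [← se1]
      refine ⟨0, p, 0, 0, fun α β γ δ ε => ?_⟩
      rw [q5_e1]; congr 1; ring
    · obtain ⟨t, rfl⟩ := S.X7 hx
      rw [← so1]
      refine ⟨t, 0, 0, 0, fun α β γ δ ε => ?_⟩
      rw [q5_o1]; congr 1; ring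
  exact this hy

/-- the elements with `[E₀, y] ≤ Q₂` -/
def EcG : Subgroup X where
  carrier := {y | y ∈ S.PL ∧ ∀ p u, InQ (sh S) ((S.e 2 p u)⁻¹ * (y⁻¹ * S.e 2 p u * y))}
  one_mem' := ⟨one_mem _, fun p u => by
    have : (S.e 2 p u)⁻¹ * (1⁻¹ * S.e 2 p u * 1) = 1 := by group
    rw [this]; exact InQ.one _⟩
  mul_mem' := by
    rintro y z ⟨hy, hy'⟩ ⟨hz, hz'⟩
    refine ⟨mul_mem hy hz, fun p u => ?_⟩
    have e : (S.e 2 p u)⁻¹ * ((y * z)⁻¹ * S.e 2 p u * (y * z)) = ((S.e 2 p u)⁻¹ * (z⁻¹ * S.e 2 p u * z)) *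
        (z⁻¹ * ((S.e 2 p u)⁻¹ * (y⁻¹ * S.e 2 p u * y)) * z) := by group
    rw [e]
    refine (hz' p u).mul ((inQ_iff S).2 ?_)
    have := (Subgroup.mem_normalizer_iff''.1 (S.Q2_norm hz) _).1 ((inQ_iff S).1 (hy' p u))
    exact this
  inv_mem' := by
    rintro y ⟨hy, hy'⟩
    refine ⟨inv_mem hy, fun p u => ?_⟩
    have e2 : (S.e 2 p u)⁻¹ * (y⁻¹⁻¹ * S.e 2 p u * y⁻¹) =
        y * (y⁻¹ * (S.e 2 p u)⁻¹ * y * S.e 2 p u) * y⁻¹ := by group
    have e3 : y⁻¹ * (S.e 2 p u)⁻¹ * y * S.e 2 p u = ((S.e 2 p u)⁻¹ * (y⁻¹ * S.e 2 p u * y))⁻¹ := by group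
    rw [e2, e3]
    refine (inQ_iff S).2 ((Subgroup.mem_normalizer_iff.1 (S.Q2_norm hy) _).1 (inv_mem ((inQ_iff S).1 (hy' p u))))

theorem e0c_PL {y : X} (hy : y ∈ S.PL) (p u : F) : InQ (sh S) ((S.e 2 p u)⁻¹ * (y⁻¹ * S.e 2 p u * y)) := by
  have : S.PL ≤ EcG S := by
    refine J_le fun k h1 h2 x hx => ⟨mem_J hx h1 h2, fun p u => ?_⟩
    have hz : ∀ {x : X}, Commute x (S.e 2 p u) → InQ (sh S) ((S.e 2 p u)⁻¹ * (x⁻¹ * S.e 2 p u * x)) := by
      intro x hx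
      rw [conj_comm hx, inv_mul_cancel]; exact InQ.one _
    interval_cases k
    · obtain ⟨q, v, rfl⟩ := (S.mem_XZ_even 0 x).1 hx
      exact hz (e_e2' S.toSys 0 q v p u)
    · obtain ⟨t, rfl⟩ := S.X1 hx
      have h := Hp.o6_e0 (S := sh S) t p u
      rw [so6, se0, se7] at h
      rw [h, inv_mul_cancel_left, ← se7, z7_eq]
      exact InQ.q5 _ _ _ _ _ _
    · obtain ⟨q, v, rfl⟩ := S.X2 hx
      have h : S.e 1 q v * S.e 2 p u = S.e 2 p u * S.e 1 q v * S.o 1 (q * p) := S.e_e1 1 q v p u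
      have h' : (S.e 1 q v)⁻¹ * S.e 2 p u * S.e 1 q v = S.e 2 p u * S.o 1 (q * p) := by
        have c1 := e_o0' S.toSys 1 q v (q * p)
        have h3 : S.e 2 p u * S.e 1 q v = S.e 1 q v * S.e 2 p u * S.o 1 (q * p) := by
          rw [h]
          have : S.o 1 (q * p) * S.o 1 (q * p) = 1 := End.o_sq S.toSys 1 _
          rw [mul_assoc, this, mul_one]
        calc (S.e 1 q v)⁻¹ * S.e 2 p u * S.e 1 q v = (S.e 1 q v)⁻¹ * (S.e 2 p u * S.e 1 q v) := by group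
          _ = _ := by rw [h3]; group
      rw [h', inv_mul_cancel_left, ← so7, o7_eq]
      exact InQ.q5 _ _ _ _ _ _
    · obtain ⟨t, rfl⟩ := S.X3 hx
      exact hz (o_e1' S.toSys 1 t p u)
    · obtain ⟨q, v, rfl⟩ := S.X4 hx
      have h : S.e 2 p u * S.e 2 q v = S.e 2 q v * S.e 2 p u * S.e 2 0 (p * σ q + q * σ p) := by
        rw [S.e_mul, S.e_mul, S.e_mul, map_zero, mul_zero, add_zero, add_zero, add_comm q p]
        congr 1
        have : v + u + q * σ p + (p * σ q + q * σ p) = u + v + p * σ q + (q * σ p + q * σ p) := by ring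
        rw [this, Field.add_self, add_zero]
      have h' : (S.e 2 q v)⁻¹ * S.e 2 p u * S.e 2 q v = S.e 2 p u * S.e 2 0 (p * σ q + q * σ p) := by
        calc (S.e 2 q v)⁻¹ * S.e 2 p u * S.e 2 q v = (S.e 2 q v)⁻¹ * (S.e 2 p u * S.e 2 q v) := by group
          _ = _ := by rw [h]; group
      rw [h', inv_mul_cancel_left, ← se0, z0_eq]
      exact InQ.q5 _ _ _ _ _ _
    · obtain ⟨t, rfl⟩ := S.X5 hx
      exact hz (e_o0' S.toSys 2 p u t).symm
    · obtain ⟨q, v, rfl⟩ := S.X6 hx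
      have h : S.e 2 p u * S.e 3 q v = S.e 3 q v * S.e 2 p u * S.o 2 (p * q) := S.e_e1 2 p u q v
      have h' : (S.e 3 q v)⁻¹ * S.e 2 p u * S.e 3 q v = S.e 2 p u * S.o 2 (p * q) := by
        calc (S.e 3 q v)⁻¹ * S.e 2 p u * S.e 3 q v = (S.e 3 q v)⁻¹ * (S.e 2 p u * S.e 3 q v) := by group
          _ = _ := by rw [h]; group
      rw [h', inv_mul_cancel_left, ← so0, o0_eq]
      exact InQ.q5 _ _ _ _ _ _
    · obtain ⟨t, rfl⟩ := S.X7 hx
      have h := Hp.o1_e0 (S := sh S) t p u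
      rw [so1, se0, se1] at h
      rw [h, inv_mul_cancel_left, ← se1, z1_eq]
      exact InQ.q5 _ _ _ _ _ _
    · obtain ⟨q, v, rfl⟩ := S.X8 hx
      exact hz (e_e2' S.toSys 2 p u q v).symm
  exact (this hy).2 p u

/-- **the facts `KH`** -/
theorem kh [Finite F] [Finite X] (hF : ∃ c : Fˣ, c ≠ 1) : KH (sh S) S.PL S.Q where
  uniq := uniq S
  le := J_mono (by norm_num) (by norm_num)
  o1 t := by rw [so1]; exact mem_J (S.mX7 t) (by norm_num) (by norm_num)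
  o6 t := by rw [so6]; exact mem_J (S.mX1 t) (by norm_num) (by norm_num)
  o0 t := by rw [so0]; exact mem_J (S.mX5 t) (by norm_num) (by norm_num)
  o7 t := by rw [so7]; exact mem_J (S.mX3 t) (by norm_num) (by norm_num)
  e0 p u := by rw [se0]; exact mem_J (S.mX4 p u) (by norm_num) (by norm_num)
  e1 p u := by rw [se1]; exact mem_J (S.mX6 p u) (by norm_num) (by norm_num)
  e7 p u := by rw [se7]; exact mem_J (S.mX2 p u) (by norm_num) (by norm_num)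
  e2 p u := by rw [se2]; exact mem_J (S.mX8 p u) (by norm_num) (by norm_num)
  e6 p u := by rw [se6]; exact mem_J (mX0 S p u) (by norm_num) (by norm_num)
  cen y _ h := by
    have h1 : y ∈ S.Q1 := by
      rw [← S.centralizer_Q2, Subgroup.mem_centralizer_iff]
      intro x hx
      obtain ⟨α, β, γ, δ, ε, rfl⟩ := (inQ_iff S).2 hx
      exact (h α β γ δ ε).eq.symm
    have h2 : y ∈ S.XZ 4 ⊔ S.Q2 := h1
    obtain ⟨a, ha, b, hb, rfl⟩ := mem_sup_of_norm (A := S.XZ 4) (B := S.Q2) (fun a ha b hb => by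
      have := S.Q1_comm (Subgroup.mem_sup_left ha) hb
      have e : a * b * a⁻¹ = b := by rw [this]; group
      rw [e]; exact hb) h2
    obtain ⟨p, u, rfl⟩ := S.X4 ha
    refine ⟨p, u, ?_⟩
    rw [se0, inv_mul_cancel_left]
    exact (inQ_iff S).2 hb
  nor y hy x hx := (inQ_iff S).2 ((Subgroup.mem_normalizer_iff.1 (S.Q2_norm hy) _).1 ((inQ_iff S).1 hx))
  lin y hy := lin_Q S hy
  e0c y hy p u := by
    rw [se0, commutatorElement_def]
    have e : (S.e 2 p u)⁻¹ * y⁻¹ * (S.e 2 p u)⁻¹⁻¹ * y⁻¹⁻¹ = (S.e 2 p u)⁻¹ * (y⁻¹ * S.e 2 p u * y) := by group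
    rw [e]; exact e0c_PL S hy p u
  e0n := e0n S
  perf := Perf.PL_perfect S hF

/-! ### the torus -/

/-- the torus of the Levi factor -/
def tdl (d : Fˣ) : X := S.h (Units.map (σ : F →* F) d⁻¹) d⁻¹

/-- the torus centralising the Levi factor -/
def thx (x : Fˣ) : X := S.h 1 x

theorem dl_aux (d : Fˣ) : (∀ t, tdl S d * S.o 2 t * (tdl S d)⁻¹ = S.o 2 (d * t)) ∧
    (∀ t, tdl S d * S.o 1 t * (tdl S d)⁻¹ = S.o 1 ((d⁻¹ : Fˣ) * t)) ∧
    (∀ t, tdl S d * S.o 3 t * (tdl S d)⁻¹ = S.o 3 (d * σ d * t)) ∧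
    (∀ t, tdl S d * S.o 0 t * (tdl S d)⁻¹ = S.o 0 ((d⁻¹ : Fˣ) * σ (d⁻¹ : Fˣ) * t)) := by
  have c1 : chE σ 1 (Units.map (σ : F →* F) d⁻¹) d⁻¹ = d⁻¹ := chE_one _ _ _
  have c0 : chE σ 0 (Units.map (σ : F →* F) d⁻¹) d⁻¹ = Units.map (σ : F →* F) d⁻¹ := chE_zero _ _ _
  have c2 : chE σ 2 (Units.map (σ : F →* F) d⁻¹) d⁻¹ = 1 := by rw [chE_two, div_self']
  have c3 : chE σ 3 (Units.map (σ : F →* F) d⁻¹) d⁻¹ = d := by
    rw [chE_three, map_map σ S.sq]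
    rw [pow_two, div_eq_mul_inv, mul_inv_rev, inv_inv]; group
  have c4 : chE σ 4 (Units.map (σ : F →* F) d⁻¹) d⁻¹ = Units.map (σ : F →* F) d := by
    rw [chE_four, map_inv, inv_inv]
  refine ⟨fun t => ?_, fun t => ?_, fun t => ?_, fun t => ?_⟩
  · unfold tdl
    rw [S.h_o]
    have : chO σ 2 (Units.map (σ : F →* F) d⁻¹) d⁻¹ = d := by
      show chE σ 2 _ _ * chE σ 3 _ _ = d
      rw [c2, c3, one_mul]
    rw [this]
  · unfold tdl
    rw [S.h_o]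
    have : chO σ 1 (Units.map (σ : F →* F) d⁻¹) d⁻¹ = d⁻¹ := by
      show chE σ 1 _ _ * chE σ 2 _ _ = d⁻¹
      rw [c2, c1, mul_one]
    rw [this]
  · unfold tdl
    rw [S.h_o]
    have : chO σ 3 (Units.map (σ : F →* F) d⁻¹) d⁻¹ = d * Units.map (σ : F →* F) d := by
      show chE σ 3 _ _ * chE σ 4 _ _ = _
      rw [c3, c4]
    rw [this]; rfl
  · unfold tdl
    rw [S.h_o]
    have : chO σ 0 (Units.map (σ : F →* F) d⁻¹) d⁻¹ = d⁻¹ * Units.map (σ : F →* F) d⁻¹ := by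
      show chE σ 0 _ _ * chE σ 1 _ _ = _
      rw [c0, c1, mul_comm]
    rw [this]; rfl

theorem dl_aux' (d : Fˣ) : (∀ p u, tdl S d * S.e 2 p u * (tdl S d)⁻¹ = S.e 2 p u) ∧
    (∀ p u, tdl S d * S.e 1 p u * (tdl S d)⁻¹ = S.e 1 ((d⁻¹ : Fˣ) * p) ((d⁻¹ : Fˣ) * σ (d⁻¹ : Fˣ) * u)) ∧
    (∀ p u, tdl S d * S.e 3 p u * (tdl S d)⁻¹ = S.e 3 (d * p) (d * σ d * u)) ∧
    (∀ v, tdl S d * S.e 4 0 v * (tdl S d)⁻¹ = S.e 4 0 (σ d * (d * d) * v)) ∧
    (∀ v, tdl S d * S.e 0 0 v * (tdl S d)⁻¹ = S.e 0 0 (σ (d⁻¹ : Fˣ) * ((d⁻¹ : Fˣ) * (d⁻¹ : Fˣ)) * v)) := by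
  have c1 : chE σ 1 (Units.map (σ : F →* F) d⁻¹) d⁻¹ = d⁻¹ := chE_one _ _ _
  have c0 : chE σ 0 (Units.map (σ : F →* F) d⁻¹) d⁻¹ = Units.map (σ : F →* F) d⁻¹ := chE_zero _ _ _
  have c2 : chE σ 2 (Units.map (σ : F →* F) d⁻¹) d⁻¹ = 1 := by rw [chE_two, div_self']
  have c3 : chE σ 3 (Units.map (σ : F →* F) d⁻¹) d⁻¹ = d := by
    rw [chE_three, map_map σ S.sq]
    rw [pow_two, div_eq_mul_inv, mul_inv_rev, inv_inv]; group
  have c4 : chE σ 4 (Units.map (σ : F →* F) d⁻¹) d⁻¹ = Units.map (σ : F →* F) d := by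
    rw [chE_four, map_inv, inv_inv]
  unfold tdl
  refine ⟨fun p u => ?_, fun p u => ?_, fun p u => ?_, fun v => ?_, fun v => ?_⟩
  · rw [S.h_e, c2, Units.val_one, map_one, one_mul, one_mul, one_mul]
  · rw [S.h_e, c1]
  · rw [S.h_e, c3]
  · rw [S.h_e, c4, mul_zero]
    show S.e 4 0 (σ (d : F) * σ (σ (d : F)) * v) = _
    rw [S.sq, pow_two]
  · rw [S.h_e, c0, mul_zero]
    show S.e 0 0 (σ ((d⁻¹ : Fˣ) : F) * σ (σ ((d⁻¹ : Fˣ) : F)) * v) = _
    rw [S.sq, pow_two]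

theorem dlF : Dl (sh S) (tdl S) where
  e0 d p u := by rw [se0]; exact (dl_aux' S d).1 p u
  o0 d t := by rw [so0, so0]; exact (dl_aux S d).1 t
  o7 d t := by rw [so7, so7]; exact (dl_aux S d).2.1 t
  e1 d p u := by rw [se1, se1]; exact (dl_aux' S d).2.2.1 p u
  e7 d p u := by rw [se7, se7]; exact (dl_aux' S d).2.1 p u
  o1 d t := by rw [so1, so1]; exact (dl_aux S d).2.2.1 t
  o6 d t := by rw [so6, so6]; exact (dl_aux S d).2.2.2 t
  z2 d v := by rw [se2, se2]; exact (dl_aux' S d).2.2.2.1 v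
  z6 d v := by rw [se6, se6]; exact (dl_aux' S d).2.2.2.2 v

theorem hxF : Hx (sh S) (thx S) := by
  have c0 : ∀ x : Fˣ, chE σ 0 1 x = 1 := fun x => chE_zero _ _ _
  have c1 : ∀ x : Fˣ, chE σ 1 1 x = x := fun x => chE_one _ _ _
  have c2 : ∀ x : Fˣ, chE σ 2 1 x = Units.map (σ : F →* F) x := fun x => by rw [chE_two, div_one]
  have c3 : ∀ x : Fˣ, chE σ 3 1 x = x := fun x => by rw [chE_three, map_one, div_one]
  have c4 : ∀ x : Fˣ, chE σ 4 1 x = 1 := fun x => by rw [chE_four, inv_one]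
  have o0 : ∀ x : Fˣ, chO σ 0 1 x = x := fun x => by
    show chE σ 0 _ _ * chE σ 1 _ _ = _
    rw [c0, c1, one_mul]
  have o1 : ∀ x : Fˣ, chO σ 1 1 x = x * Units.map (σ : F →* F) x := fun x => by
    show chE σ 1 _ _ * chE σ 2 _ _ = _
    rw [c1, c2]
  have o2 : ∀ x : Fˣ, chO σ 2 1 x = x * Units.map (σ : F →* F) x := fun x => by
    show chE σ 2 _ _ * chE σ 3 _ _ = _
    rw [c2, c3, mul_comm]
  have o3 : ∀ x : Fˣ, chO σ 3 1 x = x := fun x => by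
    show chE σ 3 _ _ * chE σ 4 _ _ = _
    rw [c3, c4, mul_one]
  unfold thx
  refine ⟨fun x p u => ?_, fun x t => ?_, fun x t => ?_, fun x t => ?_, fun x t => ?_, fun x p u => ?_, fun x p u => ?_,
    fun x p u => ?_, fun x p u => ?_⟩
  · rw [se0, se0, S.h_e, c2]
    show S.e 2 (σ (x : F) * p) (σ (x : F) * σ (σ (x : F)) * u) = _
    rw [S.sq, pow_two]
  · rw [so0, so0, S.h_o, o2]; rfl
  · rw [so7, so7, S.h_o, o1]; rfl
  · rw [so1, so1, S.h_o, o3]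
  · rw [so6, so6, S.h_o, o0]
  · rw [se1, se1, S.h_e, c3]
  · rw [se7, se7, S.h_e, c1]
  · rw [se2, S.h_e, c4, Units.val_one, map_one, one_mul, one_mul, one_mul]
  · rw [se6, S.h_e, c0, Units.val_one, map_one, one_mul, one_mul, one_mul]

theorem comm_hx_dl (x d : Fˣ) : Commute (thx S x) (tdl S d) := by
  unfold thx tdl
  show _ * _ = _ * _
  rw [S.h_mul, S.h_mul, mul_comm (1 : Fˣ), mul_comm x]

theorem thx_mem (x : Fˣ) : thx S x ∈ S.T := S.mem_T.2 ⟨1, x, rfl⟩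

/-- `hx` acts trivially on `PL / Q` -/
theorem mod_Q (x : Fˣ) {y : X} (hy : y ∈ S.PL) : dlt (thx S x) y ∈ S.Q := by
  let D : Subgroup X :=
    { carrier := {y | y ∈ S.PL ∧ dlt (thx S x) y ∈ S.Q}
      one_mem' := ⟨one_mem _, by
        have : dlt (thx S x) 1 = 1 := by unfold dlt; group
        rw [this]; exact one_mem _⟩
      mul_mem' := by
        rintro y z ⟨hy, hy'⟩ ⟨hz, hz'⟩
        refine ⟨mul_mem hy hz, ?_⟩
        rw [dlt_mul]
        have := Perf.Q_norm S (inv_mem hz) hy'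
        rw [inv_inv] at this
        exact mul_mem this hz'
      inv_mem' := by
        rintro y ⟨hy, hy'⟩
        refine ⟨inv_mem hy, ?_⟩
        have e : dlt (thx S x) y⁻¹ = y * (dlt (thx S x) y)⁻¹ * y⁻¹ := by unfold dlt; group
        rw [e]
        exact Perf.Q_norm S hy (inv_mem hy') }
  have : S.PL ≤ D := by
    refine J_le fun k h1 h2 y hy => ⟨mem_J hy h1 h2, ?_⟩
    rcases eq_or_lt_of_le h1 with h3 | h3
    · subst h3
      obtain ⟨p, u, rfl⟩ := (S.mem_XZ_even 0 y).1 hy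
      have : dlt (thx S x) (S.e 0 p u) = 1 := by
        unfold dlt
        have := (hxF S).e6 x p u
        rw [se6] at this
        rw [this, inv_mul_cancel]
      have e : S.e (((0 : ℤ) : ZMod 8)) p u = S.e 0 p u := by norm_num
      rw [e, this]; exact one_mem _
    · rcases eq_or_lt_of_le h2 with h4 | h4
      · subst h4
        obtain ⟨p, u, rfl⟩ := S.X8 hy
        have : dlt (thx S x) (S.e 4 p u) = 1 := by
          unfold dlt
          have := (hxF S).e2 x p u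
          rw [se2] at this
          rw [this, inv_mul_cancel]
        rw [this]; exact one_mem _
      · have h5 := S.T_conj (thx_mem S x) k hy
        exact mul_mem (inv_mem (mem_J hy (by omega) (by omega))) (mem_J h5 (by omega) (by omega))
  exact (this hy).2

/-- an element of the torus moving `Z_4` -/
theorem hx_move (hF : ∃ c : Fˣ, c ≠ 1) : ∃ x : Fˣ, ∃ u : F, thx S x * S.e 2 0 u * (thx S x)⁻¹ ≠ S.e 2 0 u := by
  obtain ⟨x, hx⟩ := hF
  refine ⟨x, 1, fun h => ?_⟩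
  have h1 := (hxF S).e0 x 0 1
  rw [se0, se0, mul_zero, mul_one] at h1
  rw [h1] at h
  have h2 := (S.injE 2 _ _ _ _ h).2
  -- `σ x * x² = 1`
  have h3 : Units.map (σ : F →* F) x * (x * x) = 1 := Units.ext h2
  apply hx
  have h4 : x * (x * Units.map (σ : F →* F) x) = 1 := by
    rw [← h3]
    rw [← mul_assoc, mul_comm]
  exact S.unit_eq_one' h4

end Cfsg.Agent.OddHalf.D4.TwF.KSide

end

-- merged: Cfsg.Agent.OddHalf.D4.TwF.Gnorm
section

/-!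
# ODD D4, `K = ²F₄(q)`: normalising the conjugating element

An element of `G` normalising `H = PL` may be changed by an element of `H` to normalise `U` and the torus `T_4` of the
Levi factor.
-/

set_option autoImplicit false
set_option linter.unusedSectionVars false

namespace Cfsg.Agent.OddHalf.D4.TwF.Gnorm

open Subgroup Cfsg.Agent.OddHalf.D4.Basic
open Cfsg.Agent.OddHalf.D4.CommConj (cj mem_cj cj_mul card_cj mem_cj_mul)

/-! ### abstract part -/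

section abs

variable {G : Type*} [Group G] [Finite G]

open Pointwise in
/-- complements of a normal 2-subgroup are conjugate -/
theorem exists_conj_compl {Q H H' : Subgroup G} (hQ : IsPGroup 2 Q)
    (hH : Odd (Nat.card H)) (hHQ : ∀ h ∈ H, ∀ q ∈ Q, h * q * h⁻¹ ∈ Q) (hcard : Nat.card H' = Nat.card H)
    (hH' : ∀ k ∈ H', ∃ h ∈ H, ∃ q ∈ Q, k = h * q) :
    ∃ q ∈ Q, ∀ k ∈ H', q * k * q⁻¹ ∈ H := by
  classical
  set Γ : Subgroup G := Q ⊔ H with hΓ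
  have hQΓ : Q ≤ Γ := le_sup_left
  have hHΓ : H ≤ Γ := le_sup_right
  have hle : Γ ≤ Subgroup.normalizer (Q : Set G) := by
    rw [hΓ, sup_le_iff]
    refine ⟨Subgroup.le_normalizer, ?_⟩
    intro h hh
    rw [Subgroup.mem_normalizer_iff]
    intro q
    constructor
    · exact hHQ h hh q
    · intro hq
      have := hHQ h⁻¹ (inv_mem hh) _ hq
      have e : h⁻¹ * (h * q * h⁻¹) * h⁻¹⁻¹ = q := by group
      rwa [e] at this
  have hKΓ : H' ≤ Γ := by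
    intro k hk
    obtain ⟨h, hh, q, hq, rfl⟩ := hH' k hk
    exact mul_mem (hHΓ hh) (hQΓ hq)
  let N : Subgroup Γ := Q.subgroupOf Γ
  have hN : N.Normal := Subgroup.normal_subgroupOf_iff_le_normalizer hQΓ |>.2 hle
  have cN : Nat.card N = Nat.card Q := Nat.card_congr (Subgroup.subgroupOfEquivOfLe hQΓ).toEquiv
  have cH : Nat.card (H.subgroupOf Γ) = Nat.card H := Nat.card_congr (Subgroup.subgroupOfEquivOfLe hHΓ).toEquiv
  have cK : Nat.card (H'.subgroupOf Γ) = Nat.card H' :=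
    Nat.card_congr (Subgroup.subgroupOfEquivOfLe hKΓ).toEquiv
  obtain ⟨m, hm⟩ := (IsPGroup.iff_card).1 hQ
  have hcop : (Nat.card N).Coprime (Nat.card H) := by
    rw [cN, hm]; exact (Nat.coprime_two_left.2 hH).pow_left m
  have dH : Nat.Coprime (Nat.card N) (Nat.card (H.subgroupOf Γ)) := by rw [cH]; exact hcop
  have dK : Nat.Coprime (Nat.card N) (Nat.card (H'.subgroupOf Γ)) := by rw [cK, hcard]; exact hcop
  have compH : Subgroup.IsComplement' N (H.subgroupOf Γ) := by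
    apply Subgroup.isComplement'_of_disjoint_and_mul_eq_univ (Subgroup.disjoint_of_coprime_natCard dH)
    rw [← Subgroup.normal_mul, ← Subgroup.subgroupOf_sup hQΓ hHΓ, Subgroup.subgroupOf_self]
    rfl
  have compK : Subgroup.IsComplement' N (H'.subgroupOf Γ) := by
    apply Subgroup.isComplement'_of_coprime _ dK
    rw [← compH.card_mul_card, cK, cH, hcard]
  have hi : N.index = Nat.card H := by
    rw [compH.symm.index_eq_card, cH]
  have := hQ.isNilpotent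
  obtain ⟨g, hg⟩ := Cfsg.Agent.S0001.result N (by rw [hi]; exact hcop)
    (Or.inl (by
      have : Group.IsSolvable Q := inferInstance
      exact Group.isSolvable_of_isSolvable_injective (f := (Subgroup.subgroupOfEquivOfLe hQΓ).toMonoidHom)
        (Subgroup.subgroupOfEquivOfLe hQΓ).injective)) _ _ compK compH
  obtain ⟨⟨⟨h0, hh0⟩, ⟨q0, hq0⟩⟩, hgh⟩ := compH.symm.2 g
  have hq0' : (q0 : G) ∈ Q := hq0
  have hh0' : (h0 : G) ∈ H := hh0
  refine ⟨q0, hq0', fun k hk => ?_⟩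
  have h1 : (⟨k, hKΓ hk⟩ : Γ) ∈ H'.subgroupOf Γ := hk
  have h2 := Subgroup.smul_mem_pointwise_smul _ (MulAut.conj g) _ h1
  rw [hg] at h2
  have h3 : (g : G) * k * (g : G)⁻¹ ∈ H := h2
  have h4 : (g : G) = h0 * q0 := by rw [← hgh]; rfl
  rw [h4] at h3
  have h5 := mul_mem (mul_mem (inv_mem hh0') h3) hh0'
  have e : (h0 : G)⁻¹ * (h0 * q0 * k * (h0 * q0 : G)⁻¹) * h0 = q0 * k * (q0 : G)⁻¹ := by group
  rwa [e] at h5

/-- a map of a finite subgroup into itself is onto -/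
theorem conj_inv_mem {U : Subgroup G} {g : G} (h : ∀ x ∈ U, g * x * g⁻¹ ∈ U) : ∀ x ∈ U, g⁻¹ * x * g ∈ U := by
  have h1 : cj g U ≤ U := by
    intro x hx
    have h2 := h _ (mem_cj.1 hx)
    have e : g * (g⁻¹ * x * g) * g⁻¹ = x := by group
    rwa [e] at h2
  have h3 : cj g U = U := eq_of_le_of_card_ge h1 (by rw [card_cj])
  intro x hx
  rw [← h3] at hx
  exact mem_cj.1 hx

/-- **normalisation of `g`** -/
theorem normalise {H U T : Subgroup G} (hU : IsSyl U H) (hT : T ≤ H) (hTU : ∀ t ∈ T, ∀ u ∈ U, t * u * t⁻¹ ∈ U)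
    (hodd : Odd (Nat.card T)) (hN : ∀ x ∈ H, (∀ u ∈ U, x * u * x⁻¹ ∈ U) → ∃ u ∈ U, ∃ t ∈ T, x = u * t)
    {g : G} (hg : ∀ x ∈ H, g * x * g⁻¹ ∈ H) :
    ∃ y ∈ H, (∀ x ∈ U, (y * g) * x * (y * g)⁻¹ ∈ U) ∧ ∀ x ∈ T, (y * g) * x * (y * g)⁻¹ ∈ T := by
  have h2 : IsPGroup 2 ↥(cj g U) := hU.two.map _
  have h3 : cj g U ≤ H := by
    intro x hx
    have h4 := hg _ (hU.le (mem_cj.1 hx))
    have e : g * (g⁻¹ * x * g) * g⁻¹ = x := by group
    rwa [e] at h4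
  obtain ⟨m, hm, hmU⟩ := hU.conj_into h2 h3
  set g1 := m * g with hg1
  have h1U : ∀ x ∈ U, g1 * x * g1⁻¹ ∈ U := by
    intro x hx
    have := hmU _ (mem_cj_mul (g := g) hx)
    have e : m * (g * x * g⁻¹) * m⁻¹ = g1 * x * g1⁻¹ := by rw [hg1]; group
    rwa [e] at this
  have h1U' := conj_inv_mem h1U
  have h1H : ∀ x ∈ H, g1 * x * g1⁻¹ ∈ H := by
    intro x hx
    have e : g1 * x * g1⁻¹ = m * (g * x * g⁻¹) * m⁻¹ := by rw [hg1]; group
    rw [e]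
    exact H.mul_mem (H.mul_mem hm (hg x hx)) (H.inv_mem hm)
  obtain ⟨q, hq, hqT⟩ := exists_conj_compl (H' := cj g1 T) hU.two hodd hTU (card_cj _ _) (by
    intro k hk
    have hk' := mem_cj.1 hk
    set t := g1⁻¹ * k * g1 with ht
    have hkt : k = g1 * t * g1⁻¹ := by rw [ht]; group
    obtain ⟨u, hu, t', ht', e⟩ := hN k (by rw [hkt]; exact h1H _ (hT hk')) (by
      intro u hu
      have e2 : k * u * k⁻¹ = g1 * (t * (g1⁻¹ * u * g1) * t⁻¹) * g1⁻¹ := by rw [hkt]; group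
      rw [e2]
      exact h1U _ (hTU _ hk' _ (h1U' u hu)))
    refine ⟨t', ht', t'⁻¹ * u * t', ?_, by rw [e]; group⟩
    have := hTU t'⁻¹ (T.inv_mem ht') u hu
    rwa [inv_inv] at this)
  refine ⟨q * m, H.mul_mem (hU.le hq) hm, fun x hx => ?_, fun x hx => ?_⟩
  · have e : q * m * g * x * (q * m * g)⁻¹ = q * (g1 * x * g1⁻¹) * q⁻¹ := by rw [hg1]; group
    rw [e]
    exact U.mul_mem (U.mul_mem hq (h1U x hx)) (U.inv_mem hq)
  · have e : q * m * g * x * (q * m * g)⁻¹ = q * (g1 * x * g1⁻¹) * q⁻¹ := by rw [hg1]; group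
    rw [e]
    exact hqT _ (mem_cj_mul hx)

end abs

/-! ### the parabolic subgroup -/

open Cfsg.Agent.KFacts.TwF4 Cfsg.Agent.OddHalf.D4.TwF.KSide
open Cfsg.Agent.SplitTwo Cfsg.Agent.SplitTwo.ZS Cfsg.Agent.TitsThree.RankTwoZ Cfsg.Agent.TitsThree.RankTwoRGD
open Cfsg.Agent.SplitTwo.RootSysZ

universe u

variable {F : Type*} [Field F] [CharP F 2] {σ : F →+* F} {X : Type u} [Group X] (S : Full σ X)

/-- `tdl` as a homomorphism -/
def tdlM : Fˣ →* X where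
  toFun := tdl S
  map_one' := by
    unfold tdl
    rw [inv_one, map_one]; exact S.h_one
  map_mul' a b := by
    unfold tdl
    rw [S.h_mul, mul_inv, map_mul]

/-- the torus `T_4` -/
def T4 : Subgroup X := (tdlM S).range

theorem mem_T4 {x : X} : x ∈ T4 S ↔ ∃ d, tdl S d = x := Iff.rfl

theorem T4_le_T : T4 S ≤ S.T := by
  rintro x ⟨d, rfl⟩
  exact S.mem_T.2 ⟨_, _, rfl⟩

theorem odd_units [Finite F] : Odd (Nat.card Fˣ) := by
  have := Fintype.ofFinite F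
  classical
  rw [Nat.card_eq_fintype_card, Fintype.card_units]
  have h1 : Even (Fintype.card F) := by
    obtain ⟨n, hn⟩ := FiniteField.card F 2
    rw [hn.2]
    exact (Nat.even_pow.2 ⟨even_two, n.ne_zero⟩)
  exact Nat.Even.sub_odd Fintype.card_pos h1 odd_one

theorem odd_T4 [Finite F] : Odd (Nat.card (T4 S)) :=
  Odd.of_dvd_nat odd_units (Subgroup.card_range_dvd (tdlM S))

/-- an element of the torus in `PL` lies in `T_4` -/
theorem T4_of_PL {t : X} (ht : t ∈ S.T) (hP : t ∈ S.PL) : t ∈ T4 S := by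
  obtain ⟨c, d, rfl⟩ := S.mem_T.1 ht
  have h1 : S.h c d * S.e 2 0 1 = S.e 2 0 1 * S.h c d := S.comm_PL hP ⟨1, rfl⟩
  have h2 : S.h c d * S.e 2 0 1 * (S.h c d)⁻¹ = S.e 2 0 1 := by rw [h1]; group
  rw [S.h_e, mul_zero, mul_one] at h2
  have h3 := (S.injE 2 _ _ _ _ h2).2
  have h4 : chE σ 2 c d * Units.map (σ : F →* F) (chE σ 2 c d) = 1 := Units.ext h3
  have h5 := S.unit_eq_one h4
  rw [chE_two, div_eq_one] at h5
  refine ⟨d⁻¹, ?_⟩
  show S.h (Units.map (σ : F →* F) d⁻¹⁻¹) d⁻¹⁻¹ = _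
  rw [inv_inv, h5]

theorem T4_le_PL [Finite F] : T4 S ≤ S.PL := by
  rintro x ⟨d, rfl⟩
  exact S.h_mem_PL d⁻¹

theorem U_le_PL : J S.XZ 1 8 ≤ S.PL := J_mono (by norm_num) le_rfl

/-- the normaliser of `U` in `PL` -/
theorem norm_U_PL [Finite F] [Finite X] (hF : ∃ c : Fˣ, c ≠ 1) (hR : S.R.p = 2) {x : X} (hx : x ∈ S.PL)
    (h : ∀ u ∈ J S.XZ 1 8, x * u * x⁻¹ ∈ J S.XZ 1 8) : ∃ u ∈ J S.XZ 1 8, ∃ t ∈ T4 S, x = u * t := by
  have h' := conj_inv_mem h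
  obtain ⟨b, hb, t, ht, e⟩ := SylU.norm_U S hF hR (g := x) (fun y => ⟨h y, fun hy => by
    have := h' _ hy
    have e : x⁻¹ * (x * y * x⁻¹) * x = y := by group
    rwa [e] at this⟩)
  refine ⟨b, hb, t, T4_of_PL S ht ?_, e⟩
  have e2 : t = b⁻¹ * x := by rw [e]; group
  rw [e2]
  exact mul_mem (inv_mem (U_le_PL S hb)) hx

theorem two_U [Finite F] [Finite X] (hF : ∃ c : Fˣ, c ≠ 1) (hR : S.R.p = 2) : IsPGroup 2 ↥(J S.XZ 1 8) := by
  obtain ⟨P, hP⟩ := SylU.exists_sylow S hF hR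
  rw [← hP]; exact P.2

section map

variable {G : Type*} [Group G] [Finite G] {j : X →* G} (hj : Function.Injective j)

include hj

omit [CharP F 2] [Finite G] in
/-- the image of a Sylow subgroup -/
theorem isSyl_range (P : Sylow 2 X) : IsSyl ((P : Subgroup X).map j) j.range := by
  refine ⟨P.2.map _, ?_, ?_⟩
  · rintro _ ⟨x, -, rfl⟩; exact ⟨x, rfl⟩
  intro V hV hUV hVP
  have h1 : IsPGroup 2 ↥(V.comap j) := hV.comap_of_injective j hj
  have h2 : (P : Subgroup X) ≤ V.comap j := fun x hx => hUV ⟨x, hx, rfl⟩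
  have h3 := P.3 h1 h2
  intro v hv
  obtain ⟨x, rfl⟩ := hVP hv
  refine ⟨x, ?_, rfl⟩
  rw [← h3]; exact hv

omit [Finite G] in
/-- `U` is a Sylow subgroup of `K` -/
theorem syl_U_range [Finite F] [Finite X] (hF : ∃ c : Fˣ, c ≠ 1) (hR : S.R.p = 2) :
    IsSyl ((J S.XZ 1 8).map j) j.range := by
  obtain ⟨P, hP⟩ := SylU.exists_sylow S hF hR
  rw [← hP]
  exact isSyl_range hj P

omit [Finite G] in
/-- `U` is a Sylow subgroup of `PL` -/
theorem syl_U [Finite F] [Finite X] (hF : ∃ c : Fˣ, c ≠ 1) (hR : S.R.p = 2) :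
    IsSyl ((J S.XZ 1 8).map j) (S.PL.map j) :=
  (syl_U_range S hj hF hR).mono (map_mono (U_le_PL S)) (by rintro _ ⟨x, -, rfl⟩; exact ⟨x, rfl⟩)

/-- **normalisation of `g`** -/
theorem exists_norm [Finite F] [Finite X] (hF : ∃ c : Fˣ, c ≠ 1) (hR : S.R.p = 2) {g : G}
    (hg : ∀ x ∈ S.PL.map j, g * x * g⁻¹ ∈ S.PL.map j) :
    ∃ y ∈ S.PL.map j, (∀ x ∈ (J S.XZ 1 8).map j, (y * g) * x * (y * g)⁻¹ ∈ (J S.XZ 1 8).map j) ∧
      ∀ x ∈ (T4 S).map j, (y * g) * x * (y * g)⁻¹ ∈ (T4 S).map j := by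
  refine normalise (syl_U S hj hF hR) (map_mono (T4_le_PL S)) ?_ ?_ ?_ hg
  · rintro _ ⟨t, ht, rfl⟩ _ ⟨u, hu, rfl⟩
    refine ⟨t * u * t⁻¹, S.T_conj_J (T4_le_T S ht) hu, by simp⟩
  · rw [Subgroup.card_map_of_injective hj]
    exact odd_T4 S
  · rintro _ ⟨x, hx, rfl⟩ h
    obtain ⟨u, hu, t, ht, e⟩ := norm_U_PL S hF hR hx (fun u hu => by
      obtain ⟨v, hv, e⟩ := h (j u) ⟨u, hu, rfl⟩
      have e2 : v = x * u * x⁻¹ := hj (by rw [e]; simp)
      rw [← e2]; exact hv)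
    exact ⟨j u, ⟨u, hu, rfl⟩, j t, ⟨t, ht, rfl⟩, by rw [e, map_mul]⟩

end map

end Cfsg.Agent.OddHalf.D4.TwF.Gnorm

end

-- merged: Cfsg.Agent.OddHalf.D4.TwF.Kill
section

/-!
# ODD D4, `K = ²F₄(q)`: an element `g` normalising `PL`, with `gAg⁻¹ ≤ A Z_4`, gives `|A| ≤ 2`
-/

set_option autoImplicit false
set_option linter.unusedSectionVars false

namespace Cfsg.Agent.OddHalf.D4.TwF.Kill

open Subgroup Cfsg.Agent.KFacts.TwF4 Cfsg.Agent.OddHalf.D4.TwF.Field Cfsg.Agent.OddHalf.D4.TwF.End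
open Cfsg.Agent.OddHalf.D4.TwF.QTwo Cfsg.Agent.OddHalf.D4.TwF.Mir Cfsg.Agent.OddHalf.D4.TwF.Norm
open Cfsg.Agent.OddHalf.D4.TwF.MkFam Cfsg.Agent.OddHalf.D4.TwF.Bone Cfsg.Agent.OddHalf.D4.TwF.KSide
open Cfsg.Agent.OddHalf.D4.TwF.Gnorm Cfsg.Agent.OddHalf.D4.Basic
open Cfsg.Agent.SplitTwo Cfsg.Agent.SplitTwo.ZS Cfsg.Agent.TitsThree.RankTwoZ Cfsg.Agent.TitsThree.RankTwoRGD
open Cfsg.Agent.SplitTwo.RootSysZ
open Cfsg.Agent.OddHalf.D4.CommConj (cj mem_cj cj_mul card_cj mem_cj_mul)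
open scoped commutatorElement

universe u

/-! ### transport by an injective homomorphism -/

section map

variable {F : Type*} [Field F] [CharP F 2] {σ τ : F →+* F} {X G : Type*} [Group X] [Group G]
variable {S : Sys σ X} {j : X →* G} (hj : Function.Injective j)

theorem q5_map (α β γ δ ε : F) : q5 (mapS S j hj) α β γ δ ε = j (q5 S α β γ δ ε) := by
  unfold q5
  simp only [mapS_e, mapS_o, map_mul]

theorem inQ_map {x : X} : InQ (mapS S j hj) (j x) ↔ InQ S x := by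
  constructor
  · rintro ⟨a, b, c, d, e, h⟩
    rw [q5_map] at h
    exact ⟨a, b, c, d, e, hj h⟩
  · rintro ⟨a, b, c, d, e, rfl⟩
    exact ⟨a, b, c, d, e, (q5_map hj a b c d e).symm⟩

theorem exists_of_inQ {y : G} (h : InQ (mapS S j hj) y) : ∃ x, InQ S x ∧ y = j x := by
  obtain ⟨a, b, c, d, e, rfl⟩ := h
  exact ⟨_, ⟨a, b, c, d, e, rfl⟩, q5_map hj a b c d e⟩

theorem kh_map {H Q : Subgroup X} (k : KH S H Q) : KH (mapS S j hj) (H.map j) (Q.map j) where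
  uniq := by
    intro α β γ δ ε α' β' γ' δ' ε' h
    rw [q5_map, q5_map] at h
    exact k.uniq _ _ _ _ _ _ _ _ _ _ (hj h)
  le := map_mono k.le
  o1 t := ⟨_, k.o1 t, rfl⟩
  o6 t := ⟨_, k.o6 t, rfl⟩
  o0 t := ⟨_, k.o0 t, rfl⟩
  o7 t := ⟨_, k.o7 t, rfl⟩
  e0 p u := ⟨_, k.e0 p u, rfl⟩
  e1 p u := ⟨_, k.e1 p u, rfl⟩
  e7 p u := ⟨_, k.e7 p u, rfl⟩
  e2 p u := ⟨_, k.e2 p u, rfl⟩
  e6 p u := ⟨_, k.e6 p u, rfl⟩
  cen := by
    rintro _ ⟨y, hy, rfl⟩ h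
    obtain ⟨p, u, h1⟩ := k.cen y hy (fun α β γ δ ε => by
      have := h α β γ δ ε
      rw [q5_map] at this
      show y * _ = _ * y
      apply hj
      rw [map_mul, map_mul]; exact this.eq)
    refine ⟨p, u, ?_⟩
    rw [mapS_e, ← map_inv, ← map_mul]
    exact (inQ_map hj).2 h1
  nor := by
    rintro _ ⟨y, hy, rfl⟩ x hx
    obtain ⟨x, hx', rfl⟩ := exists_of_inQ hj hx
    have := (inQ_map hj).2 (k.nor y hy x hx')
    rwa [map_mul, map_mul, map_inv] at this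
  lin := by
    rintro _ ⟨y, hy, rfl⟩
    obtain ⟨l1, l2, l3, l4, h⟩ := k.lin y hy
    refine ⟨l1, l2, l3, l4, fun α β γ δ ε => ?_⟩
    rw [q5_map, q5_map, ← h, map_mul, map_mul, map_inv]
  e0c := by
    rintro _ ⟨y, hy, rfl⟩ p u
    have := (inQ_map hj).2 (k.e0c y hy p u)
    rw [commutatorElement_def] at this ⊢
    simpa only [map_mul, map_inv, mapS_e] using this
  e0n p u h := k.e0n p u ((inQ_map hj).1 h)
  perf := by rw [← map_commutator, k.perf]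

theorem dl_map {dl : Fˣ → X} (D : Dl S dl) : Dl (mapS S j hj) (fun d => j (dl d)) where
  e0 d p u := by simp only [mapS_e, ← map_mul, ← map_inv, D.e0]
  o0 d t := by simp only [mapS_o, ← map_mul, ← map_inv, D.o0]
  o7 d t := by simp only [mapS_o, ← map_mul, ← map_inv, D.o7]
  e1 d p u := by simp only [mapS_e, ← map_mul, ← map_inv, D.e1]
  e7 d p u := by simp only [mapS_e, ← map_mul, ← map_inv, D.e7]
  o1 d t := by simp only [mapS_o, ← map_mul, ← map_inv, D.o1]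
  o6 d t := by simp only [mapS_o, ← map_mul, ← map_inv, D.o6]
  z2 d v := by simp only [mapS_e, ← map_mul, ← map_inv, D.z2]
  z6 d v := by simp only [mapS_e, ← map_mul, ← map_inv, D.z6]

theorem hx_map {hx : Fˣ → X} (D : Hx S hx) : Hx (mapS S j hj) (fun d => j (hx d)) where
  e0 d p u := by simp only [mapS_e, ← map_mul, ← map_inv, D.e0]
  o0 d t := by simp only [mapS_o, ← map_mul, ← map_inv, D.o0]
  o7 d t := by simp only [mapS_o, ← map_mul, ← map_inv, D.o7]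
  o1 d t := by simp only [mapS_o, ← map_mul, ← map_inv, D.o1]
  o6 d t := by simp only [mapS_o, ← map_mul, ← map_inv, D.o6]
  e1 d p u := by simp only [mapS_e, ← map_mul, ← map_inv, D.e1]
  e7 d p u := by simp only [mapS_e, ← map_mul, ← map_inv, D.e7]
  e2 d p u := by simp only [mapS_e, ← map_mul, ← map_inv, D.e2]
  e6 d p u := by simp only [mapS_e, ← map_mul, ← map_inv, D.e6]

end map

/-- the inverse of `σ` -/
theorem exists_inv {F : Type*} [Field F] [Finite F] {σ : F →+* F} (hσ : ∀ x, σ (σ x) = x ^ 2)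
    (hF : ∃ c : Fˣ, c ≠ 1) : ∃ τ : F →+* F, Inv σ τ := by
  have hb : Function.Bijective σ := Finite.injective_iff_bijective.1 σ.injective
  obtain ⟨c, hc⟩ := hF
  refine ⟨((RingEquiv.ofBijective σ hb).symm : F →+* F), hσ, fun x => ?_, fun x => ?_, c, c.ne_zero,
    fun h => hc (Units.ext h)⟩
  · exact (RingEquiv.ofBijective σ hb).symm_apply_apply x
  · exact (RingEquiv.ofBijective σ hb).apply_symm_apply x

/-! ### inner automorphisms -/

theorem aut_apply {X G : Type*} [Group X] [Group G] {j : X →* G} (hj : Function.Injective j) {y : G}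
    (hy : y ∈ normalizer (j.range : Set G)) (x : X) :
    j ((MulAut.congr (MonoidHom.ofInjective hj).symm (j.range.normalizerMonoidHom ⟨y, hy⟩)) x) = y * j x * y⁻¹ := by
  have h1 : ∀ k : ↥j.range, j ((MonoidHom.ofInjective hj).symm k) = k := by
    intro k
    have := (MonoidHom.ofInjective hj).apply_symm_apply k
    exact congrArg Subtype.val this
  show j ((MonoidHom.ofInjective hj).symm ((j.range.normalizerMonoidHom ⟨y, hy⟩) (MonoidHom.ofInjective hj x))) = _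
  rw [h1]
  rfl

/-- a 2-element normalising `K` lies in `K C(K)`, if the automorphisms of 2-power order are inner -/
theorem inner_of {X G : Type*} [Group X] [Group G] {j : X →* G} (hj : Function.Injective j)
    (hin : ∀ (α : MulAut X) (n : ℕ), α ^ 2 ^ n = 1 → ∃ x, α = MulAut.conj x) {y : G}
    (hy : y ∈ normalizer (j.range : Set G)) {n : ℕ} (hn : y ^ 2 ^ n = 1) :
    y ∈ j.range ⊔ centralizer (j.range : Set G) := by
  obtain ⟨x, hx⟩ := hin (MulAut.congr (MonoidHom.ofInjective hj).symm (j.range.normalizerMonoidHom ⟨y, hy⟩)) n (by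
    rw [← map_pow, ← map_pow]
    have : (⟨y, hy⟩ : ↥(normalizer (j.range : Set G))) ^ 2 ^ n = 1 := Subtype.ext hn
    rw [this, map_one, map_one])
  have h1 : (j x)⁻¹ * y ∈ centralizer (j.range : Set G) := by
    rw [mem_centralizer_iff]
    rintro _ ⟨z, rfl⟩
    have h2 := aut_apply hj hy z
    rw [hx, MulAut.conj_apply, map_mul, map_mul, map_inv] at h2
    calc j z * ((j x)⁻¹ * y) = (j x)⁻¹ * (j x * j z * (j x)⁻¹) * y := by group
      _ = (j x)⁻¹ * y * j z := by rw [h2]; group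
  have e : y = j x * ((j x)⁻¹ * y) := by group
  rw [e]
  exact mul_mem_sup ⟨x, rfl⟩ h1

/-! ### the conjugating element -/

section kill

variable {F : Type*} [Field F] [CharP F 2] [Finite F] {σ : F →+* F} {X : Type u} [Group X] [Finite X] (S : Full σ X)
variable {G : Type*} [Group G] {j : X →* G} (hj : Function.Injective j)

include hj

/-- normal 2-subgroups of `H` -/
theorem O2_G (hF : ∃ c : Fˣ, c ≠ 1) (hR : S.R.p = 2) {N : Subgroup G} (hN : N ≤ S.PL.map j)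
    (h2 : IsPGroup 2 ↥N) (hn : ∀ g ∈ S.PL.map j, ∀ x ∈ N, g * x * g⁻¹ ∈ N) : N ≤ S.Q.map j := by
  have h1 : N.comap j ≤ S.Q := by
    apply Perf.O2_PL S hF hR
    · intro x hx
      obtain ⟨y, hy, e⟩ := hN hx
      rw [← hj e]; exact hy
    · exact h2.comap_of_injective j hj
    · intro g hg x hx
      rw [mem_comap] at hx ⊢
      rw [map_mul, map_mul, map_inv]
      exact hn _ ⟨g, hg, rfl⟩ _ hx
  intro x hx
  obtain ⟨y, hy, rfl⟩ := hN hx
  exact ⟨y, h1 hx, rfl⟩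

variable [Finite G] {g : G}

theorem g_Q (hF : ∃ c : Fˣ, c ≠ 1) (hR : S.R.p = 2) (hg : ∀ x ∈ S.PL.map j, g * x * g⁻¹ ∈ S.PL.map j) :
    ∀ x ∈ S.Q.map j, g * x * g⁻¹ ∈ S.Q.map j := by
  have hg' := conj_inv_mem hg
  have h1 : cj g (S.Q.map j) ≤ S.Q.map j := by
    have hQ : S.Q ≤ S.PL := J_mono (by norm_num) (by norm_num)
    apply O2_G S hj hF hR
    · intro x hx
      have := hg _ (map_mono hQ (mem_cj.1 hx))
      have e : g * (g⁻¹ * x * g) * g⁻¹ = x := by group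
      rwa [e] at this
    · exact ((Perf.two_Q S hR).map j).map _
    · intro h hh x hx
      rw [mem_cj] at hx ⊢
      have h2 := hg' h hh
      have e : g⁻¹ * (h * x * h⁻¹) * g = (g⁻¹ * h * g) * (g⁻¹ * x * g) * (g⁻¹ * h * g)⁻¹ := by group
      rw [e]
      obtain ⟨a, ha, ea⟩ := h2
      obtain ⟨b, hb, eb⟩ := hx
      rw [← ea, ← eb]
      exact ⟨a * b * a⁻¹, Perf.Q_norm S ha hb, by simp⟩
  intro x hx
  exact h1 (mem_cj_mul hx)

omit [Finite G] in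
theorem g_Q2 (hQ : ∀ x ∈ S.Q.map j, g * x * g⁻¹ ∈ S.Q.map j) : ∀ x ∈ S.Q2.map j, g * x * g⁻¹ ∈ S.Q2.map j := by
  have h1 : S.Q2.map j = ⁅S.Q.map j, S.Q.map j⁆ := by rw [← map_commutator, Layers.comm_Q S]
  have h2 : ⁅S.Q.map j, S.Q.map j⁆ ≤ (⁅S.Q.map j, S.Q.map j⁆).comap (MulAut.conj g).toMonoidHom := by
    rw [commutator_le]
    intro a ha b hb
    rw [mem_comap]
    show g * ⁅a, b⁆ * g⁻¹ ∈ _
    have e : g * ⁅a, b⁆ * g⁻¹ = ⁅g * a * g⁻¹, g * b * g⁻¹⁆ := by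
      rw [commutatorElement_def, commutatorElement_def]; group
    rw [e]
    exact commutator_mem_commutator (hQ a ha) (hQ b hb)
  intro x hx
  rw [h1] at hx ⊢
  exact h2 hx

theorem g_Zc (hQ : ∀ x ∈ S.Q.map j, g * x * g⁻¹ ∈ S.Q.map j) (hg : ∀ x ∈ S.PL.map j, g * x * g⁻¹ ∈ S.PL.map j) :
    ∀ x ∈ (S.Zc 2).map j, g * x * g⁻¹ ∈ (S.Zc 2).map j := by
  have hQ' := conj_inv_mem hQ
  rintro _ ⟨z, hz, rfl⟩
  have hz' : z ∈ S.PL := by
    obtain ⟨u, rfl⟩ := hz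
    exact mem_J (S.mX4 0 u) (by norm_num) (by norm_num)
  obtain ⟨y, hy, e⟩ := hg _ ⟨z, hz', rfl⟩
  refine ⟨y, ?_, e⟩
  show y ∈ S.Zc 2
  rw [← S.centralizer_Q, mem_centralizer_iff]
  intro q hq
  apply hj
  rw [map_mul, map_mul, e]
  obtain ⟨q', hq', e'⟩ := hQ' _ ⟨q, hq, rfl⟩
  have h1 : j q' * j z = j z * j q' := by
    rw [← map_mul, ← map_mul]
    have hq'' : q' ∈ S.PL := (J_mono (by norm_num) (by norm_num) : S.Q ≤ S.PL) hq'
    rw [S.comm_PL hq'' hz]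
  have h2 : j q = g * j q' * g⁻¹ := by rw [e']; group
  calc j q * (g * j z * g⁻¹) = g * (j q' * j z) * g⁻¹ := by rw [h2]; group
    _ = g * j z * g⁻¹ * j q := by rw [h1, h2]; group

/-- **the element `h'`** -/
theorem hp (hF : ∃ c : Fˣ, c ≠ 1) (hR : S.R.p = 2) (hg : ∀ x ∈ S.PL.map j, g * x * g⁻¹ ∈ S.PL.map j)
    (hgT : ∀ x ∈ (T4 S).map j, g * x * g⁻¹ ∈ (T4 S).map j) (x0 : Fˣ) :
    Hp (mapS (sh S) j hj) (fun d => j (tdl S d)) (S.PL.map j) (S.Q.map j) (g * j (thx S x0) * g⁻¹) := by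
  have hQ := g_Q S hj hF hR hg
  have hQ2 := g_Q2 S hj hQ
  have hZ := g_Zc S hj hQ hg
  have hg' := conj_inv_mem hg
  have hQ' := conj_inv_mem hQ
  have hQ2' := conj_inv_mem hQ2
  have hZ' := conj_inv_mem hZ
  have hgT' := conj_inv_mem hgT
  have hT := thx_mem S x0
  have e1 : ∀ y : G, (g * j (thx S x0) * g⁻¹) * y * (g * j (thx S x0) * g⁻¹)⁻¹ =
      g * (j (thx S x0) * (g⁻¹ * y * g) * (j (thx S x0))⁻¹) * g⁻¹ := fun y => by group
  have hiff : ∀ y : G, InQ (mapS (sh S) j hj) y ↔ y ∈ S.Q2.map j := by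
    intro y
    constructor
    · intro h
      obtain ⟨x, hx, rfl⟩ := exists_of_inQ hj h
      exact ⟨x, (inQ_iff S).1 hx, rfl⟩
    · rintro ⟨x, hx, rfl⟩
      exact (inQ_map hj).2 ((inQ_iff S).2 hx)
  have hTJ : ∀ {a b : ℤ} (y : G), y ∈ (J S.XZ a b).map j → j (thx S x0) * y * (j (thx S x0))⁻¹ ∈ (J S.XZ a b).map j := by
    rintro a b _ ⟨y, hy, rfl⟩
    exact ⟨thx S x0 * y * (thx S x0)⁻¹, S.T_conj_J hT hy, by simp⟩
  refine ⟨fun y hy => ?_, fun u => ?_, fun d => ?_, fun y hy => ?_, fun y hy => ?_, fun y hy => ?_⟩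
  · rw [e1]
    rw [hiff] at hy ⊢
    apply hQ2
    obtain ⟨z, hz, e⟩ := hQ2' y hy
    rw [← e]
    have h3 : thx S x0 ∈ S.T := hT
    obtain ⟨a, b, c, d, e', hz'⟩ := (inQ_iff S).2 hz
    refine ⟨thx S x0 * z * (thx S x0)⁻¹, ?_, by simp⟩
    rw [hz']
    refine (inQ_iff S).1 ?_
    have hH := hxF S
    have e7 : (sh S).e 7 0 (x0 * σ x0 * a) = thx S x0 * (sh S).e 7 0 a * (thx S x0)⁻¹ := by rw [hH.e7, mul_zero]
    have e0 : (sh S).e 0 0 (σ x0 * (x0 * x0) * c) = thx S x0 * (sh S).e 0 0 c * (thx S x0)⁻¹ := by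
      rw [hH.e0, mul_zero]
    have e1 : (sh S).e 1 0 (x0 * σ x0 * e') = thx S x0 * (sh S).e 1 0 e' * (thx S x0)⁻¹ := by rw [hH.e1, mul_zero]
    refine ⟨x0 * σ x0 * a, x0 * σ x0 * b, σ x0 * (x0 * x0) * c, x0 * σ x0 * d, x0 * σ x0 * e', ?_⟩
    unfold q5
    rw [e7, e0, e1, ← hH.o7, ← hH.o0]; group
  · rw [e1]
    obtain ⟨z, hz, e⟩ := hZ' (j (S.e 2 0 u)) ⟨_, ⟨u, rfl⟩, rfl⟩
    have h2 : (mapS (sh S) j hj).e 0 0 u = j (S.e 2 0 u) := by rw [mapS_e, se0]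
    rw [h2, ← e]
    have h3 := hZ _ (show j (thx S x0) * j z * (j (thx S x0))⁻¹ ∈ (S.Zc 2).map j from
      ⟨thx S x0 * z * (thx S x0)⁻¹, S.T_conj_Zc hT hz, by simp⟩)
    obtain ⟨w, ⟨v, rfl⟩, ew⟩ := h3
    exact ⟨v, by rw [mapS_e, se0, ew]⟩
  · obtain ⟨t, ⟨d', rfl⟩, e⟩ := hgT' (j (tdl S d)) ⟨_, ⟨d, rfl⟩, rfl⟩
    have h1 : j (tdl S d) = g * j (tdl S d') * g⁻¹ := by
      have : j (tdl S d') = g⁻¹ * j (tdl S d) * g := e
      rw [this]; group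
    have h2 := (comm_hx_dl S x0 d').eq
    show g * j (thx S x0) * g⁻¹ * j (tdl S d) = j (tdl S d) * (g * j (thx S x0) * g⁻¹)
    rw [h1]
    calc g * j (thx S x0) * g⁻¹ * (g * j (tdl S d') * g⁻¹) = g * j (thx S x0 * tdl S d') * g⁻¹ := by
          rw [map_mul]; group
      _ = _ := by rw [h2, map_mul]; group
  · rw [e1]
    exact hg _ (hTJ _ (hg' y hy))
  · have e2 : dlt (g * j (thx S x0) * g⁻¹) y = g * dlt (j (thx S x0)) (g⁻¹ * y * g) * g⁻¹ := by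
      unfold dlt; group
    rw [e2]
    apply hQ
    obtain ⟨z, hz, e⟩ := hg' y hy
    rw [← e]
    exact ⟨dlt (thx S x0) z, mod_Q S x0 hz, by unfold dlt; simp⟩
  · rw [e1]
    exact hQ _ (hTJ _ (hQ' y hy))

omit [Finite F] [Finite X] in
/-- an element commuting with `A` and `Q₂` acts on `E₀` as an inner automorphism does -/
theorem hin {A : Subgroup G} (B : DblR.Amb j.range A) {t : G} (ht : t ∈ A) (ht1 : t ≠ 1)
    (hinn : ∀ (α : MulAut X) (n : ℕ), α ^ 2 ^ n = 1 → ∃ x, α = MulAut.conj x) (k : ∀ y : X,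
      (∀ α β γ δ ε, Commute y (q5 (sh S) α β γ δ ε)) → ∃ p u, InQ (sh S) (((sh S).e 0 p u)⁻¹ * y))
    (y : G) (hyA : ∀ r ∈ A, Commute y r) (h1 : ∀ x, Commute y ((mapS (sh S) j hj).e 7 0 x))
    (h2 : ∀ x, Commute y ((mapS (sh S) j hj).o 7 x)) (h3 : ∀ x, Commute y ((mapS (sh S) j hj).e 0 0 x))
    (h4 : ∀ x, Commute y ((mapS (sh S) j hj).o 0 x)) (h5 : ∀ x, Commute y ((mapS (sh S) j hj).e 1 0 x))
    (ψ : F → F) (hψ : ∀ p x, y * (mapS (sh S) j hj).e 0 p x * y⁻¹ =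
      (mapS (sh S) j hj).e 0 p x * (mapS (sh S) j hj).e 0 0 (ψ p)) : ∃ p', ∀ p, ψ p = p * σ p' + p' * σ p := by
  set S0 := mapS (sh S) j hj with hS0
  -- the 2-part of `y`
  have hy2 : ∀ p x, y ^ 2 * S0.e 0 p x = S0.e 0 p x * y ^ 2 := by
    intro p x
    have e1 : y * S0.e 0 p x = S0.e 0 p x * S0.e 0 0 (ψ p) * y := by rw [← hψ]; group
    have e2 : y * S0.e 0 0 (ψ p) = S0.e 0 0 (ψ p) * y := (h3 _).eq
    have e3 : S0.e 0 0 (ψ p) * S0.e 0 0 (ψ p) = 1 := End.z_sq S0 0 _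
    calc y ^ 2 * S0.e 0 p x = y * (y * S0.e 0 p x) := by rw [pow_two]; group
      _ = y * (S0.e 0 p x * S0.e 0 0 (ψ p) * y) := by rw [e1]
      _ = (y * S0.e 0 p x) * (S0.e 0 0 (ψ p) * y) := by group
      _ = (S0.e 0 p x * S0.e 0 0 (ψ p) * y) * (S0.e 0 0 (ψ p) * y) := by rw [e1]
      _ = S0.e 0 p x * S0.e 0 0 (ψ p) * (y * S0.e 0 0 (ψ p)) * y := by group
      _ = S0.e 0 p x * S0.e 0 0 (ψ p) * (S0.e 0 0 (ψ p) * y) * y := by rw [e2]
      _ = S0.e 0 p x * (S0.e 0 0 (ψ p) * S0.e 0 0 (ψ p)) * (y * y) := by simp only [mul_assoc]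
      _ = _ := by rw [e3, mul_one, pow_two]
  obtain ⟨a, m, hm, ham⟩ : ∃ a m : ℕ, Odd m ∧ y ^ (2 ^ a * m) = 1 := by
    have hpos : orderOf y ≠ 0 := (orderOf_pos y).ne'
    obtain ⟨a, m, hm, e⟩ := Nat.exists_eq_two_pow_mul_odd hpos
    exact ⟨a, m, hm, by rw [← e, pow_orderOf_eq_one]⟩
  obtain ⟨l, hl⟩ := hm
  set w := y ^ m with hw
  have hw2 : w ^ 2 ^ a = 1 := by rw [hw, ← pow_mul, mul_comm, ham]
  have hwe : ∀ p x, w * S0.e 0 p x * w⁻¹ = S0.e 0 p x * S0.e 0 0 (ψ p) := by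
    intro p x
    have e1 : w = y * (y ^ 2) ^ l := by rw [hw, hl, ← pow_mul, ← pow_succ']
    have c1 : Commute ((y ^ 2) ^ l) (S0.e 0 p x) := (show Commute (y ^ 2) (S0.e 0 p x) from hy2 p x).pow_left l
    calc w * S0.e 0 p x * w⁻¹ = y * ((y ^ 2) ^ l * S0.e 0 p x) * ((y ^ 2) ^ l)⁻¹ * y⁻¹ := by rw [e1]; group
      _ = y * S0.e 0 p x * y⁻¹ := by rw [c1.eq]; group
      _ = _ := hψ p x
  have hwn : w ∈ normalizer (j.range : Set G) := by
    have h6 : ∀ k ∈ j.range, w * k * w⁻¹ ∈ j.range :=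
      B.nor t ht ht1 w ((hyA t ht).pow_left m).eq
    rw [mem_normalizer_iff]
    intro x
    refine ⟨h6 x, fun hx => ?_⟩
    have := conj_inv_mem (U := j.range) h6 _ hx
    have e : w⁻¹ * (w * x * w⁻¹) * w = x := by group
    rwa [e] at this
  have h7 := inner_of hj hinn hwn hw2
  obtain ⟨k0, ⟨x, rfl⟩, c, hc, e⟩ : ∃ k0 ∈ j.range, ∃ c ∈ centralizer (j.range : Set G), w = k0 * c := by
    have h8 : w ∈ ((j.range ⊔ centralizer (j.range : Set G) : Subgroup G) : Set G) := h7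
    rw [coe_mul_of_right_le_normalizer_left] at h8
    · obtain ⟨k, hk, c, hc, e⟩ := h8
      exact ⟨k, hk, c, hc, e.symm⟩
    · exact centralizer_le_normalizer _
  have hcx : ∀ z : X, c * j z = j z * c := fun z => (mem_centralizer_iff.1 hc (j z) ⟨z, rfl⟩).symm
  have hact : ∀ z : X, w * j z * w⁻¹ = j (x * z * x⁻¹) := by
    intro z
    rw [e, map_mul, map_mul, map_inv]
    calc j x * c * j z * (j x * c)⁻¹ = j x * (c * j z) * c⁻¹ * (j x)⁻¹ := by group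
      _ = _ := by rw [hcx]; group
  have hcq : ∀ α β γ δ ε, Commute x (q5 (sh S) α β γ δ ε) := by
    intro α β γ δ ε
    have hyq : Commute y (q5 S0 α β γ δ ε) := by
      unfold q5
      exact ((((h1 α).mul_right (h2 β)).mul_right (h3 γ)).mul_right (h4 δ)).mul_right (h5 ε)
    have hwq : Commute w (q5 S0 α β γ δ ε) := hyq.pow_left m
    have h9 := hact (q5 (sh S) α β γ δ ε)
    rw [← q5_map hj, ← hS0, hwq.eq, mul_inv_cancel_right, hS0, q5_map hj] at h9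
    have h10 := hj h9
    show x * _ = _ * x
    calc x * q5 (sh S) α β γ δ ε = (x * q5 (sh S) α β γ δ ε * x⁻¹) * x := by group
      _ = _ := by rw [← h10]
  obtain ⟨p', u', a1, a2, a3, a4, a5, ha⟩ := k x hcq
  refine ⟨p', fun p => ?_⟩
  have hx : x = (sh S).e 0 p' u' * q5 (sh S) a1 a2 a3 a4 a5 := by rw [← ha]; group
  have h8 := hwe p 0
  have h9 := hact ((sh S).e 0 p 0)
  have h10 : j ((sh S).e 0 p 0) = S0.e 0 p 0 := rfl
  rw [h10, h8] at h9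
  have h11 : S0.e 0 p 0 * S0.e 0 0 (ψ p) = j ((sh S).e 0 p 0 * (sh S).e 0 0 (ψ p)) := by
    rw [map_mul]; rfl
  rw [h11] at h9
  have h12 := hj h9
  have h13 : (sh S).e 0 p' u' * q5 (sh S) a1 a2 a3 a4 a5 * (sh S).e 0 p 0 * ((sh S).e 0 p' u' * q5 (sh S) a1 a2 a3 a4 a5)⁻¹ =
      (sh S).e 0 p' u' * (sh S).e 0 p 0 * ((sh S).e 0 p' u')⁻¹ := by
    have c1 := (q5_e0 (sh S) a1 a2 a3 a4 a5 p 0).eq
    calc _ = (sh S).e 0 p' u' * (q5 (sh S) a1 a2 a3 a4 a5 * (sh S).e 0 p 0) * (q5 (sh S) a1 a2 a3 a4 a5)⁻¹ *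
          ((sh S).e 0 p' u')⁻¹ := by group
      _ = _ := by rw [← c1]; group
  rw [hx, h13] at h12
  have h14 : (sh S).e 0 p 0 * (sh S).e 0 0 (ψ p) * (sh S).e 0 p' u' = (sh S).e 0 p' u' * (sh S).e 0 p 0 := by
    rw [h12]; group
  rw [(sh S).e_mul, (sh S).e_mul, (sh S).e_mul, map_zero, mul_zero, add_zero, add_zero, add_zero, zero_add] at h14
  have h15 := ((sh S).injE 0 _ _ _ _ h14).2
  -- `ψ p + u' + p σ p' = u' + p' σ p`
  have h16 : ψ p = p * σ p' + p' * σ p := by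
    have e1 : ψ p + (u' + p * σ p' + (u' + p * σ p')) = (u' + p' * σ p) + (u' + p * σ p') := by
      rw [← h15]; ring
    rw [Field.add_self, add_zero] at e1
    rw [e1]
    have : u' + p' * σ p + (u' + p * σ p') = (u' + u') + (p * σ p' + p' * σ p) := by ring
    rw [this, Field.add_self, zero_add]
  exact h16

/-- **KILL** -/
theorem kill (hF : ∃ c : Fˣ, c ≠ 1) (hR : S.R.p = 2)
    (hinn : ∀ (α : MulAut X) (n : ℕ), α ^ 2 ^ n = 1 → ∃ x, α = MulAut.conj x) {A : Subgroup G}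
    (B : DblR.Amb j.range A) (hg : ∀ x ∈ S.PL.map j, g * x * g⁻¹ ∈ S.PL.map j)
    (hW : ∀ r ∈ A, ∃ b, r * j (S.e 2 0 b) ∈ cj g A) (hWA : ∀ r ∈ A, r ∈ cj g A → r = 1)
    (hWK : ∀ b, j (S.e 2 0 b) ∈ cj g A → b = 0) {t : G} (ht : t ∈ A) (ht1 : t ≠ 1) : ∀ r ∈ A, r = 1 ∨ r = t := by
  obtain ⟨y, hy, -, hyT⟩ := exists_norm S hj hF hR hg
  obtain ⟨τ, I⟩ := exists_inv S.sq hF
  obtain ⟨x0, u0, hx0⟩ := hx_move S hF
  have hg1 : ∀ x ∈ S.PL.map j, (y * g) * x * (y * g)⁻¹ ∈ S.PL.map j := by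
    intro x hx
    have e : (y * g) * x * (y * g)⁻¹ = y * (g * x * g⁻¹) * y⁻¹ := by group
    rw [e]
    exact mul_mem (mul_mem hy (hg x hx)) (inv_mem hy)
  have hyK : y ∈ j.range := by
    obtain ⟨z, -, rfl⟩ := hy
    exact ⟨z, rfl⟩
  have hyw : ∀ r ∈ A, ∀ b, y * (r * j (S.e 2 0 b)) * y⁻¹ = r * j (S.e 2 0 b) := by
    intro r hr b
    have h1 := B.comm r hr y hyK
    have h2 : y * j (S.e 2 0 b) = j (S.e 2 0 b) * y := by
      obtain ⟨z, hz, rfl⟩ := hy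
      rw [← map_mul, ← map_mul, S.comm_PL hz ⟨b, rfl⟩]
    calc y * (r * j (S.e 2 0 b)) * y⁻¹ = (y * r) * j (S.e 2 0 b) * y⁻¹ := by group
      _ = r * (y * j (S.e 2 0 b)) * y⁻¹ := by rw [← h1]; group
      _ = _ := by rw [h2]; group
  choose! β hβ using hW
  set S0 := mapS (sh S) j hj with hS0
  have hSz : ∀ b, S0.e 0 0 b = j (S.e 2 0 b) := by
    intro b
    rw [hS0, mapS_e, se0]
  have hAK : ∀ r ∈ A, ∀ x : X, Commute r (j x) := fun r hr x => B.comm r hr _ ⟨x, rfl⟩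
  have hβ1 : β 1 = 0 := by
    apply hWK
    have := hβ 1 (one_mem A)
    rwa [one_mul] at this
  have hβinj : ∀ r ∈ A, ∀ s ∈ A, β r = β s → r = s := by
    intro r hr s hs h
    have h1 := mul_mem (hβ r hr) (inv_mem (hβ s hs))
    have h2 : r * j (S.e 2 0 (β r)) * (s * j (S.e 2 0 (β s)))⁻¹ = r * s⁻¹ := by rw [h]; group
    rw [h2] at h1
    have h3 := hWA _ (mul_mem hr (inv_mem hs)) h1
    exact mul_inv_eq_one.1 h3
  have hβt : β t ≠ 0 := fun h => ht1 (hβinj t ht 1 (one_mem A) (by rw [h, hβ1]))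
  have hH : ∀ c, ∀ x ∈ S.PL.map j, (j (thx S c))⁻¹ * x * j (thx S c) ∈ S.PL.map j := by
    rintro c _ ⟨x, hx, rfl⟩
    refine ⟨(thx S c)⁻¹ * x * thx S c, ?_, by simp⟩
    have := S.T_conj_J (inv_mem (thx_mem S c)) hx
    rwa [inv_inv] at this
  obtain ⟨e0, nn, Dfam⟩ := exists_fam' (hp S hj hF hR hg1 hyT x0) (kh_map hj (kh S hF)) (dl_map hj (dlF S)) I
    (hx_map hj (hxF S)) (fun x d => (comm_hx_dl S x d).map j) hH (A := A) (fun r hr x => hAK r hr _)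
    (fun r hr a t => hAK r hr _) (fun r hr a p u => hAK r hr _) (fun r hr => hAK r hr _) (β := β) (t := t)
    (by
      intro r hr
      rw [← hS0, hSz]
      have h1 := hβ r hr
      rw [mem_cj] at h1
      set a := g⁻¹ * (r * j (S.e 2 0 (β r))) * g with ha
      have h2 : r * j (S.e 2 0 (β r)) = (y * g) * a * (y * g)⁻¹ := by
        have : (y * g) * a * (y * g)⁻¹ = y * (r * j (S.e 2 0 (β r))) * y⁻¹ := by rw [ha]; group
        rw [this, hyw r hr]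
      have h3 := (hAK a h1 (thx S x0)).eq
      rw [h2]
      show y * g * j (thx S x0) * (y * g)⁻¹ * (y * g * a * (y * g)⁻¹) = _
      calc y * g * j (thx S x0) * (y * g)⁻¹ * (y * g * a * (y * g)⁻¹) = y * g * (j (thx S x0) * a) * (y * g)⁻¹ := by group
        _ = _ := by rw [← h3]; group)
    (by
      -- `h'` moves an element of `Z_4`
      have hQ := g_Q S hj hF hR hg1
      have hZ := g_Zc S hj hQ hg1
      obtain ⟨z, ⟨v, rfl⟩, ev⟩ := hZ (j (S.e 2 0 u0)) ⟨_, ⟨u0, rfl⟩, rfl⟩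
      refine ⟨v, fun hcm => hx0 ?_⟩
      rw [← hS0, hSz] at hcm
      have h1 : j (S.e 2 0 v) = y * g * j (S.e 2 0 u0) * (y * g)⁻¹ := ev
      rw [h1] at hcm
      have h2 : j (thx S x0) * j (S.e 2 0 u0) = j (S.e 2 0 u0) * j (thx S x0) := by
        have h3 := hcm.eq
        have h4 : y * g * j (thx S x0) * (y * g)⁻¹ * (y * g * j (S.e 2 0 u0) * (y * g)⁻¹) =
            y * g * (j (thx S x0) * j (S.e 2 0 u0)) * (y * g)⁻¹ := by group
        have h5 : y * g * j (S.e 2 0 u0) * (y * g)⁻¹ * (y * g * j (thx S x0) * (y * g)⁻¹) =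
            y * g * (j (S.e 2 0 u0) * j (thx S x0)) * (y * g)⁻¹ := by group
        rw [h4, h5] at h3
        exact mul_left_cancel (mul_right_cancel h3)
      rw [← map_mul, ← map_mul] at h2
      rw [hj h2]; group) hβt
  have hfin := Dfam.eq_one_or_eq I B (fun a p u => ⟨_, rfl⟩) ht ht1 (div_self hβt)
    (fun r hr s hs h => hβinj r hr s hs (by
      have h' : β r / β t = β s / β t := h
      rwa [div_left_inj' hβt] at h'))
    (show β 1 / β t = 0 by rw [hβ1, zero_div])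
    (hin S hj B ht ht1 hinn (fun y h => by
      -- `C(Q₂) = Q₁`
      have h1 : y ∈ S.Q1 := by
        rw [← S.centralizer_Q2, Subgroup.mem_centralizer_iff]
        intro x hx
        obtain ⟨α, β, γ, δ, ε, rfl⟩ := (inQ_iff S).2 hx
        exact (h α β γ δ ε).eq.symm
      have h2 : y ∈ S.PL := J_mono (by norm_num) (by norm_num) (S.Q1_le_J h1)
      exact (kh S hF).cen y h2 h))
  exact hfin

end kill

end Cfsg.Agent.OddHalf.D4.TwF.Kill

end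

-- merged: Cfsg.Agent.OddHalf.D4.TwF.Pair
section

/-!
# ODD D4: full pairs when the centralizers of involutions of `K` are perfect

`XF X`: the facts on the simple group `X`; `SF K`: the same facts for a subgroup. `PP K L A W`: a full pair.
`PP.no_inv`: `K ∩ C(L)` contains no involution; `PP.cent_le`: for an involution `u = k a` of `W`, `k ∈ K`, `a ∈ A`:
`C_K(k) ≤ L`.
-/

set_option autoImplicit false
set_option linter.unusedSectionVars false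

namespace Cfsg.Agent.OddHalf.D4.TwF.Pair

open Subgroup Cfsg.Agent.OddHalf.D4 Cfsg.Agent.OddHalf.D4.Basic
open Cfsg.Agent.OddHalf.D4.CommConj (Tight cj mem_cj cj_mul card_cj mem_cj_mul)
open scoped commutatorElement

/-! ### the facts on the simple group -/

/-- the facts on `X` -/
structure XF (X : Type*) [Group X] : Prop where
  cen : ∀ x : X, (∀ y, x * y = y * x) → x = 1
  inner : ∀ (α : MulAut X) (n : ℕ), α ^ 2 ^ n = 1 → ∃ x, α = MulAut.conj x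
  perf : ∀ w : X, w ≠ 1 → w * w = 1 → ⁅centralizer {w}, centralizer {w}⁆ = centralizer {w}
  gen2 : ∀ w : X, w ≠ 1 → w * w = 1 → ∀ M : Subgroup X,
    (∀ x, x * w = w * x → (∃ n : ℕ, x ^ 2 ^ n = 1) → x ∈ M) → centralizer {w} ≤ M
  norm : ∀ w : X, w ≠ 1 → w * w = 1 → ∀ P ≤ centralizer {w},
    (∀ e ∈ centralizer {w}, ∀ x ∈ P, e * x * e⁻¹ ∈ P) → ⁅P, P⁆ = P → P = ⊥ ∨ P = centralizer {w}
  gen : ∀ N : Subgroup X, (∃ w ∈ N, w ≠ 1 ∧ w * w = 1) →
    (∀ w ∈ N, w ≠ 1 → w * w = 1 → centralizer {w} ≤ N) → N = ⊤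
  zc : ∀ w : X, w ≠ 1 → w * w = 1 → ∀ x : X, (∀ e, e * w = w * e → e * x = x * e) → x * x = 1

/-- the facts on the subgroup `K` -/
structure SF {G : Type*} [Group G] (K : Subgroup G) : Prop where
  cen : ∀ x ∈ K, x ∈ centralizer (K : Set G) → x = 1
  inner : ∀ y ∈ normalizer (K : Set G), (∃ n : ℕ, y ^ 2 ^ n = 1) → y ∈ K ⊔ centralizer (K : Set G)
  perf : ∀ w ∈ K, w ≠ 1 → w * w = 1 → ⁅K ⊓ centralizer {w}, K ⊓ centralizer {w}⁆ = K ⊓ centralizer {w}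
  gen2 : ∀ w ∈ K, w ≠ 1 → w * w = 1 → ∀ M : Subgroup G,
    (∀ x ∈ K, x * w = w * x → (∃ n : ℕ, x ^ 2 ^ n = 1) → x ∈ M) → K ⊓ centralizer {w} ≤ M
  norm : ∀ w ∈ K, w ≠ 1 → w * w = 1 → ∀ P ≤ K ⊓ centralizer {w},
    (∀ e ∈ K ⊓ centralizer {w}, ∀ x ∈ P, e * x * e⁻¹ ∈ P) → ⁅P, P⁆ = P → P = ⊥ ∨ P = K ⊓ centralizer {w}
  gen : ∀ N ≤ K, (∃ w ∈ N, w ≠ 1 ∧ w * w = 1) →
    (∀ w ∈ N, w ≠ 1 → w * w = 1 → K ⊓ centralizer {w} ≤ N) → N = K
  zc : ∀ w ∈ K, w ≠ 1 → w * w = 1 → ∀ x ∈ K, (∀ e ∈ K, e * w = w * e → e * x = x * e) → x * x = 1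

section transport

variable {X G : Type*} [Group X] [Group G] {j : X →* G} (hj : Function.Injective j)

include hj in
theorem range_inf_cent (w : X) : j.range ⊓ centralizer {j w} = (centralizer {w}).map j := by
  ext y
  constructor
  · rintro ⟨⟨x, rfl⟩, hx⟩
    have hx' := mem_centralizer_singleton_iff.1 hx
    rw [← map_mul, ← map_mul] at hx'
    exact ⟨x, mem_centralizer_singleton_iff.2 (hj hx'), rfl⟩
  · rintro ⟨x, hx, rfl⟩
    have hx' := mem_centralizer_singleton_iff.1 hx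
    exact ⟨⟨x, rfl⟩, mem_centralizer_singleton_iff.2 (by rw [← map_mul, ← map_mul, hx'])⟩

theorem map_comap_of_le {P : Subgroup G} (h : P ≤ j.range) : (P.comap j).map j = P := by
  rw [map_comap_eq, inf_eq_right.2 h]

include hj in
theorem sf_of_xf (h : XF X) : SF j.range where
  cen := by
    rintro _ ⟨x, rfl⟩ hx
    rw [mem_centralizer_iff] at hx
    rw [h.cen x fun y => hj (by rw [map_mul, map_mul, hx _ ⟨y, rfl⟩]), map_one]
  inner := by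
    rintro y hy ⟨n, hn⟩
    exact Kill.inner_of hj h.inner hy hn
  perf := by
    rintro _ ⟨w, rfl⟩ hw hww
    rw [range_inf_cent hj, ← map_commutator, h.perf w (fun h => hw (by rw [h, map_one]))
      (hj (by rw [map_mul, hww, map_one]))]
  gen2 := by
    rintro _ ⟨w, rfl⟩ hw hww M hM
    rw [range_inf_cent hj, map_le_iff_le_comap]
    refine h.gen2 w (fun h => hw (by rw [h, map_one])) (hj (by rw [map_mul, hww, map_one])) _ ?_
    rintro x hx ⟨n, hn⟩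
    exact hM _ ⟨x, rfl⟩ (by rw [← map_mul, hx, map_mul]) ⟨n, by rw [← map_pow, hn, map_one]⟩
  norm := by
    rintro _ ⟨w, rfl⟩ hw hww P hP hn hPP
    rw [range_inf_cent hj] at hP hn ⊢
    have h1 : (P.comap j).map j = P := map_comap_of_le (hP.trans (map_le_range _ _))
    have h2 := h.norm w (fun h => hw (by rw [h, map_one])) (hj (by rw [map_mul, hww, map_one])) (P.comap j) (by
      intro x hx
      obtain ⟨y, hy, e⟩ := hP (mem_comap.1 hx)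
      rw [← hj e]; exact hy) (by
      intro e he x hx
      rw [mem_comap, map_mul, map_mul, map_inv]
      exact hn _ ⟨e, he, rfl⟩ _ hx) (by
      apply map_injective hj
      rw [map_commutator, h1, hPP])
    rcases h2 with h2 | h2
    · left; rw [← h1, h2, Subgroup.map_bot]
    · right; rw [← h1, h2]
  gen := by
    rintro N hN ⟨w, hw, hw1, hww⟩ hc
    have h1 : (N.comap j).map j = N := map_comap_of_le hN
    obtain ⟨x, rfl⟩ := hN hw
    have h2 := h.gen (N.comap j) ⟨x, hw, fun h => hw1 (by rw [h, map_one]), hj (by rw [map_mul, hww, map_one])⟩ (by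
      intro w hw hw1 hww
      have h3 := hc (j w) hw (fun h => hw1 (hj (by rw [h, map_one]))) (by rw [← map_mul, hww, map_one])
      rw [range_inf_cent hj] at h3
      exact map_le_iff_le_comap.1 h3)
    rw [← h1, h2, ← MonoidHom.range_eq_map]
  zc := by
    rintro _ ⟨w, rfl⟩ hw hww _ ⟨x, rfl⟩ hx
    rw [← map_mul, h.zc w (fun h => hw (by rw [h, map_one])) (hj (by rw [map_mul, hww, map_one])) x (by
      intro e he
      apply hj
      rw [map_mul, map_mul]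
      exact hx _ ⟨e, rfl⟩ (by rw [← map_mul, he, map_mul])), map_one]

/-- `j` followed by the conjugation by `g` -/
def jc (j : X →* G) (g : G) : X →* G := (MulAut.conj g).toMonoidHom.comp j

theorem jc_apply (g : G) (x : X) : jc j g x = g * j x * g⁻¹ := rfl

include hj in
theorem jc_inj (g : G) : Function.Injective (jc j g) := by
  intro x y h
  rw [jc_apply, jc_apply] at h
  exact hj (mul_left_cancel (mul_right_cancel h))

theorem cj_map (g : G) (P : Subgroup X) : cj g (P.map j) = P.map (jc j g) := by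
  ext y
  rw [mem_cj]
  constructor
  · rintro ⟨x, hx, e⟩
    exact ⟨x, hx, by rw [jc_apply, e]; group⟩
  · rintro ⟨x, hx, rfl⟩
    exact ⟨x, hx, by rw [jc_apply]; group⟩

theorem cj_range (g : G) : cj g j.range = (jc j g).range := by
  rw [MonoidHom.range_eq_map, cj_map, ← MonoidHom.range_eq_map]

include hj in
theorem sf_cj (h : XF X) (g : G) : SF (cj g j.range) := by
  rw [cj_range]
  exact sf_of_xf (jc_inj hj g) h

end transport


/-! ### pairs -/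

/-- what is used of `K`; invariant under conjugation -/
structure Base {G : Type*} [Group G] (K : Subgroup G) : Prop where
  tight : TightAt K
  even : Even (Nat.card ↥(centralizer (K : Set G)))
  sf : ∀ g, SF (cj g K)
  nc : ∀ g, ¬ K ≤ centralizer ((cj g K : Subgroup G) : Set G)

/-- a full pair `K, L` with Sylow 2-subgroups `A` of `C(K)`, `W` of `C(L)` -/
structure PP {G : Type*} [Group G] (K L A W : Subgroup G) : Prop where
  base : Base K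
  fp : FullPair K L A W

section pair

variable {G : Type*} [Group G] [Finite G] {K L A W : Subgroup G}

theorem le_cent_symm {K L : Subgroup G} (h : K ≤ centralizer (L : Set G)) : L ≤ centralizer (K : Set G) := by
  intro x hx
  rw [mem_centralizer_iff]
  intro k hk
  exact (mem_centralizer_iff.1 (h hk) x hx).symm

theorem cj_one (K : Subgroup G) : cj 1 K = K := by
  ext x
  rw [mem_cj]; simp

theorem Base.cj (h : Base K) (x : G) : Base (CommConj.cj x K) where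
  tight := h.tight.cj x
  even := by rw [centralizer_cj, card_cj]; exact h.even
  sf g := by rw [← cj_mul]; exact h.sf _
  nc g hc := by
    apply h.nc (x⁻¹ * g * x)
    rw [centralizer_cj] at hc ⊢
    intro k hk
    have h1 := hc (mem_cj_mul (g := x) hk)
    rw [mem_cj, centralizer_cj, mem_cj] at h1
    rw [mem_cj]
    have e : x⁻¹ * (g⁻¹ * (x * k * x⁻¹) * g) * x = (x⁻¹ * g * x)⁻¹ * k * (x⁻¹ * g * x) := by group
    rwa [e] at h1

theorem PP.tK (h : PP K L A W) : TightAt K := h.base.tight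
theorem PP.eK (h : PP K L A W) : Even (Nat.card ↥(centralizer (K : Set G))) := h.base.even
theorem PP.sK (h : PP K L A W) : SF K := by have := h.base.sf 1; rwa [cj_one] at this
theorem PP.sL (h : PP K L A W) : SF L := by
  obtain ⟨g, _, rfl⟩ := h.fp.conj
  exact h.base.sf g
theorem PP.nc (h : PP K L A W) : ¬ K ≤ centralizer (L : Set G) := by
  obtain ⟨g, _, rfl⟩ := h.fp.conj
  exact h.base.nc g

theorem PP.symm (h : PP K L A W) : PP L K W A where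
  fp := h.fp.symm
  base := by
    obtain ⟨g, _, rfl⟩ := h.fp.conj
    exact h.base.cj g

theorem cj_isSyl {T C : Subgroup G} (h : IsSyl T C) (g : G) : IsSyl (cj g T) (cj g C) := h.cj g

/-- conjugation of pairs -/
theorem PP.conj (h : PP K L A W) (x : G) : PP (cj x K) (cj x L) (cj x A) (cj x W) where
  base := h.base.cj x
  fp := by
    obtain ⟨g, hg, hL⟩ := h.fp.conj
    refine ⟨⟨x * g * x⁻¹, ?_, ?_⟩, ?_, ?_, ?_⟩
    · intro h1
      rw [normalizer_cj, mem_cj] at h1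
      have e : x⁻¹ * (x * g * x⁻¹) * x = g := by group
      rw [e] at h1
      exact hg h1
    · rw [hL, ← cj_mul, ← cj_mul]
      congr 1; group
    · rw [centralizer_cj]; exact h.fp.sylQ.cj x
    · rw [centralizer_cj]; exact h.fp.sylU.cj x
    · intro q hq u hu
      have h1 := h.fp.comm _ (mem_cj.1 hq) _ (mem_cj.1 hu)
      have e1 : q * u = x * ((x⁻¹ * q * x) * (x⁻¹ * u * x)) * x⁻¹ := by group
      rw [e1, h1]; group

theorem PP.AL (h : PP K L A W) : A ≤ normalizer (L : Set G) := h.fp.leQ h.tK h.eK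
theorem PP.WK (h : PP K L A W) : W ≤ normalizer (K : Set G) := h.fp.leU h.tK h.eK

theorem two_zpowers {x : G} (h : ∃ n : ℕ, x ^ 2 ^ n = 1) : IsPGroup 2 ↥(zpowers x) := by
  obtain ⟨n, hn⟩ := h
  have : Fact (Nat.Prime 2) := ⟨Nat.prime_two⟩
  rw [IsPGroup.iff_card]
  obtain ⟨m, -, hm⟩ := (Nat.dvd_prime_pow Nat.prime_two).mp (orderOf_dvd_of_pow_eq_one hn)
  exact ⟨m, by rw [Nat.card_zpowers, hm]⟩

/-- a 2-element of `C(K)` commuting with `A` lies in `A` -/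
theorem mem_syl_of_comm {C T : Subgroup G} (hT : IsSyl T C) {c : G} (hc : c ∈ C) (h2 : ∃ n : ℕ, c ^ 2 ^ n = 1)
    (hcT : ∀ a ∈ T, c * a = a * c) : c ∈ T := by
  have hnor : zpowers c ≤ normalizer (T : Set G) := by
    rw [zpowers_le, mem_normalizer_iff]
    intro x
    have h0 : ∀ a ∈ T, c * a * c⁻¹ = a := fun a ha => by rw [hcT a ha]; group
    constructor
    · intro hx; rw [h0 x hx]; exact hx
    · intro hx
      have h1 := h0 _ hx
      have e : x = c * x * c⁻¹ := by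
        calc x = c⁻¹ * (c * x * c⁻¹) * c := by group
          _ = c⁻¹ * (c * (c * x * c⁻¹) * c⁻¹) * c := by rw [h1]
          _ = c * x * c⁻¹ := by group
      rw [e]; exact hx
  have h3 : IsPGroup 2 ↥(T ⊔ zpowers c) := hT.two.to_sup_of_normal_left' (two_zpowers h2) hnor
  exact hT.max _ h3 le_sup_left (sup_le hT.le (by rw [zpowers_le]; exact hc)) (mem_sup_right (mem_zpowers c))

/-- an involution as a power of a 2-element -/
theorem exists_pow_inv {x : G} (h2 : ∃ n : ℕ, x ^ 2 ^ n = 1) (hx : x ≠ 1) :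
    ∃ m : ℕ, x ^ m ≠ 1 ∧ x ^ m * x ^ m = 1 := by
  obtain ⟨n, hn⟩ := h2
  induction n with
  | zero => exact absurd (by simpa using hn) hx
  | succ n ih =>
    by_cases h : x ^ 2 ^ n = 1
    · exact ih h
    · exact ⟨2 ^ n, h, by rw [← pow_add, ← two_mul, ← pow_succ']; exact hn⟩

theorem orderOf_two {x : G} (h1 : x ≠ 1) (h2 : x * x = 1) : orderOf x = 2 :=
  orderOf_eq_prime (by rw [pow_two]; exact h2) h1

/-- no 2-element `≠ 1` lies in `C(K) ∩ C(L)` -/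
theorem PP.two_trivial (h : PP K L A W) {u : G} (hu : u ∈ centralizer (K : Set G))
    (huL : u ∈ centralizer (L : Set G)) (h2 : ∃ n : ℕ, u ^ 2 ^ n = 1) : u = 1 := by
  by_contra hne
  obtain ⟨m, h3, h4⟩ := exists_pow_inv h2 hne
  exact h.fp.noInv h.tK (pow_mem hu m) (pow_mem huL m) (orderOf_two h3 h4)

/-- decomposition of a 2-element of `N(K)` commuting with `A` -/
theorem PP.decomp (h : PP K L A W) {y : G} (hy : y ∈ normalizer (K : Set G)) (h2 : ∃ n : ℕ, y ^ 2 ^ n = 1)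
    (hA : ∀ a ∈ A, y * a = a * y) : ∃ k ∈ K, ∃ z ∈ A, (∀ a ∈ A, z * a = a * z) ∧ y = k * z := by
  obtain ⟨k, hk, c, hc, e⟩ := exists_decomp (h.sK.inner y hy h2)
  have hcA : ∀ a ∈ A, c * a = a * c := fun a ha => comm_of_decomp hk e (h.fp.sylQ.le ha) (hA a ha)
  obtain ⟨n, hn⟩ := h2
  exact ⟨k, hk, c, mem_syl_of_comm h.fp.sylQ hc ⟨n, pow_eq_one_of_decomp h.sK.cen hk hc e hn⟩ hcA, hcA, e⟩

/-- the centre of `A` -/
def ZA (A : Subgroup G) : Subgroup G := A ⊓ centralizer (A : Set G)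

theorem mem_ZA {A : Subgroup G} {z : G} : z ∈ ZA A ↔ z ∈ A ∧ ∀ a ∈ A, z * a = a * z := by
  unfold ZA
  rw [mem_inf, mem_centralizer_iff]
  exact ⟨fun h => ⟨h.1, fun a ha => (h.2 a ha).symm⟩, fun h => ⟨h.1, fun a ha => (h.2 a ha).symm⟩⟩

/-- the elements of the join of commuting subgroups -/
theorem mem_sup_comm {K Z : Subgroup G} (hKZ : ∀ k ∈ K, ∀ z ∈ Z, k * z = z * k) {x : G} (hx : x ∈ K ⊔ Z) :
    ∃ k ∈ K, ∃ z ∈ Z, x = k * z := by
  have h1 : x ∈ ((K ⊔ Z : Subgroup G) : Set G) := hx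
  rw [coe_mul_of_right_le_normalizer_left] at h1
  · obtain ⟨k, hk, z, hz, e⟩ := h1
    exact ⟨k, hk, z, hz, e.symm⟩
  · refine le_trans ?_ (centralizer_le_normalizer_self K)
    intro z hz
    rw [mem_centralizer_iff]
    exact fun k hk => hKZ k hk z hz

/-- **(1)** -/
theorem PP.step1 (h : PP K L A W) {E : Subgroup G} (hEK : E ≤ K) (hEL : E ≤ normalizer (L : Set G))
    (hEE : ⁅E, E⁆ = E) (hE2 : ∀ M : Subgroup G, (∀ x ∈ E, (∃ n : ℕ, x ^ 2 ^ n = 1) → x ∈ M) → E ≤ M) :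
    ∃ P : Subgroup G, P ≤ K ⊓ centralizer (L : Set G) ∧ ⁅P, P⁆ = P ∧
      (∀ c ∈ P, ∃ e ∈ E, ∃ l ∈ L, e = l * c) ∧ (∀ e ∈ E, ∃ l ∈ L, ∃ c ∈ P, e = l * c) := by
  have hinL : E ≤ L ⊔ centralizer (L : Set G) := hE2 _ fun x hx h2 => h.sL.inner x (hEL hx) h2
  obtain ⟨π, hπ, hπ'⟩ := exists_proj h.sL.cen
  let P : Subgroup G := (E.subgroupOf (L ⊔ centralizer (L : Set G))).map π
  have hPP : ⁅P, P⁆ = P := by
    have h3 : ⁅E.subgroupOf (L ⊔ centralizer (L : Set G)), E.subgroupOf (L ⊔ centralizer (L : Set G))⁆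
        = E.subgroupOf (L ⊔ centralizer (L : Set G)) := by
      apply Subgroup.map_injective (Subgroup.subtype_injective _)
      rw [Subgroup.map_commutator, subgroupOf_map_subtype, inf_eq_left.mpr hinL, hEE]
    show ⁅(E.subgroupOf _).map π, (E.subgroupOf _).map π⁆ = _
    rw [← Subgroup.map_commutator, h3]
  have hPC : P ≤ centralizer (L : Set G) := by
    rintro _ ⟨e, _, rfl⟩
    exact hπ e
  have hPe : ∀ c ∈ P, ∃ e ∈ E, ∃ l ∈ L, e = l * c := by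
    rintro _ ⟨e, he, rfl⟩
    obtain ⟨k, hk, e'⟩ := hπ' e
    exact ⟨e, mem_subgroupOf.1 he, k, hk, e'⟩
  have heP : ∀ e ∈ E, ∃ l ∈ L, ∃ c ∈ P, e = l * c := by
    intro e he
    obtain ⟨k, hk, e'⟩ := hπ' ⟨e, hinL he⟩
    exact ⟨k, hk, _, ⟨⟨e, hinL he⟩, mem_subgroupOf.2 he, rfl⟩, e'⟩
  have hPmem : ∀ l ∈ L, ∀ c ∈ centralizer (L : Set G), l * c ∈ E → c ∈ P := by
    intro l hl c hc he
    obtain ⟨l', hl', c', hc', e⟩ := heP _ he
    have := (decomp_unique h.sL.cen hl hc hl' (hPC hc') e).2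
    rwa [this]
  -- `P` commutes with `A`
  have hPA : ∀ c ∈ P, ∀ a ∈ A, c * a = a * c := by
    intro c hc a ha
    obtain ⟨e, he, l, hl, rfl⟩ := hPe c hc
    have haN := h.AL ha
    have h1 : a * l * a⁻¹ ∈ L := (mem_normalizer_iff.1 haN l).1 hl
    have h2 : a * c * a⁻¹ ∈ centralizer (L : Set G) := centralizer_conj_mem haN (hPC hc)
    have h3 : (l * c) * a = a * (l * c) := mem_centralizer_iff.1 (h.fp.sylQ.le ha) _ (hEK he)
    have h4 : (a * l * a⁻¹) * (a * c * a⁻¹) = l * c := by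
      calc (a * l * a⁻¹) * (a * c * a⁻¹) = (a * (l * c)) * a⁻¹ := by group
        _ = l * c := by rw [← h3]; group
    have h5 := (decomp_unique h.sL.cen h1 h2 hl (hPC hc) h4).2
    calc c * a = (a * c * a⁻¹) * a := by rw [h5]
      _ = a * c := by group
  -- `P ≤ N(K)`
  obtain ⟨t, htA, ht2⟩ := exists_inv_syl h.fp.sylQ h.eK
  have hPN : P ≤ normalizer (K : Set G) := fun c hc => h.tK.mem (h.fp.sylQ.le htA) ht2 (hPA c hc t htA)
  have hKZ : ∀ k ∈ K, ∀ z ∈ ZA A, k * z = z * k := fun k hk z hz =>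
    comm_of_cen hk (h.fp.sylQ.le (mem_ZA.1 hz).1)
  -- `P ≤ K Z(A)`
  have hP2 : ∀ M : Subgroup G, (∀ c ∈ P, (∃ n : ℕ, c ^ 2 ^ n = 1) → c ∈ M) → P ≤ M := by
    intro M hM
    have h3 : E ≤ L ⊔ (M ⊓ centralizer (L : Set G)) := by
      refine hE2 _ ?_
      rintro x hx ⟨n, hn⟩
      obtain ⟨l, hl, c, hc, rfl⟩ := heP x hx
      have hc2 := pow_eq_one_of_decomp h.sL.cen hl (hPC hc) rfl hn
      exact mul_mem (mem_sup_left hl) (mem_sup_right ⟨hM c hc ⟨n, hc2⟩, hPC hc⟩)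
    intro c hc
    obtain ⟨e, he, l, hl, rfl⟩ := hPe c hc
    obtain ⟨l', hl', c', hc', e'⟩ := mem_sup_comm (K := L) (Z := M ⊓ centralizer (L : Set G))
      (fun k hk z hz => comm_of_cen hk (mem_inf.1 hz).2) (h3 he)
    rw [(decomp_unique h.sL.cen hl (hPC hc) hl' hc'.2 e').2]
    exact hc'.1
  have hPKZ : P ≤ K ⊔ ZA A := by
    refine hP2 _ fun c hc h2 => ?_
    obtain ⟨k, hk, z, hz, hzA, rfl⟩ := h.decomp (hPN hc) h2 (hPA c hc)
    exact mul_mem (mem_sup_left hk) (mem_sup_right (mem_ZA.2 ⟨hz, hzA⟩))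
  have hPK : P ≤ K := by
    rw [← hPP, commutator_le]
    intro x hx y hy
    obtain ⟨k, hk, z, hz, rfl⟩ := mem_sup_comm hKZ (hPKZ hx)
    obtain ⟨k', hk', z', hz', rfl⟩ := mem_sup_comm hKZ (hPKZ hy)
    have h1 := hKZ k hk z' hz'
    have h2 := hKZ k' hk' z hz
    have h3 := hKZ k hk z hz
    have h4 := hKZ k' hk' z' hz'
    have h5 : z * z' = z' * z := (mem_ZA.1 hz).2 _ (mem_ZA.1 hz').1
    have e : ⁅k * z, k' * z'⁆ = ⁅k, k'⁆ := by
      rw [commutatorElement_def, commutatorElement_def]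
      have e1 : k * z * (k' * z') = (k * k') * (z * z') := by
        calc k * z * (k' * z') = k * (z * k') * z' := by group
          _ = _ := by rw [← h2]; group
      have e2 : k' * z' * (k * z) = (k' * k) * (z * z') := by
        calc k' * z' * (k * z) = k' * (z' * k) * z := by group
          _ = k' * k * (z' * z) := by rw [← h1]; group
          _ = _ := by rw [← h5]
      calc k * z * (k' * z') * (k * z)⁻¹ * (k' * z')⁻¹ = k * z * (k' * z') * (k' * z' * (k * z))⁻¹ := by group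
        _ = _ := by rw [e1, e2]; group
    rw [e, commutatorElement_def]
    exact mul_mem (mul_mem (mul_mem hk hk') (inv_mem hk)) (inv_mem hk')
  exact ⟨P, le_inf hPK hPC, hPP, hPe, heP⟩

/-- the elements of `C_K(w)` -/
theorem mem_Cw {K : Subgroup G} {w x : G} : x ∈ K ⊓ centralizer {w} ↔ x ∈ K ∧ x * w = w * x := by
  rw [mem_inf, mem_centralizer_singleton_iff]

theorem self_mem_Cw {K : Subgroup G} {w : G} (hw : w ∈ K) : w ∈ K ⊓ centralizer {w} := mem_Cw.2 ⟨hw, rfl⟩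

/-- **(2)** -/
theorem PP.no_inv (h : PP K L A W) {w : G} (hw : w ∈ K) (hwL : w ∈ centralizer (L : Set G)) (hww : w * w = 1) :
    w = 1 := by
  by_contra hw1
  have key : ∀ v ∈ K ⊓ centralizer (L : Set G), v ≠ 1 → v * v = 1 → K ⊓ centralizer {v} ≤
      K ⊓ centralizer (L : Set G) := by
    rintro v ⟨hv, hvL⟩ hv1 hvv
    have hEL : K ⊓ centralizer {v} ≤ normalizer (L : Set G) := fun x hx =>
      (h.fp.tightL h.tK).mem hvL (orderOf_two hv1 hvv) (mem_Cw.1 hx).2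
    obtain ⟨P, hP, hPP, hPe, heP⟩ := h.step1 (E := K ⊓ centralizer {v}) inf_le_left hEL (h.sK.perf v hv hv1 hvv)
      (fun M hM => h.sK.gen2 v hv hv1 hvv M fun x hx hxv h2 => hM x (mem_Cw.2 ⟨hx, hxv⟩) h2)
    have hPv : P ≤ K ⊓ centralizer {v} := by
      intro c hc
      obtain ⟨e, he, l, hl, rfl⟩ := hPe c hc
      exact mem_Cw.2 ⟨(hP hc).1, comm_of_decomp hl rfl hvL (mem_Cw.1 he).2⟩
    have hn : ∀ e ∈ K ⊓ centralizer {v}, ∀ x ∈ P, e * x * e⁻¹ ∈ P := by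
      intro e he x hx
      obtain ⟨l, hl, c, hc, rfl⟩ := heP e he
      have h1 : c * x * c⁻¹ ∈ P := mul_mem (mul_mem hc hx) (inv_mem hc)
      have h2 := comm_of_cen hl (hP h1).2
      have e1 : l * c * x * (l * c)⁻¹ = c * x * c⁻¹ := by
        calc l * c * x * (l * c)⁻¹ = (l * (c * x * c⁻¹)) * l⁻¹ := by group
          _ = c * x * c⁻¹ := by rw [h2]; group
      rw [e1]; exact h1
    have hvP : v ∈ P := by
      obtain ⟨l, hl, c, hc, e⟩ := heP v (self_mem_Cw hv)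
      have := (decomp_unique h.sL.cen (one_mem L) hvL hl (hP hc).2 (by rw [one_mul]; exact e)).2
      rwa [this]
    rcases h.sK.norm v hv hv1 hvv P hPv hn hPP with h1 | h1
    · rw [h1, mem_bot] at hvP
      exact absurd hvP hv1
    · rw [← h1]; exact hP
  have h1 := h.sK.gen (K ⊓ centralizer (L : Set G)) inf_le_left ⟨w, ⟨hw, hwL⟩, hw1, hww⟩ key
  exact h.nc (by rw [← h1]; exact inf_le_right)

theorem PP.no_two (h : PP K L A W) {w : G} (hw : w ∈ K) (hwL : w ∈ centralizer (L : Set G))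
    (h2 : ∃ n : ℕ, w ^ 2 ^ n = 1) : w = 1 := by
  by_contra hne
  obtain ⟨m, h3, h4⟩ := exists_pow_inv h2 hne
  exact h3 (h.no_inv (pow_mem hw m) (pow_mem hwL m) h4)

theorem IsSyl.pow_two {T C : Subgroup G} (h : IsSyl T C) {x : G} (hx : x ∈ T) : ∃ n : ℕ, x ^ 2 ^ n = 1 := by
  obtain ⟨n, hn⟩ := h.two ⟨x, hx⟩
  exact ⟨n, congrArg Subtype.val hn⟩

/-- decomposition of the elements of `W` -/
theorem PP.dec (h : PP K L A W) {u : G} (hu : u ∈ W) :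
    ∃ k ∈ K, ∃ z ∈ A, (∀ a ∈ A, z * a = a * z) ∧ u = k * z :=
  h.decomp (h.WK hu) (IsSyl.pow_two h.fp.sylU hu) fun a ha => (h.fp.comm a ha u hu).symm

/-- **(3)** -/
theorem PP.cent_le (h : PP K L A W) {u k z : G} (hu : u ∈ W) (hu1 : u ≠ 1) (huu : u * u = 1) (hk : k ∈ K)
    (hz : z ∈ A) (e : u = k * z) : k ≠ 1 ∧ k * k = 1 ∧ K ⊓ centralizer {k} ≤ L := by
  have hzC := h.fp.sylQ.le hz
  have hk1 : k ≠ 1 := by
    rintro rfl
    rw [one_mul] at e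
    rw [← e] at hzC
    exact hu1 (h.two_trivial hzC (h.fp.sylU.le hu) (IsSyl.pow_two h.fp.sylU hu))
  have hkz : Commute k z := comm_of_cen hk hzC
  have hkk : k * k = 1 := by
    have h1 : (k * k) * (z * z) = 1 * 1 := by
      rw [one_mul, ← huu, e]
      calc k * k * (z * z) = k * (k * z) * z := by group
        _ = k * (z * k) * z := by rw [hkz.eq]
        _ = _ := by group
    exact (decomp_unique h.sK.cen (mul_mem hk hk) (mul_mem hzC hzC) (one_mem _) (one_mem _) h1).1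
  have hEL : K ⊓ centralizer {k} ≤ normalizer (L : Set G) := by
    intro x hx
    refine (h.fp.tightL h.tK).mem (h.fp.sylU.le hu) (orderOf_two hu1 huu) ?_
    have h1 := comm_of_cen (mem_Cw.1 hx).1 hzC
    rw [e]
    calc x * (k * z) = (x * k) * z := by group
      _ = k * (x * z) := by rw [(mem_Cw.1 hx).2]; group
      _ = _ := by rw [h1]; group
  obtain ⟨P, hP, hPP, hPe, heP⟩ := h.step1 (E := K ⊓ centralizer {k}) inf_le_left hEL (h.sK.perf k hk hk1 hkk)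
    (fun M hM => h.sK.gen2 k hk hk1 hkk M fun x hx hxv h2 => hM x (mem_Cw.2 ⟨hx, hxv⟩) h2)
  refine ⟨hk1, hkk, ?_⟩
  refine h.sK.gen2 k hk hk1 hkk L ?_
  rintro x hx hxk ⟨n, hn⟩
  obtain ⟨l, hl, c, hc, e'⟩ := heP x (mem_Cw.2 ⟨hx, hxk⟩)
  have hc2 := pow_eq_one_of_decomp h.sL.cen hl (hP hc).2 e' hn
  have hc1 := h.no_two (hP hc).1 (hP hc).2 ⟨n, hc2⟩
  rw [e', hc1, mul_one]; exact hl

/-- the involutions of `W` exist -/
theorem PP.exists_inv (h : PP K L A W) : ∃ u ∈ W, u ≠ 1 ∧ u * u = 1 := by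
  obtain ⟨u, hu, hu2⟩ := exists_inv_syl h.fp.sylU h.symm.eK
  refine ⟨u, hu, fun h1 => ?_, ?_⟩
  · rw [h1, orderOf_one] at hu2; norm_num at hu2
  · rw [← _root_.pow_two, ← hu2, pow_orderOf_eq_one]

/-- the K-part of an element of `W` centralises `C_K(k)` for the K-part `k` of an involution of `W` -/
theorem PP.part_comm (h : PP K L A W) {u k z v k' z' : G} (hu : u ∈ W) (hu1 : u ≠ 1) (huu : u * u = 1) (hk : k ∈ K)
    (hz : z ∈ A) (e : u = k * z) (hv : v ∈ W) (hz' : z' ∈ A) (e' : v = k' * z') :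
    ∀ x ∈ K, x * k = k * x → x * k' = k' * x := by
  intro x hx hxk
  have hxL := (h.cent_le hu hu1 huu hk hz e).2.2 (mem_Cw.2 ⟨hx, hxk⟩)
  have h1 : x * v = v * x := comm_of_cen hxL (h.fp.sylU.le hv)
  have h2 : x * z' = z' * x := comm_of_cen hx (h.fp.sylQ.le hz')
  rw [e'] at h1
  have h3 : (x * k') * z' = (k' * x) * z' := by
    calc (x * k') * z' = x * (k' * z') := by group
      _ = k' * (z' * x) := by rw [h1]; group
      _ = _ := by rw [← h2]; group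
  exact mul_right_cancel h3

/-- `W` is elementary abelian -/
theorem PP.sq (h : PP K L A W) {v : G} (hv : v ∈ W) : v * v = 1 := by
  obtain ⟨u, hu, hu1, huu⟩ := h.exists_inv
  obtain ⟨k, hk, z, hz, hzA, e⟩ := h.dec hu
  obtain ⟨k', hk', z', hz', hzA', e'⟩ := h.dec hv
  obtain ⟨hk1, hkk, -⟩ := h.cent_le hu hu1 huu hk hz e
  have h1 : k' * k' = 1 := h.sK.zc k hk hk1 hkk k' hk' fun x hx hxk =>
    (h.part_comm hu hu1 huu hk hz e hv hz' e' x hx hxk)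
  have h2 : k' * z' = z' * k' := comm_of_cen hk' (h.fp.sylQ.le hz')
  have h3 : v * v = z' * z' := by
    rw [e']
    calc k' * z' * (k' * z') = k' * (z' * k') * z' := by group
      _ = (k' * k') * (z' * z') := by rw [← h2]; group
      _ = _ := by rw [h1, one_mul]
  refine h.two_trivial ?_ (h.fp.sylU.le (mul_mem hv hv)) (IsSyl.pow_two h.fp.sylU (mul_mem hv hv))
  rw [h3]
  exact h.fp.sylQ.le (mul_mem hz' hz')

/-- `K ∩ W = 1` -/
theorem PP.K_W (h : PP K L A W) {v : G} (hv : v ∈ W) (hvK : v ∈ K) : v = 1 :=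
  h.no_inv hvK (h.fp.sylU.le hv) (h.sq hv)

/-- `A ∩ W = 1` -/
theorem PP.A_W (h : PP K L A W) {v : G} (hv : v ∈ W) (hvA : v ∈ A) : v = 1 :=
  h.two_trivial (h.fp.sylQ.le hvA) (h.fp.sylU.le hv) ⟨1, by rw [pow_one, _root_.pow_two]; exact h.sq hv⟩

/-- every element of `A` is the `C(K)`-part of an element of `W` -/
theorem PP.surj (h : PP K L A W) : ∀ r ∈ A, ∃ v ∈ W, ∃ k ∈ K, v = k * r := by
  classical
  have hex : ∀ v : W, ∃ z : A, ∃ k ∈ K, (v : G) = k * z := by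
    rintro ⟨v, hv⟩
    obtain ⟨k, hk, z, hz, -, e⟩ := h.dec hv
    exact ⟨⟨z, hz⟩, k, hk, e⟩
  choose f k hk he using hex
  have hinj : Function.Injective f := by
    intro v v' hvv
    have h1 : (v : G) * (v' : G)⁻¹ = k v * (k v')⁻¹ := by
      rw [he v, he v', hvv]; group
    have h2 := h.K_W (mul_mem v.2 (inv_mem v'.2)) (by rw [h1]; exact mul_mem (hk v) (inv_mem (hk v')))
    exact Subtype.ext (mul_inv_eq_one.1 h2)
  have hcard : Nat.card W = Nat.card A := by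
    obtain ⟨g, _, hL⟩ := h.fp.conj
    -- `cj g A` is a Sylow subgroup of `C(L)`
    have h1 : IsSyl (cj g A) (centralizer (L : Set G)) := by
      rw [hL, centralizer_cj]; exact h.fp.sylQ.cj g
    obtain ⟨m, _, hm⟩ := h1.conj_into h.fp.sylU.two h.fp.sylU.le
    obtain ⟨m', _, hm'⟩ := h.fp.sylU.conj_into h1.two h1.le
    have e1 : Nat.card W ≤ Nat.card (cj g A) := by
      rw [← card_cj (g := m) (X := W)]
      apply Nat.card_le_card_of_injective (fun x : cj m W => (⟨x, by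
        have h2 := hm _ (mem_cj.1 x.2)
        have e : m * (m⁻¹ * (x : G) * m) * m⁻¹ = x := by group
        rwa [e] at h2⟩ : cj g A))
      intro x y hxy
      exact Subtype.ext (congrArg (fun z : cj g A => (z : G)) hxy)
    have e2 : Nat.card (cj g A) ≤ Nat.card W := by
      rw [← card_cj (g := m') (X := cj g A)]
      apply Nat.card_le_card_of_injective (fun x : cj m' (cj g A) => (⟨x, by
        have h2 := hm' _ (mem_cj.1 x.2)
        have e : m' * (m'⁻¹ * (x : G) * m') * m'⁻¹ = x := by group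
        rwa [e] at h2⟩ : W))
      intro x y hxy
      exact Subtype.ext (congrArg (fun z : W => (z : G)) hxy)
    rw [card_cj] at e1 e2
    omega
  have hbij : Function.Bijective f := (Nat.bijective_iff_injective_and_card f).2 ⟨hinj, hcard⟩
  intro r hr
  obtain ⟨v, hv⟩ := hbij.2 ⟨r, hr⟩
  exact ⟨v, v.2, k v, hk v, by rw [he v, hv]⟩

theorem cj_self {P : Subgroup G} {x : G} (hx : ∀ y ∈ P, x * y * x⁻¹ ∈ P) : cj x P = P := by
  have h1 : cj x P ≤ P := by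
    intro y hy
    have h2 := hx _ (mem_cj.1 hy)
    have e : x * (x⁻¹ * y * x) * x⁻¹ = y := by group
    rwa [e] at h2
  exact eq_of_le_of_card_ge h1 (by rw [card_cj])

theorem cj_of_comm {P : Subgroup G} {x : G} (hx : ∀ y ∈ P, x * y = y * x) : cj x P = P :=
  cj_self fun y hy => by rw [hx y hy]; simpa using hy

theorem PP.exists_g (h : PP K L A W) : ∃ g, L = cj g K ∧ W = cj g A := by
  obtain ⟨g, _, hL⟩ := h.fp.conj
  have h1 : IsSyl (cj g A) (centralizer (L : Set G)) := by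
    rw [hL, centralizer_cj]; exact h.fp.sylQ.cj g
  obtain ⟨m, hmC, hm⟩ := h1.conj_into h.fp.sylU.two h.fp.sylU.le
  -- `cj m W` is Sylow, contained in `cj g A`
  have h2 : cj m W ≤ cj g A := by
    intro x hx
    have h2 := hm _ (mem_cj.1 hx)
    have e : m * (m⁻¹ * x * m) * m⁻¹ = x := by group
    rwa [e] at h2
  have h3 : cj m (centralizer (L : Set G)) = centralizer (L : Set G) := cj_self fun y hy =>
    mul_mem (mul_mem hmC hy) (inv_mem hmC)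
  have h4 : IsSyl (cj m W) (centralizer (L : Set G)) := by
    have := h.fp.sylU.cj m
    rwa [h3] at this
  have h5 : cj g A = cj m W := le_antisymm (h4.max _ h1.two h2 h1.le) h2
  refine ⟨m⁻¹ * g, ?_, ?_⟩
  · rw [cj_mul, ← hL]
    exact (cj_of_comm fun y hy => (mem_centralizer_iff.1 (inv_mem hmC) y hy).symm).symm
  · rw [cj_mul, h5, cj_inv_cj]

/-- conjugation by an element of `K` -/
theorem PP.conjK (h : PP K L A W) {x : G} (hx : x ∈ K) : PP K (cj x L) A (cj x W) := by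
  have h1 := h.conj x
  rwa [cj_self fun y hy => mul_mem (mul_mem hx hy) (inv_mem hx),
    cj_of_comm (P := A) fun y hy => comm_of_cen hx (h.fp.sylQ.le hy)] at h1

end pair

end Cfsg.Agent.OddHalf.D4.TwF.Pair

end

-- merged: Cfsg.Agent.OddHalf.D4.TwF.XFacts
section

/-!
# ODD D4, `K = ²F₄(q)`: the facts `XF`
-/

set_option autoImplicit false
set_option linter.unusedSectionVars false

namespace Cfsg.Agent.OddHalf.D4.TwF.XFacts

open Subgroup Cfsg.Agent.KFacts.TwF4 Cfsg.Agent.OddHalf.D4.TwF.Pair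
open Cfsg.Agent.SplitTwo Cfsg.Agent.SplitTwo.ZS Cfsg.Agent.TitsThree.RankTwoZ Cfsg.Agent.TitsThree.RankTwoRGD
open Cfsg.Agent.SplitTwo.RootSysZ Cfsg.Agent.KFacts.TwF4.Inv
open Cfsg.Agent.OddHalf.D4.CommConj (cj mem_cj cj_mul card_cj mem_cj_mul)

universe u

variable {F : Type*} [Field F] {σ : F →+* F} {X : Type u} [Group X]

/-- the facts at `w` -/
structure Good (w : X) : Prop where
  perf : ⁅centralizer {w}, centralizer {w}⁆ = centralizer {w}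
  gen2 : ∀ M : Subgroup X, (∀ x, x * w = w * x → (∃ n : ℕ, x ^ 2 ^ n = 1) → x ∈ M) → centralizer {w} ≤ M
  norm : ∀ P ≤ centralizer {w}, (∀ e ∈ centralizer {w}, ∀ x ∈ P, e * x * e⁻¹ ∈ P) → ⁅P, P⁆ = P →
    P = ⊥ ∨ P = centralizer {w}
  zc : ∀ x : X, (∀ e, e * w = w * e → e * x = x * e) → x * x = 1

theorem cent_conj (k w : X) : centralizer {k * w * k⁻¹} = cj k (centralizer {w}) := by
  ext x
  rw [mem_cj, mem_centralizer_singleton_iff, mem_centralizer_singleton_iff]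
  constructor
  · intro h
    calc k⁻¹ * x * k * w = k⁻¹ * (x * (k * w * k⁻¹)) * k := by group
      _ = _ := by rw [h]; group
  · intro h
    calc x * (k * w * k⁻¹) = k * ((k⁻¹ * x * k) * w) * k⁻¹ := by group
      _ = _ := by rw [h]; group

theorem Good.conj {w : X} (h : Good w) (k : X) : Good (k * w * k⁻¹) where
  perf := by
    rw [cent_conj]
    show ⁅(centralizer {w}).map _, (centralizer {w}).map _⁆ = (centralizer {w}).map _
    rw [← map_commutator, h.perf]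
  gen2 := by
    intro M hM
    rw [cent_conj]
    have h1 : centralizer {w} ≤ cj k⁻¹ M := by
      refine h.gen2 _ ?_
      rintro x hx ⟨n, hn⟩
      rw [mem_cj, inv_inv]
      refine hM _ ?_ ⟨n, ?_⟩
      · calc k * x * k⁻¹ * (k * w * k⁻¹) = k * (x * w) * k⁻¹ := by group
          _ = _ := by rw [hx]; group
      · rw [conj_pow, hn]; group
    intro x hx
    have h2 := h1 (mem_cj.1 hx)
    rw [mem_cj, inv_inv] at h2
    have e : k * (k⁻¹ * x * k) * k⁻¹ = x := by group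
    rwa [e] at h2
  norm := by
    intro P hP hn hPP
    rw [cent_conj] at hP hn ⊢
    have h1 := h.norm (cj k⁻¹ P) (by
      intro x hx
      rw [mem_cj, inv_inv] at hx
      have h2 := mem_cj.1 (hP hx)
      have e : k⁻¹ * (k * x * k⁻¹) * k = x := by group
      rwa [e] at h2) (by
      intro e he x hx
      rw [mem_cj, inv_inv] at hx ⊢
      have h2 := hn _ (mem_cj_mul (g := k) he) _ hx
      have e : k * e * k⁻¹ * (k * x * k⁻¹) * (k * e * k⁻¹)⁻¹ = k * (e * x * e⁻¹) * k⁻¹ := by group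
      rwa [e] at h2) (by
      show ⁅P.map _, P.map _⁆ = P.map _
      rw [← map_commutator, hPP])
    have e : P = cj k (cj k⁻¹ P) := by
      rw [← cj_mul, mul_inv_cancel]
      ext x
      rw [mem_cj]; simp
    rcases h1 with h1 | h1
    · left; rw [e, h1]; exact Subgroup.map_bot _
    · right; rw [e, h1]
  zc := by
    intro x hx
    have h1 := h.zc (k⁻¹ * x * k) (by
      intro e he
      have h2 := hx (k * e * k⁻¹) (by
        calc k * e * k⁻¹ * (k * w * k⁻¹) = k * (e * w) * k⁻¹ := by group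
          _ = _ := by rw [he]; group)
      calc e * (k⁻¹ * x * k) = k⁻¹ * ((k * e * k⁻¹) * x) * k := by group
        _ = _ := by rw [h2]; group)
    calc x * x = k * (k⁻¹ * x * k * (k⁻¹ * x * k)) * k⁻¹ := by group
      _ = 1 := by rw [h1]; group

variable (S : Full σ X) [Finite F] [Finite X]

theorem PL_le {M : Subgroup X} (hR : S.R.p = 2) (hM : ∀ x ∈ S.PL, (∃ n : ℕ, x ^ 2 ^ n = 1) → x ∈ M) : S.PL ≤ M := by
  refine J_le fun k h1 h2 x hx => hM x (mem_J hx h1 h2) ?_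
  obtain ⟨n, hn⟩ := two_X S hR k ⟨x, hx⟩
  exact ⟨n, congrArg Subtype.val hn⟩

theorem HO_le {M : Subgroup X} (hR : S.R.p = 2) (hM : ∀ x ∈ S.HO, (∃ n : ℕ, x ^ 2 ^ n = 1) → x ∈ M) : S.HO ≤ M := by
  refine sup_le (sup_le ?_ ?_) ?_
  · intro x hx
    refine hM x (Perf.X1_HO S hx) ?_
    obtain ⟨n, hn⟩ := two_X S hR 1 ⟨x, hx⟩
    exact ⟨n, congrArg Subtype.val hn⟩
  · intro x hx
    refine hM x (Perf.X9_HO S hx) ?_
    obtain ⟨n, hn⟩ := two_X S hR 9 ⟨x, hx⟩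
    exact ⟨n, congrArg Subtype.val hn⟩
  · intro x hx
    refine hM x (Perf.NO_HO S hx) ?_
    obtain ⟨n, hn⟩ := Perf.two_NO S hR ⟨x, hx⟩
    exact ⟨n, congrArg Subtype.val hn⟩

theorem good_z (hF : ∃ c : Fˣ, c ≠ 1) (hR : S.R.p = 2) {z : X} (hz : z ∈ S.Zc 2) (hz1 : z ≠ 1) : Good z := by
  have hc := S.centralizer_z hz hz1
  refine ⟨?_, ?_, ?_, ?_⟩
  · rw [hc]; exact Perf.PL_perfect S hF
  · intro M hM
    rw [hc]
    refine PL_le S hR fun x hx h2 => hM x ?_ h2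
    rw [← hc] at hx
    exact mem_centralizer_singleton_iff.1 hx
  · rw [hc]; exact fun P h1 h2 h3 => Perf.PL_normal S hF hR h1 h2 h3
  · intro x hx
    have h1 : x ∈ S.Zc 2 := S.center_PL fun y hy => (hx y (by
      rw [← hc] at hy
      exact mem_centralizer_singleton_iff.1 hy)).symm
    obtain ⟨u, rfl⟩ := h1
    exact z_sq S _ _

theorem good_o (hF : ∃ c : Fˣ, c ≠ 1) (hR : S.R.p = 2) {s : F} (hs : s ≠ 0) : Good (S.o 2 s) := by
  have hc := S.centralizer_o hs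
  refine ⟨?_, ?_, ?_, ?_⟩
  · rw [hc]; exact Perf.HO_perfect S hF
  · intro M hM
    rw [hc]
    refine HO_le S hR fun x hx h2 => hM x ?_ h2
    rw [← hc] at hx
    exact mem_centralizer_singleton_iff.1 hx
  · rw [hc]; exact fun P h1 h2 h3 => Perf.HO_normal S hF hR h1 h2 h3
  · intro x hx
    have h0 : x ∈ S.HO := by
      rw [← hc, mem_centralizer_singleton_iff]
      exact (hx _ rfl).symm
    have h1 : x ∈ S.XZ 5 := S.center_HO h0 fun y hy => (hx y (by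
      rw [← hc] at hy
      exact mem_centralizer_singleton_iff.1 hy)).symm
    obtain ⟨u, rfl⟩ := S.X5 h1
    exact o_sq S _ _

/-- the two types of involutions -/
theorem types (hF : ∃ c : Fˣ, c ≠ 1) (hR : S.R.p = 2) {w : X} (hw : w ≠ 1) (hww : w * w = 1) :
    (∃ k : X, ∃ u : F, u ≠ 0 ∧ w = k * S.e 2 0 u * k⁻¹) ∨ (∃ k : X, ∃ s : F, s ≠ 0 ∧ w = k * S.o 2 s * k⁻¹) := by
  rcases SylU.classes S hF hR hww hw with ⟨u, hu, k, hk⟩ | ⟨t, ht, k, hk⟩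
  · left
    have h1 := S.rotk_e 2 0 0 u
    refine ⟨(S.rot ^ (2 : ℤ) * k)⁻¹, u, hu, ?_⟩
    have h2 : S.rot ^ (2 : ℤ) * S.e 0 0 u * (S.rot ^ (2 : ℤ))⁻¹ = S.e 2 0 u := h1
    rw [← h2, ← hk]; group
  · right
    have h1 := S.rotk_o 2 0 t
    refine ⟨(S.rot ^ (2 : ℤ) * k)⁻¹, t, ht, ?_⟩
    have h2 : S.rot ^ (2 : ℤ) * S.o 0 t * (S.rot ^ (2 : ℤ))⁻¹ = S.o 2 t := h1
    rw [← h2, ← hk]; group

theorem good (hF : ∃ c : Fˣ, c ≠ 1) (hR : S.R.p = 2) {w : X} (hw : w ≠ 1) (hww : w * w = 1) : Good w := by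
  rcases types S hF hR hw hww with ⟨k, u, hu, rfl⟩ | ⟨k, s, hs, rfl⟩
  · exact (good_z S hF hR ⟨u, rfl⟩ fun h => hu (S.e_eq_one h).2).conj k
  · exact (good_o S hF hR hs).conj k

/-- a subgroup containing an involution and the centralizers of its involutions -/
theorem eq_top_aux {N : Subgroup X} (hN : ∀ w ∈ N, w ≠ 1 → w * w = 1 → centralizer {w} ≤ N) (hP : S.PL ≤ N) : N = ⊤ := by
  have h3 : S.e 3 0 1 ∈ N := hP (mem_J (S.mX6 0 1) (by norm_num) (by norm_num))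
  have h31 : S.e 3 0 1 ≠ 1 := fun h => one_ne_zero (S.e_eq_one h).2
  have h4 := hN _ h3 h31 (z_sq S _ _)
  have h5 : centralizer {S.e 3 0 1} = J S.XZ (2 * 3 - 4) (2 * 3 + 4) := S.centralizer_Zc 3 ⟨1, rfl⟩ h31
  rw [h5] at h4
  exact eq_top_of S (fun x hx => hP (mem_J hx (by norm_num) (by norm_num)))
    (fun x hx => hP (mem_J hx (by norm_num) (by norm_num))) (fun x hx => hP (mem_J hx (by norm_num) (by norm_num)))
    (fun x hx => h4 (mem_J hx (by norm_num) (by norm_num)))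

theorem eq_top_gen (hF : ∃ c : Fˣ, c ≠ 1) (hR : S.R.p = 2) {N : Subgroup X} (hex : ∃ w ∈ N, w ≠ 1 ∧ w * w = 1)
    (hN : ∀ w ∈ N, w ≠ 1 → w * w = 1 → centralizer {w} ≤ N) : N = ⊤ := by
  obtain ⟨w, hw, hw1, hww⟩ := hex
  have key : ∀ k : X, S.PL ≤ cj k⁻¹ N → N = ⊤ := by
    intro k hk
    have h1 : cj k⁻¹ N = ⊤ := by
      refine eq_top_aux S ?_ hk
      intro w hw hw1 hww
      rw [mem_cj, inv_inv] at hw
      have h2 := hN _ hw (by
        intro h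
        apply hw1
        calc w = k⁻¹ * (k * w * k⁻¹) * k := by group
          _ = 1 := by rw [h]; group) (by
        calc k * w * k⁻¹ * (k * w * k⁻¹) = k * (w * w) * k⁻¹ := by group
          _ = 1 := by rw [hww]; group)
      rw [cent_conj] at h2
      intro x hx
      rw [mem_cj, inv_inv]
      exact h2 (mem_cj_mul hx)
    rw [eq_top_iff]
    intro x _
    have h3 : k⁻¹ * x * k ∈ cj k⁻¹ N := by rw [h1]; trivial
    rw [mem_cj, inv_inv] at h3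
    have e : k * (k⁻¹ * x * k) * k⁻¹ = x := by group
    rwa [e] at h3
  have key2 : ∀ k : X, ∀ u : F, u ≠ 0 → k * S.e 2 0 u * k⁻¹ ∈ N → N = ⊤ := by
    intro k u hu hm
    have hu1 : S.e 2 0 u ≠ 1 := fun h => hu (S.e_eq_one h).2
    refine key k ?_
    have h1 := hN _ hm (by
      intro h
      apply hu1
      calc S.e 2 0 u = k⁻¹ * (k * S.e 2 0 u * k⁻¹) * k := by group
        _ = 1 := by rw [h]; group) (by
      calc k * S.e 2 0 u * k⁻¹ * (k * S.e 2 0 u * k⁻¹) = k * (S.e 2 0 u * S.e 2 0 u) * k⁻¹ := by group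
        _ = 1 := by rw [z_sq S]; group)
    rw [cent_conj, S.centralizer_z ⟨u, rfl⟩ hu1] at h1
    intro x hx
    rw [mem_cj, inv_inv]
    exact h1 (mem_cj_mul hx)
  rcases types S hF hR hw1 hww with ⟨k, u, hu, rfl⟩ | ⟨k, s, hs, rfl⟩
  · exact key2 k u hu hw
  · have h1 := hN _ hw hw1 hww
    rw [cent_conj, S.centralizer_o hs] at h1
    refine key2 k 1 one_ne_zero (h1 (mem_cj_mul ?_))
    exact Perf.J37_HO S (mem_J (S.mX4 0 1) (by norm_num) (by norm_num))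

/-- **the facts `XF`** -/
theorem xf {m : ℕ} (hcard : Nat.card F = 2 ^ (2 * m + 1)) (hF : ∃ c : Fˣ, c ≠ 1) (hR : S.R.p = 2) : XF X where
  cen _ hx := OutTwo.center_eq_bot S hF fun g => (hx g).symm
  inner _ _ hn := OutTwo.inner S hcard hF hR hn
  perf _ hw hww := (good S hF hR hw hww).perf
  gen2 _ hw hww := (good S hF hR hw hww).gen2
  norm _ hw hww := (good S hF hR hw hww).norm
  gen _ := eq_top_gen S hF hR
  zc _ hw hww := (good S hF hR hw hww).zc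

end Cfsg.Agent.OddHalf.D4.TwF.XFacts

end

-- merged: Cfsg.Agent.OddHalf.D4.TwF.Types
section

/-!
# ODD D4, `K = ²F₄(q)`: pairs of type `Z` and of type `O` do not exist
-/

set_option autoImplicit false
set_option linter.unusedSectionVars false

namespace Cfsg.Agent.OddHalf.D4.TwF.Types

open Subgroup Cfsg.Agent.KFacts.TwF4 Cfsg.Agent.OddHalf.D4.TwF.Pair Cfsg.Agent.OddHalf.D4.TwF.XFacts
open Cfsg.Agent.SplitTwo Cfsg.Agent.SplitTwo.ZS Cfsg.Agent.TitsThree.RankTwoZ Cfsg.Agent.TitsThree.RankTwoRGD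
open Cfsg.Agent.SplitTwo.RootSysZ Cfsg.Agent.KFacts.TwF4.Inv Cfsg.Agent.OddHalf.D4 Cfsg.Agent.OddHalf.D4.Basic
open Cfsg.Agent.OddHalf.D4.TwF.Gnorm (conj_inv_mem)
open Cfsg.Agent.OddHalf.D4.CommConj (cj mem_cj cj_mul card_cj mem_cj_mul)

universe u

section X

variable {F : Type*} [Field F] {σ : F →+* F} {X : Type u} [Group X]
variable (S : Full σ X) [Finite F] [Finite X]

theorem isSyl_U (hF : ∃ c : Fˣ, c ≠ 1) (hR : S.R.p = 2) : IsSyl (J S.XZ 1 8) (⊤ : Subgroup X) := by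
  obtain ⟨P, hP⟩ := SylU.exists_sylow S hF hR
  refine ⟨?_, le_top, ?_⟩
  · rw [← hP]; exact P.2
  · intro Q hQ hle _
    rw [← hP] at hle ⊢
    exact (P.3 hQ hle).le

/-- `|C(Z_4)| ≠ |C(X_5)|` -/
theorem card_ne (hF : ∃ c : Fˣ, c ≠ 1) (hR : S.R.p = 2) : Nat.card S.PL ≠ Nat.card S.HO := by
  intro hcard
  have : Fact (Nat.Prime 2) := ⟨Nat.prime_two⟩
  have hU := isSyl_U S hF hR
  obtain ⟨n, hn⟩ := IsPGroup.iff_card.1 hU.two
  have hdvd : 2 ^ n ∣ Nat.card S.HO := by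
    rw [← hcard, ← hn]
    exact card_dvd_of_le (J_mono (by norm_num) le_rfl)
  obtain ⟨V, hV⟩ := Sylow.exists_subgroup_card_pow_prime 2 hdvd
  have hV2 : Nat.card (V.map S.HO.subtype) = 2 ^ n := by
    rw [card_map_of_injective (subtype_injective _), hV]
  obtain ⟨x, -, hx⟩ := hU.conj_into (Q := V.map S.HO.subtype) (IsPGroup.iff_card.2 ⟨n, hV2⟩) le_top
  have h1 : cj x (V.map S.HO.subtype) ≤ J S.XZ 1 8 := by
    intro y hy
    have h2 := hx _ (mem_cj.1 hy)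
    have e : x * (x⁻¹ * y * x) * x⁻¹ = y := by group
    rwa [e] at h2
  have h2 : cj x (V.map S.HO.subtype) = J S.XZ 1 8 := eq_of_le_of_card_ge h1 (by rw [card_cj, hV2, hn])
  have h3 : x * S.o 2 1 * x⁻¹ ∈ S.Zc 2 := by
    rw [← S.centralizer_Q, mem_centralizer_iff]
    intro q hq
    have hq8 : q ∈ J S.XZ 1 8 := J_mono le_rfl (by norm_num) hq
    rw [← h2, mem_cj] at hq8
    obtain ⟨v, hv, e⟩ := hq8
    have e' : x⁻¹ * q * x = v := e.symm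
    have h4 : S.o 2 1 * (v : X) = v * S.o 2 1 := mem_centralizer_iff.1 (S.HO_le_cent v.2) _ (S.mX5 1)
    calc q * (x * S.o 2 1 * x⁻¹) = x * ((x⁻¹ * q * x) * S.o 2 1) * x⁻¹ := by group
      _ = x * (S.o 2 1 * (x⁻¹ * q * x)) * x⁻¹ := by rw [e', h4]
      _ = _ := by group
  exact S.not_conj h3 one_ne_zero x⁻¹ (by group)

/-- `[V, C(X_5)] ≤ Z_4 Z_6` -/
theorem V5_comm {v h : X} (hv : v ∈ S.V5) (hh : h ∈ S.HO) : v⁻¹ * (h * v * h⁻¹) ∈ S.W46 := by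
  obtain ⟨a, s, b, rfl⟩ := S.mem_V5.1 hv
  have hy : S.o 2 s ∈ J S.XZ 1 9 := mem_J (S.mX5 s) (by norm_num) (by norm_num)
  have hs : h * S.o 2 s * h⁻¹ = S.o 2 s := by
    have h4 : S.o 2 s * h = h * S.o 2 s := mem_centralizer_iff.1 (S.HO_le_cent hh) _ (S.mX5 s)
    rw [← h4]; group
  have hW := Perf.HO_le_J S hh
  have h1 := S.W46_conj hW (S.Z4_W46 a)
  have h2 := S.W46_conj hW (S.Z6_W46 b)
  have h3 : (S.e 2 0 a)⁻¹ * (h * S.e 2 0 a * h⁻¹) ∈ S.W46 := mul_mem (inv_mem (S.Z4_W46 a)) h1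
  have h4 := S.W46_conj (inv_mem hy) h3
  rw [inv_inv] at h4
  have e : (S.e 2 0 a * S.o 2 s * S.e 3 0 b)⁻¹ * (h * (S.e 2 0 a * S.o 2 s * S.e 3 0 b) * h⁻¹) =
      (S.e 3 0 b)⁻¹ * ((S.o 2 s)⁻¹ * ((S.e 2 0 a)⁻¹ * (h * S.e 2 0 a * h⁻¹)) * S.o 2 s) *
        (h * S.e 3 0 b * h⁻¹) := by
    calc _ = (S.e 3 0 b)⁻¹ * ((S.o 2 s)⁻¹ * ((S.e 2 0 a)⁻¹ * (h * S.e 2 0 a * h⁻¹)) * (h * S.o 2 s * h⁻¹)) *
        (h * S.e 3 0 b * h⁻¹) := by group
      _ = _ := by rw [hs]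
  rw [e]
  exact mul_mem (mul_mem (inv_mem (S.Z6_W46 b)) h4) h2

omit [Finite F] [Finite X] in
theorem o0_z3 (t v : F) : S.o 0 t * S.e 3 0 v * (S.o 0 t)⁻¹ = S.e 3 0 v * S.e 2 0 (t * v) := by
  have h1 : S.o 0 t * S.e 3 0 v = S.e 3 0 v * S.o 0 t * S.e 2 0 (t * v) := by
    have h := S.o_e3 0 t 0 v
    rw [map_zero, mul_zero, mul_zero, mul_zero, zero_add (t * v)] at h
    have h' : S.o 0 t * S.e 3 0 v = S.e 3 0 v * S.o 0 t * S.e 1 0 0 * S.o 1 0 * S.e 2 0 (t * v) := h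
    rw [S.e_zero, S.o_zero, mul_one, mul_one] at h'
    exact h'
  have h2 : S.o 0 t * S.e 2 0 (t * v) = S.e 2 0 (t * v) * S.o 0 t :=
    S.comm_Z4 (k := 1) (by norm_num) (by norm_num) (S.mX1 t) _
  rw [h1, mul_assoc (S.e 3 0 v), h2]; group

omit [Finite F] [Finite X] in
/-- the elements of `Z_4 Z_6` are conjugate to elements of `Z_4` -/
theorem W46_type {x : X} (hx : x ∈ S.W46) (hx1 : x ≠ 1) : ∃ k : X, ∃ u : F, u ≠ 0 ∧ x = k * S.e 2 0 u * k⁻¹ := by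
  obtain ⟨u, v, rfl⟩ := hx
  by_cases hv : v = 0
  · subst hv
    rw [S.e_zero, mul_one] at hx1 ⊢
    refine ⟨1, u, ?_, by simp⟩
    rintro rfl
    exact hx1 (S.e_zero _)
  · have h1 := o0_z3 S (u / v) v
    rw [div_mul_cancel₀ _ hv] at h1
    have h2 : S.n1 * S.e 2 0 v * S.n1⁻¹ = S.e 3 0 v := S.n1_e 2 0 v
    have h3 : S.e 2 0 u * S.e 3 0 v = S.e 3 0 v * S.e 2 0 u :=
      (S.comm_Z4 (k := 6) (by norm_num) (by norm_num) (S.mX6 0 v) u).symm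
    refine ⟨S.o 0 (u / v) * S.n1, v, hv, ?_⟩
    rw [h3, ← h1, ← h2]; group

omit [Finite F] [Finite X] in
/-- `e_1(1, 0)` moves `X_5` -/
theorem e1_o2 (s : F) : S.e 1 1 0 * S.o 2 s * (S.e 1 1 0)⁻¹ = S.o 2 s * S.e 2 0 s := by
  have h1 : S.e 1 1 0 * S.o 2 s = S.o 2 s * S.e 1 1 0 * S.e 2 0 s := by
    have h := S.e_o1 1 1 0 s
    rw [one_mul] at h
    exact h
  have h2 : S.e 1 1 0 * S.e 2 0 s = S.e 2 0 s * S.e 1 1 0 :=
    S.comm_Z4 (k := 2) (by norm_num) (by norm_num) (S.mX2 1 0) _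
  rw [h1, mul_assoc (S.o 2 s), h2]; group

omit [Finite F] [Finite X] in
/-- `z_2(s) = z_3(1)⁻¹ o_0(s) z_3(1) o_0(s)⁻¹` -/
theorem z2_comm (s : F) : S.e 2 0 s = (S.e 3 0 1)⁻¹ * (S.o 0 s * S.e 3 0 1 * (S.o 0 s)⁻¹) := by
  rw [o0_z3, mul_one]; group

end X

section G

variable {F : Type*} [Field F] [CharP F 2] {σ : F →+* F} {X : Type u} [Group X]
variable (S : Full σ X) [Finite F] [Finite X]
variable {G : Type*} [Group G] [Finite G] {j : X →* G} (hj : Function.Injective j) {L A W : Subgroup G}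

include hj in
/-- **the second centralizer**: `C_K(k) = C_L(l)` -/
theorem match_cent (h : PP j.range L A W) {x0 : X} {z : G} (hu : j x0 * z ∈ W) (hu1 : j x0 * z ≠ 1) (hz : z ∈ A) :
    ∃ (g : G) (x' : X), L = cj g j.range ∧ W = cj g A ∧ x' ≠ 1 ∧ x' * x' = 1 ∧
      cj g ((centralizer {x'}).map j) = (centralizer {x0}).map j := by
  obtain ⟨g, hL, hW⟩ := h.exists_g
  have hc := h.cent_le hu hu1 (h.sq hu) ⟨x0, rfl⟩ hz rfl
  obtain ⟨t, ht, ht1, htt⟩ := h.symm.exists_inv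
  obtain ⟨l, hl, w, hw, -, e⟩ := h.symm.dec ht
  have hc' := h.symm.cent_le ht ht1 htt hl hw e
  have hl' := hl
  rw [hL, mem_cj] at hl'
  obtain ⟨x', hx'⟩ := hl'
  have hl1 : l = g * j x' * g⁻¹ := by rw [hx']; group
  refine ⟨g, x', hL, hW, ?_, ?_, ?_⟩
  · rintro rfl
    apply hc'.1
    rw [hl1, map_one]; group
  · apply hj
    rw [map_mul, map_one]
    calc j x' * j x' = g⁻¹ * (l * l) * g := by rw [hl1]; group
      _ = 1 := by rw [hc'.2.1]; group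
  · rw [← range_inf_cent hj, ← range_inf_cent hj]
    have h1 : cj g (j.range ⊓ centralizer {j x'}) = L ⊓ centralizer {l} := by
      ext y
      rw [mem_cj, mem_Cw, mem_Cw, hL, mem_cj]
      refine and_congr_right fun _ => ?_
      rw [hl1]
      constructor
      · intro h1
        calc y * (g * j x' * g⁻¹) = g * (g⁻¹ * y * g * j x') * g⁻¹ := by group
          _ = _ := by rw [h1]; group
      · intro h1
        calc g⁻¹ * y * g * j x' = g⁻¹ * (y * (g * j x' * g⁻¹)) * g := by group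
          _ = _ := by rw [h1]; group
    rw [h1]
    apply le_antisymm
    · intro y hy
      have hyK := hc'.2.2 hy
      have hyL := (mem_Cw.1 hy).1
      refine mem_Cw.2 ⟨hyK, ?_⟩
      have h2 : y * (j x0 * z) = (j x0 * z) * y := comm_of_cen hyL (h.fp.sylU.le hu)
      have h3 : y * z = z * y := comm_of_cen hyK (h.fp.sylQ.le hz)
      have h4 : (y * j x0) * z = (j x0 * y) * z := by
        calc (y * j x0) * z = y * (j x0 * z) := by group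
          _ = j x0 * (z * y) := by rw [h2]; group
          _ = _ := by rw [← h3]; group
      exact mul_right_cancel h4
    · intro y hy
      have hyL := hc.2.2 hy
      have hyK := (mem_Cw.1 hy).1
      refine mem_Cw.2 ⟨hyL, ?_⟩
      have h2 : y * t = t * y := comm_of_cen hyK (h.fp.sylQ.le ht)
      have h3 : y * w = w * y := comm_of_cen hyL (h.fp.sylU.le hw)
      rw [e] at h2
      have h4 : (y * l) * w = (l * y) * w := by
        calc (y * l) * w = y * (l * w) := by group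
          _ = l * (w * y) := by rw [h2]; group
          _ = _ := by rw [← h3]; group
      exact mul_right_cancel h4

/-- the `K`-parts of the elements of `W` -/
theorem part (h : PP j.range L A W) {x0 : X} {z : G} (hu : j x0 * z ∈ W) (hu1 : j x0 * z ≠ 1) (hz : z ∈ A) {r : G}
    (hr : r ∈ A) : ∃ y : X, r * j y ∈ W ∧ ∀ x, x * x0 = x0 * x → j (x * y) = j (y * x) := by
  obtain ⟨v, hv, k, ⟨y, rfl⟩, e⟩ := h.surj r hr
  refine ⟨y, ?_, ?_⟩
  · have h1 : j y * r = r * j y := comm_of_cen (K := j.range) ⟨y, rfl⟩ (h.fp.sylQ.le hr)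
    rw [← h1, ← e]; exact hv
  · intro x hx
    rw [map_mul, map_mul]
    refine h.part_comm hu hu1 (h.sq hu) ⟨x0, rfl⟩ hz rfl hv hr e _ ⟨x, rfl⟩ ?_
    rw [← map_mul, hx, map_mul]

theorem amb (h : PP j.range L A W) : DblR.Amb j.range A where
  tt _ ht := h.symm.sq ht
  comm _ ht _ hk := (comm_of_cen hk (h.fp.sylQ.le ht)).symm
  nor _ ht ht1 _ hg k hk :=
    (mem_normalizer_iff.1 (h.tK.mem (h.fp.sylQ.le ht) (orderOf_two ht1 (h.symm.sq ht)) hg) k).1 hk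
  ctr k hk hc := h.sK.cen k hk (mem_centralizer_iff.2 fun x hx => (hc x hx).symm)

include hj in
/-- **type `Z`** -/
theorem false_Z1 (hxf : XF X) (hF : ∃ c : Fˣ, c ≠ 1) (hR : S.R.p = 2) (h : PP j.range L A W)
    (hA : ∀ t ∈ A, t ≠ 1 → ∃ r ∈ A, r ≠ 1 ∧ r ≠ t) {b : F} {z : G} (hb : b ≠ 0)
    (hu : j (S.e 2 0 b) * z ∈ W) (hz : z ∈ A) : False := by
  have hb1 : S.e 2 0 b ≠ 1 := fun h => hb (S.e_eq_one h).2
  have hcb := S.centralizer_z ⟨b, rfl⟩ hb1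
  have hu1 : j (S.e 2 0 b) * z ≠ 1 := by
    intro h1
    have h2 := (decomp_unique h.sK.cen (k := j (S.e 2 0 b)) (c := z) (k' := 1) (c' := 1) ⟨_, rfl⟩ (h.fp.sylQ.le hz)
      (one_mem _) (one_mem _) (by rw [h1, one_mul])).1
    exact hb1 (hj (by rw [h2, map_one]))
  obtain ⟨g, x', hL, hW, hx1, hxx, hm⟩ := match_cent hj h hu hu1 hz
  rw [hcb] at hm
  rcases types S hF hR hx1 hxx with ⟨y, b', hb', rfl⟩ | ⟨y, s, hs, rfl⟩
  · rw [cent_conj, S.centralizer_z ⟨b', rfl⟩ fun h => hb' (S.e_eq_one h).2] at hm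
    have hyA : cj (j y) A = A := cj_of_comm fun a ha => comm_of_cen (K := j.range) ⟨y, rfl⟩ (h.fp.sylQ.le ha)
    have hyP : (cj y S.PL).map j = cj (j y) (S.PL.map j) := by
      ext w
      rw [mem_cj]
      constructor
      · rintro ⟨x, hx, rfl⟩
        rw [SetLike.mem_coe, mem_cj] at hx
        exact ⟨_, hx, by simp⟩
      · rintro ⟨x, hx, e⟩
        refine ⟨y * x * y⁻¹, ?_, ?_⟩
        · exact mem_cj_mul hx
        · rw [map_mul, map_mul, map_inv, e]; group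
    rw [hyP, ← cj_mul] at hm
    have hg : ∀ x ∈ S.PL.map j, (g * j y) * x * (g * j y)⁻¹ ∈ S.PL.map j := by
      intro x hx
      rw [← hm]
      exact mem_cj_mul hx
    have hW' : W = cj (g * j y) A := by rw [cj_mul, hyA, hW]
    have hu' := hu
    obtain ⟨t, ht, ht1, -⟩ := h.symm.exists_inv
    obtain ⟨r, hr, hr1, hrt⟩ := hA t ht ht1
    have hkill := Kill.kill S hj hF hR hxf.inner (amb h) hg (fun r hr => by
      obtain ⟨y', hy', hc⟩ := part h hu hu1 hz hr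
      have h3 : y' ∈ S.Zc 2 := S.center_PL fun x hx => hj (hc x (by
        rw [← hcb] at hx
        exact mem_centralizer_singleton_iff.1 hx)).symm
      obtain ⟨b', rfl⟩ := h3
      exact ⟨b', by rw [← hW']; exact hy'⟩) (fun r hr hrW => h.A_W (by rw [hW']; exact hrW) hr)
      (fun b' hb' => by
        have h3 := h.K_W (by rw [hW']; exact hb') ⟨_, rfl⟩
        exact (S.e_eq_one (hj (h3.trans (map_one j).symm))).2) ht ht1
    rcases hkill r hr with h4 | h4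
    · exact hr1 h4
    · exact hrt h4
  · rw [cent_conj, S.centralizer_o hs] at hm
    have h1 : Nat.card S.PL = Nat.card S.HO := by
      rw [← card_map_of_injective hj (K := S.PL), ← hm, card_cj, card_map_of_injective (f := j) hj, card_cj]
    exact card_ne S hF hR h1

theorem conj_part {y x0 : X} {z : G} (h : PP j.range L A W) (hu : j (y * x0 * y⁻¹) * z ∈ W) (hz : z ∈ A) :
    PP j.range (cj (j y)⁻¹ L) A (cj (j y)⁻¹ W) ∧ j x0 * z ∈ cj (j y)⁻¹ W := by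
  refine ⟨h.conjK (inv_mem ⟨y, rfl⟩), ?_⟩
  rw [mem_cj, inv_inv]
  have h1 : j y * z = z * j y := comm_of_cen (K := j.range) ⟨y, rfl⟩ (h.fp.sylQ.le hz)
  have e : j y * (j x0 * z) * (j y)⁻¹ = j (y * x0 * y⁻¹) * z := by
    rw [map_mul, map_mul, map_inv]
    have h2 : (j y)⁻¹ * z = z * (j y)⁻¹ := (show Commute (j y) z from h1).inv_left.eq
    calc j y * (j x0 * z) * (j y)⁻¹ = j y * j x0 * (z * (j y)⁻¹) := by group
      _ = _ := by rw [← h2]; group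
  rw [e]; exact hu

include hj in
/-- **type `Z`** -/
theorem false_Z (hxf : XF X) (hF : ∃ c : Fˣ, c ≠ 1) (hR : S.R.p = 2) (h : PP j.range L A W)
    (hA : ∀ t ∈ A, t ≠ 1 → ∃ r ∈ A, r ≠ 1 ∧ r ≠ t) {y : X} {b : F} {z : G} (hb : b ≠ 0)
    (hu : j (y * S.e 2 0 b * y⁻¹) * z ∈ W) (hz : z ∈ A) : False := by
  obtain ⟨h1, h2⟩ := conj_part h hu hz
  exact false_Z1 S hj hxf hF hR h1 hA hb h2 hz

include hj in
/-- **type `O`** -/
theorem false_O1 (hxf : XF X) (hF : ∃ c : Fˣ, c ≠ 1) (hR : S.R.p = 2) (h : PP j.range L A W)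
    (hA : ∀ t ∈ A, t ≠ 1 → ∃ r ∈ A, r ≠ 1 ∧ r ≠ t) {s : F} {z : G} (hs : s ≠ 0)
    (hu : j (S.o 2 s) * z ∈ W) (hz : z ∈ A) : False := by
  have hs1 : S.o 2 s ≠ 1 := fun h => hs (S.o_eq_one h)
  have hcs := S.centralizer_o hs
  have hu1 : j (S.o 2 s) * z ≠ 1 := by
    intro h1
    have h2 := (decomp_unique h.sK.cen (k := j (S.o 2 s)) (c := z) (k' := 1) (c' := 1) ⟨_, rfl⟩ (h.fp.sylQ.le hz)
      (one_mem _) (one_mem _) (by rw [h1, one_mul])).1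
    exact hs1 (hj (by rw [h2, map_one]))
  obtain ⟨g, x', hL, hW, hx1, hxx, hm⟩ := match_cent hj h hu hu1 hz
  rw [hcs] at hm
  rcases types S hF hR hx1 hxx with ⟨y, b', hb', rfl⟩ | ⟨y, s', hs', rfl⟩
  · rw [cent_conj, S.centralizer_z ⟨b', rfl⟩ fun h => hb' (S.e_eq_one h).2] at hm
    have h1 : Nat.card S.PL = Nat.card S.HO := by
      rw [← card_map_of_injective hj (K := S.HO), ← hm, card_cj, card_map_of_injective (f := j) hj, card_cj]
    exact card_ne S hF hR h1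
  rw [cent_conj, S.centralizer_o hs'] at hm
  have hyA : cj (j y) A = A := cj_of_comm fun a ha => comm_of_cen (K := j.range) ⟨y, rfl⟩ (h.fp.sylQ.le ha)
  have hyP : (cj y S.HO).map j = cj (j y) (S.HO.map j) := by
    ext w
    rw [mem_cj]
    constructor
    · rintro ⟨x, hx, rfl⟩
      rw [SetLike.mem_coe, mem_cj] at hx
      exact ⟨_, hx, by simp⟩
    · rintro ⟨x, hx, e⟩
      refine ⟨y * x * y⁻¹, ?_, ?_⟩
      · exact mem_cj_mul hx
      · rw [map_mul, map_mul, map_inv, e]; group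
  rw [hyP, ← cj_mul] at hm
  have hyK : cj (j y) j.range = j.range := cj_self fun w hw =>
    mul_mem (mul_mem ⟨y, rfl⟩ hw) (inv_mem ⟨y, rfl⟩)
  set g' := g * j y with hg'
  have hW' : W = cj g' A := by rw [hg', cj_mul, hyA, hW]
  have hL' : L = cj g' j.range := by rw [hg', cj_mul, hyK, hL]
  have hgH : ∀ x ∈ S.HO.map j, g' * x * g'⁻¹ ∈ S.HO.map j := by
    intro x hx
    have h3 : g' * x * g'⁻¹ ∈ cj g' (S.HO.map j) := mem_cj_mul hx
    rwa [hm] at h3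
  -- the elements of `W`
  set c := j (S.e 1 1 0) with hc
  have hpart : ∀ v ∈ W, ∃ s' : F, c * v * c⁻¹ = v * j (S.e 2 0 s') := by
    intro v hv
    obtain ⟨k, ⟨y', rfl⟩, r, hr, -, e⟩ := h.dec hv
    have hcomm : ∀ x, x * S.o 2 s = S.o 2 s * x → x * y' = y' * x := by
      intro x hx
      apply hj
      rw [map_mul, map_mul]
      refine h.part_comm hu hu1 (h.sq hu) ⟨_, rfl⟩ hz rfl hv hr e _ ⟨x, rfl⟩ ?_
      rw [← map_mul, hx, map_mul]
    have h3 : y' ∈ S.HO := by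
      rw [← hcs, mem_centralizer_singleton_iff]
      exact (hcomm _ rfl).symm
    have h4 : y' ∈ S.XZ 5 := S.center_HO h3 fun x hx => (hcomm x (by
      rw [← hcs] at hx
      exact mem_centralizer_singleton_iff.1 hx)).symm
    obtain ⟨s', rfl⟩ := S.X5 h4
    refine ⟨s', ?_⟩
    have h5 : c * r = r * c := comm_of_cen (K := j.range) ⟨_, rfl⟩ (h.fp.sylQ.le hr)
    have h6 : r * j (S.e 2 0 s') = j (S.e 2 0 s') * r :=
      (comm_of_cen (K := j.range) ⟨_, rfl⟩ (h.fp.sylQ.le hr)).symm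
    have h7 : c * j (S.o 2 s') * c⁻¹ = j (S.o 2 s') * j (S.e 2 0 s') := by
      rw [hc, ← map_inv, ← map_mul, ← map_mul, e1_o2, map_mul]
    rw [e]
    calc c * (j (S.o 2 s') * r) * c⁻¹ = c * j (S.o 2 s') * (r * c) * c⁻¹ * c⁻¹ := by group
      _ = (c * j (S.o 2 s') * c⁻¹) * (c * (c * r * c⁻¹) * c⁻¹) := by rw [← h5]; group
      _ = (c * j (S.o 2 s') * c⁻¹) * r := by
          have e9 : c * r * c⁻¹ = r := by rw [h5]; group
          rw [e9, e9]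
      _ = j (S.o 2 s') * (r * j (S.e 2 0 s')) := by rw [h7, h6]; group
      _ = _ := by group
  have hc_s : c * (j (S.o 2 s) * z) * c⁻¹ = j (S.o 2 s) * z * j (S.e 2 0 s) := by
    have h5 : c * z * c⁻¹ = z := by
      rw [comm_of_cen (K := j.range) (k := c) ⟨_, rfl⟩ (h.fp.sylQ.le hz)]; group
    have h6 : z * j (S.e 2 0 s) = j (S.e 2 0 s) * z :=
      (comm_of_cen (K := j.range) ⟨_, rfl⟩ (h.fp.sylQ.le hz)).symm
    have h7 : c * j (S.o 2 s) * c⁻¹ = j (S.o 2 s) * j (S.e 2 0 s) := by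
      rw [hc, ← map_inv, ← map_mul, ← map_mul, e1_o2, map_mul]
    calc c * (j (S.o 2 s) * z) * c⁻¹ = (c * j (S.o 2 s) * c⁻¹) * (c * z * c⁻¹) := by group
      _ = j (S.o 2 s) * (j (S.e 2 0 s) * z) := by rw [h5, h7]; group
      _ = _ := by rw [← h6]; group
  -- `j (Z_4) ≤ L`
  have hZL : ∀ s' : F, j (S.e 2 0 s') ∈ L := by
    intro s'
    refine (h.cent_le hu hu1 (h.sq hu) ⟨_, rfl⟩ hz rfl).2.2 ?_
    rw [range_inf_cent hj, hcs]
    exact ⟨_, Perf.J37_HO S (mem_J (S.mX4 0 s') (by norm_num) (by norm_num)), rfl⟩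
  -- `c ∉ N(L)`
  have hcL : c ∉ normalizer (L : Set G) := by
    intro hcn
    have h3 := centralizer_conj_mem hcn (h.fp.sylU.le hu)
    rw [hc_s] at h3
    have h4 : j (S.e 2 0 s) ∈ centralizer (L : Set G) := by
      have h5 := mul_mem (inv_mem (h.fp.sylU.le hu)) h3
      have e : (j (S.o 2 s) * z)⁻¹ * (j (S.o 2 s) * z * j (S.e 2 0 s)) = j (S.e 2 0 s) := by group
      rwa [e] at h5
    have h5 := h.no_inv ⟨_, rfl⟩ h4 (by rw [← map_mul, z_sq S, map_one])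
    exact hs (S.e_eq_one (hj (h5.trans (map_one j).symm))).2
  have hWab : ∀ v ∈ W, ∀ w ∈ W, v * w = w * v := by
    intro v hv w hw
    have h3 := h.sq (mul_mem hv hw)
    have h4 := h.sq hv
    have h5 := h.sq hw
    calc v * w = v * (v * w * (v * w)) * w := by rw [h3]; group
      _ = (v * v) * w * v * (w * w) := by group
      _ = w * v := by rw [h4, h5]; group
  have hPP : PP L (cj c L) W (cj c W) := by
    refine ⟨h.symm.base, ⟨⟨c, hcL, rfl⟩, h.fp.sylU, ?_, ?_⟩⟩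
    · rw [centralizer_cj]; exact h.fp.sylU.cj c
    · intro q hq w hw
      rw [mem_cj] at hw
      obtain ⟨s', e⟩ := hpart _ hw
      have e1 : w = c⁻¹ * w * c * j (S.e 2 0 s') := by rw [← e]; group
      have h3 := hWab q hq _ hw
      have h4 : j (S.e 2 0 s') * q = q * j (S.e 2 0 s') := comm_of_cen (hZL s') (h.fp.sylU.le hq)
      rw [e1]
      calc q * (c⁻¹ * w * c * j (S.e 2 0 s')) = (q * (c⁻¹ * w * c)) * j (S.e 2 0 s') := by group
        _ = c⁻¹ * w * c * (q * j (S.e 2 0 s')) := by rw [h3]; group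
        _ = _ := by rw [← h4]; group
  have hP2 := hPP.conj g'⁻¹
  have eL : cj g'⁻¹ L = j.range := by rw [hL', ← cj_mul, inv_mul_cancel, cj_one]
  have eW : cj g'⁻¹ W = A := by rw [hW', ← cj_mul, inv_mul_cancel, cj_one]
  rw [eL, eW] at hP2
  -- the element `g'⁻¹ z_2(s) g'`
  have hgH' := conj_inv_mem hgH
  have hNO : ∀ x ∈ S.NO.map j, g'⁻¹ * x * g' ∈ S.NO.map j := by
    have h3 : (cj g'⁻¹ (S.NO.map j)).comap j ≤ S.NO := by
      refine Perf.O2_HO S hF hR ?_ ?_ ?_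
      · intro x hx
        rw [mem_comap, mem_cj, inv_inv] at hx
        have h4 := hgH' _ (map_mono (Perf.NO_HO S) hx)
        have e : g'⁻¹ * (g' * j x * g'⁻¹) * g' = j x := by group
        rw [e] at h4
        obtain ⟨x1, hx1, e1⟩ := h4
        rw [← hj e1]; exact hx1
      · exact (((Perf.two_NO S hR).map j).map _).comap_of_injective j hj
      · intro y hy x hx
        rw [mem_comap, mem_cj, inv_inv] at hx ⊢
        obtain ⟨y1, hy1, e1⟩ := hgH (j y) ⟨y, hy, rfl⟩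
        obtain ⟨x1, hx1, e2⟩ := hx
        refine ⟨y1 * x1 * y1⁻¹, Perf.NO_norm S hy1 hx1, ?_⟩
        rw [map_mul, map_mul, map_inv, e1, e2, map_mul, map_mul, map_inv]; group
    intro x hx
    obtain ⟨x1, hx1, e1⟩ := hgH' x (map_mono (Perf.NO_HO S) hx)
    refine ⟨x1, h3 ?_, e1⟩
    rw [mem_comap, mem_cj, inv_inv, e1]
    have e : g' * (g'⁻¹ * x * g') * g'⁻¹ = x := by group
    rw [e]; exact hx
  have hNO' : ∀ x ∈ S.NO.map j, g' * x * g'⁻¹ ∈ S.NO.map j := by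
    have h3 := conj_inv_mem (U := S.NO.map j) (g := g'⁻¹) (fun x hx => by rw [inv_inv]; exact hNO x hx)
    intro x hx
    have h4 := h3 x hx
    rwa [inv_inv] at h4
  have hV5 : ∀ x ∈ S.V5.map j, g'⁻¹ * x * g' ∈ S.V5.map j := by
    rintro _ ⟨v, hv, rfl⟩
    obtain ⟨x1, hx1, e1⟩ := hNO (j v) ⟨v, S.V5_le_NO hv, rfl⟩
    refine ⟨x1, ?_, e1⟩
    rw [SetLike.mem_coe, ← S.centralizer_NO, mem_centralizer_iff]
    intro y hy
    obtain ⟨y1, hy1, e2⟩ := hNO' (j y) ⟨y, hy, rfl⟩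
    rw [SetLike.mem_coe, ← S.centralizer_NO] at hv
    have h4 := congrArg j (mem_centralizer_iff.1 hv y1 hy1)
    rw [map_mul, map_mul] at h4
    apply hj
    rw [map_mul, map_mul, e1]
    calc j y * (g'⁻¹ * j v * g') = g'⁻¹ * ((g' * j y * g'⁻¹) * j v) * g' := by group
      _ = g'⁻¹ * (j v * (g' * j y * g'⁻¹)) * g' := by rw [← e2, h4]
      _ = _ := by group
  obtain ⟨x2, hx2, e2⟩ : ∃ x2 ∈ S.W46, j x2 = g'⁻¹ * j (S.e 2 0 s) * g' := by
    obtain ⟨v1, hv1, e3⟩ := hV5 (j (S.e 3 0 1)) ⟨_, S.mem_V5.2 ⟨0, 0, 1, by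
      rw [S.e_zero, S.o_zero, one_mul, one_mul]⟩, rfl⟩
    obtain ⟨h1, hh1, e4⟩ := hgH' (j (S.o 0 s)) ⟨_, Perf.X1_HO S (S.mX1 s), rfl⟩
    refine ⟨_, V5_comm S hv1 hh1, ?_⟩
    rw [z2_comm S s]
    simp only [map_mul, map_inv, e3, e4]
    group
  have hx21 : x2 ≠ 1 := by
    rintro rfl
    rw [map_one] at e2
    apply hs
    have h3 : j (S.e 2 0 s) = 1 := by
      calc j (S.e 2 0 s) = g' * (g'⁻¹ * j (S.e 2 0 s) * g') * g'⁻¹ := by group
        _ = 1 := by rw [← e2]; group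
    exact (S.e_eq_one (hj (h3.trans (map_one j).symm))).2
  obtain ⟨k, b, hb, rfl⟩ := W46_type S hx2 hx21
  have ha : g'⁻¹ * (j (S.o 2 s) * z) * g' ∈ A := by
    rw [← eW, mem_cj, inv_inv]
    have e : g' * (g'⁻¹ * (j (S.o 2 s) * z) * g') * g'⁻¹ = j (S.o 2 s) * z := by group
    rw [e]; exact hu
  refine false_Z S hj hxf hF hR hP2 hA hb (y := k) (z := g'⁻¹ * (j (S.o 2 s) * z) * g') ?_ ha
  rw [comm_of_cen (K := j.range) (k := j (k * S.e 2 0 b * k⁻¹)) ⟨_, rfl⟩ (h.fp.sylQ.le ha), e2, mem_cj, inv_inv, mem_cj]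
  have e : c⁻¹ * (g' * (g'⁻¹ * (j (S.o 2 s) * z) * g' * (g'⁻¹ * j (S.e 2 0 s) * g')) * g'⁻¹) * c =
      j (S.o 2 s) * z := by
    calc _ = c⁻¹ * (j (S.o 2 s) * z * j (S.e 2 0 s)) * c := by group
      _ = _ := by rw [← hc_s]; group
  rw [e]; exact hu

include hj in
/-- **no pair** -/
theorem false_of_PP (hxf : XF X) (hF : ∃ c : Fˣ, c ≠ 1) (hR : S.R.p = 2) (h : PP j.range L A W)
    (hA : ∀ t ∈ A, t ≠ 1 → ∃ r ∈ A, r ≠ 1 ∧ r ≠ t) : False := by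
  obtain ⟨u, hu, hu1, huu⟩ := h.exists_inv
  obtain ⟨k, ⟨x, rfl⟩, z, hz, -, rfl⟩ := h.dec hu
  obtain ⟨h1, h2, -⟩ := h.cent_le hu hu1 huu ⟨x, rfl⟩ hz rfl
  rcases types S hF hR (w := x) (fun h => h1 (by rw [h, map_one])) (hj (by rw [map_mul, h2, map_one])) with
    ⟨y, b, hb, rfl⟩ | ⟨y, s, hs, rfl⟩
  · exact false_Z S hj hxf hF hR h hA hb hu hz
  · obtain ⟨h3, h4⟩ := conj_part h hu hz
    exact false_O1 S hj hxf hF hR h3 hA hs h4 hz

end G

end Cfsg.Agent.OddHalf.D4.TwF.Types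

end
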